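import Mathlib
import Groth.Agent.Lib.Helper9.SubQuotLen
import Groth.Agent.Lib.Helper9.SubQuotLen2

set_option linter.style.haveILetI false
set_option linter.unusedVariables false
set_option linter.unusedSectionVars false
set_option autoImplicit false
set_option backward.isDefEq.respectTransparency.types false
set_option synthInstance.maxHeartbeats 400000
set_option maxHeartbeats 1600000

namespace Groth.Agent.Helper7.KL

open Groth.Agent.Helper9.SubQuotLen IsLocalRing

universe u

/-! helper7: additivity of lengths over the nonmaximal primes of a one-dimensional Noetherian local ring (the formula length(M/aM) = length(M[a]) + sum of localized lengths times orders) -/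

section General

variable {R : Type u} [CommRing R]

/-- multiplication by `a` on a module -/
noncomputable abbrev mu (a : R) (M : Type u) [AddCommGroup M] [Module R M] : M →ₗ[R] M :=
  LinearMap.lsmul R M a

theorem sqLen_top_right {M : Type u} [AddCommGroup M] [Module R M] (A : Submodule R M) :
    sqLen A ⊤ = Module.length R (M ⧸ A) := by
  unfold sqLen
  refine (Submodule.Quotient.equiv (A.submoduleOf ⊤) A
    (Submodule.topEquiv : (⊤ : Submodule R M) ≃ₗ[R] M) ?_).length_eq
  ext x
  constructor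
  · rintro ⟨y, hy, rfl⟩
    exact hy
  · intro hx
    exact ⟨⟨x, Submodule.mem_top⟩, hx, rfl⟩

/-- additivity of the Euler characteristic of multiplication by `a` -/
theorem e_add {N₁ N₂ N₃ : Type u} [AddCommGroup N₁] [Module R N₁] [AddCommGroup N₂]
    [Module R N₂] [AddCommGroup N₃] [Module R N₃] (a : R) (f : N₁ →ₗ[R] N₂) (g : N₂ →ₗ[R] N₃)
    (hf : Function.Injective f) (hg : Function.Surjective g) (hfg : Function.Exact f g) :
    ∃ X : ℕ∞,
      Module.length R (N₂ ⧸ LinearMap.range (mu a N₂)) + X =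
        Module.length R (N₃ ⧸ LinearMap.range (mu a N₃)) +
          Module.length R (N₁ ⧸ LinearMap.range (mu a N₁)) ∧
      Module.length R (LinearMap.ker (mu a N₃)) + Module.length R (LinearMap.ker (mu a N₁)) =
        X + Module.length R (LinearMap.ker (mu a N₂)) := by
  have hker : LinearMap.ker g = LinearMap.range f := LinearMap.exact_iff.1 hfg
  have hkf : LinearMap.ker f = ⊥ := LinearMap.ker_eq_bot.2 hf
  have hmu₁ : ∀ x : N₁, mu a N₁ x = a • x := fun x => rfl
  have hmu₂ : ∀ x : N₂, mu a N₂ x = a • x := fun x => rfl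
  have hmu₃ : ∀ x : N₃, mu a N₃ x = a • x := fun x => rfl
  have E1 : (LinearMap.range (mu a N₃)).comap g =
      LinearMap.range f ⊔ LinearMap.range (mu a N₂) := by
    ext x
    rw [Submodule.mem_comap, LinearMap.mem_range, Submodule.mem_sup]
    constructor
    · rintro ⟨z, hz⟩
      obtain ⟨w, rfl⟩ := hg z
      rw [hmu₃, ← map_smul] at hz
      refine ⟨x - a • w, ?_, a • w, ⟨w, hmu₂ w⟩, by abel⟩
      rw [← hker, LinearMap.mem_ker, map_sub, hz, sub_self]
    · rintro ⟨n, hn, m, ⟨w, rfl⟩, rfl⟩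
      rw [← hker, LinearMap.mem_ker] at hn
      refine ⟨g w, ?_⟩
      rw [map_add, hn, zero_add, hmu₃, hmu₂, map_smul]
  have E2 : (LinearMap.range (mu a N₁)).map f = (LinearMap.range f).map (mu a N₂) := by
    ext x
    rw [Submodule.mem_map, Submodule.mem_map]
    constructor
    · rintro ⟨y, ⟨w, rfl⟩, rfl⟩
      exact ⟨f w, ⟨w, rfl⟩, by rw [hmu₂, hmu₁, map_smul]⟩
    · rintro ⟨n, ⟨w, rfl⟩, rfl⟩
      exact ⟨a • w, ⟨w, hmu₁ w⟩, by rw [hmu₂, map_smul]⟩
  have E3 : (LinearMap.ker (mu a N₃)).comap g = (LinearMap.range f).comap (mu a N₂) := by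
    ext x
    rw [Submodule.mem_comap, LinearMap.mem_ker, Submodule.mem_comap, ← hker, LinearMap.mem_ker,
      hmu₃, hmu₂, map_smul]
  have E4 : (LinearMap.ker (mu a N₁)).map f = LinearMap.ker (mu a N₂) ⊓ LinearMap.range f := by
    ext x
    rw [Submodule.mem_map, Submodule.mem_inf, LinearMap.mem_ker]
    constructor
    · rintro ⟨y, hy, rfl⟩
      rw [LinearMap.mem_ker, hmu₁] at hy
      exact ⟨by rw [hmu₂, ← map_smul, hy, map_zero], ⟨y, rfl⟩⟩
    · rintro ⟨hx, ⟨y, rfl⟩⟩
      rw [hmu₂, ← map_smul] at hx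
      refine ⟨y, ?_, rfl⟩
      rw [LinearMap.mem_ker, hmu₁]
      exact hf (by rw [hx, map_zero])
  have E5 : (LinearMap.range f ⊔ LinearMap.ker (mu a N₂)).map (mu a N₂) =
      (LinearMap.range f).map (mu a N₂) := by
    apply le_antisymm
    · rw [Submodule.map_le_iff_le_comap]
      refine sup_le (Submodule.le_comap_map _ _) (fun x hx => ?_)
      rw [Submodule.mem_comap, LinearMap.mem_ker.1 hx]
      exact zero_mem _
    · exact Submodule.map_mono le_sup_left
  have E6 : ((LinearMap.range f).comap (mu a N₂)).map (mu a N₂) =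
      LinearMap.range f ⊓ LinearMap.range (mu a N₂) := by
    rw [Submodule.map_comap_eq, inf_comm]
  set Nn : Submodule R N₂ := LinearMap.range f with hNn
  set aM : Submodule R N₂ := LinearMap.range (mu a N₂) with haM
  set T : Submodule R N₂ := LinearMap.ker (mu a N₂) with hT
  set aN : Submodule R N₂ := Nn.map (mu a N₂) with haN
  set C : Submodule R N₂ := Nn.comap (mu a N₂) with hC
  have hAB : Nn ⊔ T ≤ C := by
    refine sup_le (fun x hx => ?_) (fun x hx => ?_)
    · show mu a N₂ x ∈ Nn
      rw [hmu₂]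
      exact Nn.smul_mem a hx
    · show mu a N₂ x ∈ Nn
      rw [LinearMap.mem_ker.1 hx]
      exact zero_mem _
  have haNle : aN ≤ Nn ⊓ aM := by
    rintro _ ⟨n, hn, rfl⟩
    exact ⟨by rw [hmu₂]; exact Nn.smul_mem a hn, ⟨n, rfl⟩⟩
  have F1 : Module.length R (N₂ ⧸ aM) = sqLen aM ⊤ := (sqLen_top_right aM).symm
  have F2 : Module.length R (N₃ ⧸ LinearMap.range (mu a N₃)) = sqLen (Nn ⊔ aM) ⊤ := by
    have h1 := sqLen_comap g hg (A := LinearMap.range (mu a N₃)) (B := ⊤) le_top
    rw [E1, Submodule.comap_top] at h1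
    rw [h1, sqLen_top_right]
  have F3 : Module.length R (N₁ ⧸ LinearMap.range (mu a N₁)) = sqLen aN Nn := by
    have h1 := sqLen_map f (A := LinearMap.range (mu a N₁)) (B := ⊤) le_top
      (by rw [hkf, bot_inf_eq]; exact bot_le)
    rw [E2, Submodule.map_top] at h1
    rw [h1, sqLen_top_right]
  have F4 : Module.length R (LinearMap.ker (mu a N₃)) = sqLen Nn C := by
    have h1 := sqLen_comap g hg (A := ⊥) (B := LinearMap.ker (mu a N₃)) bot_le
    rw [E3, Submodule.comap_bot, hker] at h1
    rw [h1, sqLen_bot_left]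
  have F5 : Module.length R (LinearMap.ker (mu a N₁)) = sqLen ⊥ (T ⊓ Nn) := by
    have h1 := sqLen_map f (A := ⊥) (B := LinearMap.ker (mu a N₁)) bot_le
      (le_of_eq (by rw [hkf, bot_inf_eq]))
    rw [E4, Submodule.map_bot] at h1
    rw [h1, sqLen_bot_left]
  have F6 : Module.length R T = sqLen ⊥ T := (sqLen_bot_left T).symm
  have G1 : sqLen aM ⊤ = sqLen aM (Nn ⊔ aM) + sqLen (Nn ⊔ aM) ⊤ :=
    sqLen_add le_sup_right le_top
  have G2 : sqLen aM (Nn ⊔ aM) = sqLen (Nn ⊓ aM) Nn := sqLen_sup Nn aM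
  have G3 : sqLen aN Nn = sqLen aN (Nn ⊓ aM) + sqLen (Nn ⊓ aM) Nn :=
    sqLen_add haNle inf_le_left
  have G4 : sqLen aN (Nn ⊓ aM) = sqLen (Nn ⊔ T) C := by
    have h1 := sqLen_map (mu a N₂) (A := Nn ⊔ T) (B := C) hAB (inf_le_left.trans le_sup_right)
    rw [E5, E6] at h1
    exact h1
  have G5 : sqLen Nn C = sqLen Nn (Nn ⊔ T) + sqLen (Nn ⊔ T) C := sqLen_add le_sup_left hAB
  have G6 : sqLen Nn (Nn ⊔ T) = sqLen (T ⊓ Nn) T := by
    rw [sup_comm]
    exact sqLen_sup T Nn
  have G7 : sqLen ⊥ T = sqLen ⊥ (T ⊓ Nn) + sqLen (T ⊓ Nn) T := sqLen_add bot_le inf_le_left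
  refine ⟨sqLen aN (Nn ⊓ aM), ?_, ?_⟩
  · rw [F1, F2, F3, G1, G2, G3]
    abel
  · rw [F4, F5, F6, G5, G6, G7, G4]
    abel

theorem length_self_of_ringEquiv {A B : Type u} [CommRing A] [CommRing B] (e : A ≃+* B) :
    Module.length A A = Module.length B B := by
  letI : Algebra A B := e.toRingHom.toAlgebra
  have h1 : Module.length A B = Module.length B B :=
    Module.length_eq_of_surjective (S := A) (R := B) (M := B) e.surjective
  rw [← h1]
  let l : A →ₗ[A] B :=
    { toFun := e
      map_add' := map_add e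
      map_smul' := fun r x => by
        show e (r * x) = e r * e x
        exact map_mul e r x }
  exact (LinearEquiv.ofBijective l e.bijective).length_eq

end General

section Local

variable {R : Type u} [CommRing R] [IsLocalRing R]

/-- the nonmaximal primes -/
abbrev QQ (R : Type u) [CommRing R] [IsLocalRing R] : Type u :=
  {q : PrimeSpectrum R // q.asIdeal ≠ maximalIdeal R}

/-- the length of the localization of a module at a prime -/
noncomputable def lenAt (q : PrimeSpectrum R) (M : Type u) [AddCommGroup M] [Module R M] : ℕ∞ :=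
  Module.length (Localization.AtPrime q.asIdeal) (LocalizedModule q.asIdeal.primeCompl M)

/-- the order of `a` on `R/q` -/
noncomputable def cq (a : R) (q : PrimeSpectrum R) : ℕ∞ :=
  Ring.ord (R ⧸ q.asIdeal) (Ideal.Quotient.mk q.asIdeal a)

/-- the weighted sum of orders -/
noncomputable def SS (a : R) (M : Type u) [AddCommGroup M] [Module R M] : ℕ∞ :=
  ∑ᶠ q : QQ R, lenAt q.1 M * cq a q.1

theorem lenAt_add (q : PrimeSpectrum R) {N₁ N₂ N₃ : Type u} [AddCommGroup N₁] [Module R N₁]
    [AddCommGroup N₂] [Module R N₂] [AddCommGroup N₃] [Module R N₃] (f : N₁ →ₗ[R] N₂)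
    (g : N₂ →ₗ[R] N₃) (hf : Function.Injective f) (hg : Function.Surjective g)
    (hfg : Function.Exact f g) : lenAt q N₂ = lenAt q N₁ + lenAt q N₃ :=
  Module.length_eq_add_of_exact (LocalizedModule.map q.asIdeal.primeCompl f)
    (LocalizedModule.map q.asIdeal.primeCompl g) (LocalizedModule.map_injective _ f hf)
    (LocalizedModule.map_surjective _ g hg)
    (LocalizedModule.map_exact q.asIdeal.primeCompl f g hfg)

theorem lenAt_of_subsingleton (q : PrimeSpectrum R) (M : Type u) [AddCommGroup M] [Module R M]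
    [Subsingleton M] : lenAt q M = 0 := by
  unfold lenAt
  rw [Module.length_eq_zero_iff, LocalizedModule.subsingleton_iff]
  intro m
  exact ⟨1, Submonoid.one_mem _, Subsingleton.elim _ _⟩

theorem lenAt_quot_of_not_le (q : PrimeSpectrum R) (p : Ideal R) (h : ¬ p ≤ q.asIdeal) :
    lenAt q (R ⧸ p) = 0 := by
  unfold lenAt
  rw [Module.length_eq_zero_iff, LocalizedModule.subsingleton_iff]
  obtain ⟨s, hs, hsq⟩ := Set.not_subset.mp h
  intro m
  refine ⟨s, hsq, ?_⟩
  obtain ⟨a, rfl⟩ := Ideal.Quotient.mk_surjective m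
  rw [Algebra.smul_def, Ideal.Quotient.algebraMap_eq, ← map_mul, Ideal.Quotient.eq_zero_iff_mem]
  exact p.mul_mem_right _ hs

theorem length_loc_quot_self (p : Ideal R) [p.IsPrime] :
    Module.length (Localization.AtPrime p) (LocalizedModule p.primeCompl (R ⧸ p)) = 1 := by
  set x₀ : LocalizedModule p.primeCompl (R ⧸ p) := LocalizedModule.mk 1 1 with hx₀def
  have hx₀ : x₀ ≠ 0 := by
    intro h0
    rw [hx₀def, ← LocalizedModule.zero_mk (1 : p.primeCompl), LocalizedModule.mk_eq] at h0
    obtain ⟨u, hu⟩ := h0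
    rw [one_smul, one_smul, smul_zero, Submonoid.smul_def, Algebra.smul_def, mul_one,
      Ideal.Quotient.algebraMap_eq, Ideal.Quotient.eq_zero_iff_mem] at hu
    exact u.2 hu
  let φ : Localization.AtPrime p →ₗ[Localization.AtPrime p]
      LocalizedModule p.primeCompl (R ⧸ p) :=
    LinearMap.toSpanSingleton (Localization.AtPrime p) _ x₀
  have hφ : ∀ a, φ a = a • x₀ := fun a => rfl
  have hsurj : Function.Surjective φ := by
    intro y
    induction y using LocalizedModule.induction_on with
    | h m s =>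
      obtain ⟨a, rfl⟩ := Ideal.Quotient.mk_surjective m
      refine ⟨Localization.mk a s, ?_⟩
      rw [hφ, hx₀def, LocalizedModule.mk_smul_mk, mul_one, Algebra.smul_def, mul_one,
        Ideal.Quotient.algebraMap_eq]
  have hker : maximalIdeal (Localization.AtPrime p) ≤ LinearMap.ker φ := by
    intro a ha
    obtain ⟨r, s, rfl⟩ := IsLocalization.exists_mk'_eq p.primeCompl a
    have hr : r ∈ p := (IsLocalization.AtPrime.mk'_mem_maximal_iff _ p r s).mp ha
    rw [LinearMap.mem_ker, hφ, hx₀def, ← Localization.mk_eq_mk', LocalizedModule.mk_smul_mk,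
      Algebra.smul_def, mul_one,
      Ideal.Quotient.algebraMap_eq, Ideal.Quotient.eq_zero_iff_mem.mpr hr, LocalizedModule.zero_mk]
  have h1 : Module.length (Localization.AtPrime p)
      (LocalizedModule p.primeCompl (R ⧸ p)) ≤ 1 := by
    let ψ : (Localization.AtPrime p ⧸ maximalIdeal (Localization.AtPrime p))
        →ₗ[Localization.AtPrime p] LocalizedModule p.primeCompl (R ⧸ p) :=
      Submodule.liftQ _ φ hker
    have hψ : Function.Surjective ψ := by
      intro y
      obtain ⟨a, ha⟩ := hsurj y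
      exact ⟨Submodule.Quotient.mk a, ha⟩
    have h2 := Module.length_le_of_surjective ψ hψ
    haveI : IsSimpleModule (Localization.AtPrime p)
        (Localization.AtPrime p ⧸ maximalIdeal (Localization.AtPrime p)) :=
      isSimpleModule_iff_isCoatom.mpr
        (Ideal.isMaximal_def.mp (maximalIdeal.isMaximal (Localization.AtPrime p)))
    have h3 : Module.length (Localization.AtPrime p)
        (Localization.AtPrime p ⧸ maximalIdeal (Localization.AtPrime p)) = 1 :=
      Module.length_eq_one _ _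
    rw [h3] at h2
    exact h2
  have h2 : 1 ≤ Module.length (Localization.AtPrime p)
      (LocalizedModule p.primeCompl (R ⧸ p)) := by
    haveI : Nontrivial (LocalizedModule p.primeCompl (R ⧸ p)) := ⟨⟨x₀, 0, hx₀⟩⟩
    exact Order.one_le_iff_pos.mpr Module.length_pos
  exact le_antisymm h1 h2

theorem lenAt_quot_self (q : PrimeSpectrum R) : lenAt q (R ⧸ q.asIdeal) = 1 :=
  length_loc_quot_self q.asIdeal

/-- the statement proved by dévissage -/
def Mot (a : R) (N : Type u) [AddCommGroup N] [Module R N] : Prop :=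
  Module.length R (LinearMap.ker (mu a N)) ≠ ⊤ ∧
    Module.length R (N ⧸ LinearMap.range (mu a N)) =
      Module.length R (LinearMap.ker (mu a N)) + SS a N

theorem SS_add [Finite (QQ R)] (a : R) {N₁ N₂ N₃ : Type u} [AddCommGroup N₁] [Module R N₁]
    [AddCommGroup N₂] [Module R N₂] [AddCommGroup N₃] [Module R N₃] (f : N₁ →ₗ[R] N₂)
    (g : N₂ →ₗ[R] N₃) (hf : Function.Injective f) (hg : Function.Surjective g)
    (hfg : Function.Exact f g) : SS a N₂ = SS a N₁ + SS a N₃ := by
  unfold SS
  rw [← finsum_add_distrib (Set.toFinite _) (Set.toFinite _)]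
  exact finsum_congr (fun q => by rw [lenAt_add q.1 f g hf hg hfg, add_mul])

theorem SS_eq_zero (a : R) (N : Type u) [AddCommGroup N] [Module R N]
    (h : ∀ q : QQ R, lenAt q.1 N = 0) : SS a N = 0 := by
  unfold SS
  exact finsum_eq_zero_of_forall_eq_zero (fun q => by rw [h q, zero_mul])

theorem mot_exact [Finite (QQ R)] (a : R) {N₁ N₂ N₃ : Type u} [AddCommGroup N₁] [Module R N₁]
    [AddCommGroup N₂] [Module R N₂] [AddCommGroup N₃] [Module R N₃] (f : N₁ →ₗ[R] N₂)
    (g : N₂ →ₗ[R] N₃) (hf : Function.Injective f) (hg : Function.Surjective g)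
    (hfg : Function.Exact f g) (h1 : Mot a N₁) (h3 : Mot a N₃) : Mot a N₂ := by
  obtain ⟨X, hX1, hX2⟩ := e_add a f g hf hg hfg
  have hfin : Module.length R (LinearMap.ker (mu a N₃)) +
      Module.length R (LinearMap.ker (mu a N₁)) ≠ ⊤ := by
    intro h
    rcases ENat.add_eq_top.1 h with h' | h'
    · exact h3.1 h'
    · exact h1.1 h'
  have hXfin : X ≠ ⊤ := by
    intro h
    rw [h, top_add] at hX2
    exact hfin hX2
  have hT2 : Module.length R (LinearMap.ker (mu a N₂)) ≠ ⊤ := by
    intro h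
    rw [h, add_top] at hX2
    exact hfin hX2
  refine ⟨hT2, ?_⟩
  apply ENat.add_left_injective_of_ne_top hXfin
  show Module.length R (N₂ ⧸ LinearMap.range (mu a N₂)) + X =
    (Module.length R (LinearMap.ker (mu a N₂)) + SS a N₂) + X
  rw [hX1, h3.2, h1.2, SS_add a f g hf hg hfg]
  calc Module.length R (LinearMap.ker (mu a N₃)) + SS a N₃ +
        (Module.length R (LinearMap.ker (mu a N₁)) + SS a N₁)
      = (Module.length R (LinearMap.ker (mu a N₃)) + Module.length R (LinearMap.ker (mu a N₁))) +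
          (SS a N₁ + SS a N₃) := by abel
    _ = (X + Module.length R (LinearMap.ker (mu a N₂))) + (SS a N₁ + SS a N₃) := by rw [hX2]
    _ = _ := by abel

theorem mot_of_length_ne_top (a : R) (N : Type u) [AddCommGroup N] [Module R N]
    (hN : Module.length R N ≠ ⊤) (hS : SS a N = 0) : Mot a N := by
  have h1 := length_ker_add_range (mu a N)
  have h2 : Module.length R N = Module.length R (LinearMap.range (mu a N)) +
      Module.length R (N ⧸ LinearMap.range (mu a N)) :=
    Module.length_eq_add_of_exact (LinearMap.range (mu a N)).subtype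
      (LinearMap.range (mu a N)).mkQ (Submodule.subtype_injective _)
      (Submodule.mkQ_surjective _) (LinearMap.exact_subtype_mkQ _)
  have hr : Module.length R (LinearMap.range (mu a N)) ≠ ⊤ := by
    intro h
    rw [h, top_add] at h2
    exact hN h2
  have hk : Module.length R (LinearMap.ker (mu a N)) ≠ ⊤ := by
    intro h
    rw [h, top_add] at h1
    exact hN h1
  refine ⟨hk, ?_⟩
  rw [hS, add_zero]
  apply ENat.add_right_injective_of_ne_top hr
  show Module.length R (LinearMap.range (mu a N)) +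
      Module.length R (N ⧸ LinearMap.range (mu a N)) =
    Module.length R (LinearMap.range (mu a N)) + Module.length R (LinearMap.ker (mu a N))
  rw [← h2, h1, add_comm]

theorem mot_subsingleton (a : R) (N : Type u) [AddCommGroup N] [Module R N] [Subsingleton N] :
    Mot a N :=
  mot_of_length_ne_top a N (by rw [Module.length_eq_zero]; exact ENat.zero_ne_top)
    (SS_eq_zero a N (fun q => lenAt_of_subsingleton q.1 N))

theorem mot_quot_max (a : R) (p : Ideal R) (hp : p = maximalIdeal R) : Mot a (R ⧸ p) := by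
  subst hp
  haveI : IsSimpleModule R (R ⧸ maximalIdeal R) :=
    isSimpleModule_iff_isCoatom.mpr (Ideal.isMaximal_def.mp (maximalIdeal.isMaximal R))
  have h1 : Module.length R (R ⧸ maximalIdeal R) = 1 := Module.length_eq_one _ _
  refine mot_of_length_ne_top a _ (by rw [h1]; exact ENat.one_ne_top)
    (SS_eq_zero a _ (fun q => lenAt_quot_of_not_le q.1 _ (fun hle => ?_)))
  exact q.2 ((maximalIdeal.isMaximal R).eq_of_le q.1.isPrime.ne_top hle).symm

theorem mot_quot_prime (a : R) (q₀ : QQ R) (h1 : a ∉ q₀.1.asIdeal)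
    (hdim : ∀ (q : QQ R) (p : PrimeSpectrum R), p.asIdeal ≤ q.1.asIdeal → p = q.1) :
    Mot a (R ⧸ q₀.1.asIdeal) := by
  obtain ⟨p, hp⟩ : ∃ p : Ideal R, p = q₀.1.asIdeal := ⟨_, rfl⟩
  have hk : LinearMap.ker (mu a (R ⧸ q₀.1.asIdeal)) = ⊥ := by
    rw [LinearMap.ker_eq_bot']
    intro x hx
    obtain ⟨r, rfl⟩ := Ideal.Quotient.mk_surjective x
    change a • (Ideal.Quotient.mk q₀.1.asIdeal r) = 0 at hx
    rw [Algebra.smul_def, Ideal.Quotient.algebraMap_eq, ← map_mul,
      Ideal.Quotient.eq_zero_iff_mem] at hx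
    rw [Ideal.Quotient.eq_zero_iff_mem]
    exact (q₀.1.isPrime.mem_or_mem hx).resolve_left h1
  have hq : Module.length R ((R ⧸ q₀.1.asIdeal) ⧸ LinearMap.range (mu a (R ⧸ q₀.1.asIdeal))) =
      cq a q₀.1 := by
    unfold cq Ring.ord
    have e1 : (Ideal.span {Ideal.Quotient.mk q₀.1.asIdeal a} :
        Ideal (R ⧸ q₀.1.asIdeal)).restrictScalars R =
        LinearMap.range (mu a (R ⧸ q₀.1.asIdeal)) := by
      ext x
      rw [Submodule.restrictScalars_mem, Ideal.mem_span_singleton', LinearMap.mem_range]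
      constructor
      · rintro ⟨c, rfl⟩
        refine ⟨c, ?_⟩
        change a • c = _
        rw [Algebra.smul_def, Ideal.Quotient.algebraMap_eq, mul_comm]
      · rintro ⟨c, rfl⟩
        refine ⟨c, ?_⟩
        change _ = a • c
        rw [Algebra.smul_def, Ideal.Quotient.algebraMap_eq, mul_comm]
    rw [← Module.length_eq_of_surjective (S := R) (R := R ⧸ q₀.1.asIdeal)
      (M := (R ⧸ q₀.1.asIdeal) ⧸ Ideal.span {Ideal.Quotient.mk q₀.1.asIdeal a})
      Ideal.Quotient.mk_surjective]
    rw [← (Submodule.Quotient.restrictScalarsEquiv R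
      (Ideal.span {Ideal.Quotient.mk q₀.1.asIdeal a} : Ideal (R ⧸ q₀.1.asIdeal))).length_eq]
    exact (Submodule.quotEquivOfEq _ _ e1).length_eq.symm
  have hS : SS a (R ⧸ q₀.1.asIdeal) = cq a q₀.1 := by
    unfold SS
    rw [finsum_eq_single _ q₀ (fun q hq => ?_), lenAt_quot_self, one_mul]
    have hnle : ¬ q₀.1.asIdeal ≤ q.1.asIdeal :=
      fun hle => hq (Subtype.ext (hdim q q₀.1 hle).symm)
    rw [lenAt_quot_of_not_le q.1 _ hnle, zero_mul]
  refine ⟨?_, ?_⟩
  · rw [hk, Module.length_bot]
    exact ENat.zero_ne_top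
  · rw [hq, hk, Module.length_bot, zero_add, hS]

/-- additivity of lengths over the nonmaximal primes: the general module version -/
theorem kl_main [IsNoetherianRing R] [Finite (QQ R)] (a : R)
    (h1 : ∀ q : QQ R, a ∉ q.1.asIdeal)
    (hdim : ∀ (q : QQ R) (p : PrimeSpectrum R), p.asIdeal ≤ q.1.asIdeal → p = q.1)
    (M : Type u) [AddCommGroup M] [Module R M] [hM : Module.Finite R M] : Mot a M := by
  refine IsNoetherianRing.induction_on_isQuotientEquivQuotientPrime R hM
    (motive := fun N _ _ _ => Mot a N) ?_ ?_ ?_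
  · intro N _ _ _ _
    exact mot_subsingleton a N
  · intro N _ _ _ p e
    have hp : Mot a (R ⧸ p.asIdeal) := by
      by_cases hpm : p.asIdeal = maximalIdeal R
      · exact mot_quot_max a _ hpm
      · exact mot_quot_prime a ⟨p, hpm⟩ (h1 ⟨p, hpm⟩) hdim
    exact mot_exact a (e.symm : (R ⧸ p.asIdeal) →ₗ[R] N) (0 : N →ₗ[R] PUnit.{u + 1})
      e.symm.injective (Function.surjective_to_subsingleton _)
      ((LinearMap.exact_zero_iff_surjective _ (e.symm : (R ⧸ p.asIdeal) →ₗ[R] N)).2
        e.symm.surjective) hp (mot_subsingleton a PUnit)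
  · intro N₁ _ _ _ N₂ _ _ _ N₃ _ _ _ f g hf hg hfg h1' h3'
    exact mot_exact a f g hf hg hfg h1' h3'

/-- additivity of lengths over the nonmaximal primes: the case of the ring itself -/
theorem kl_ring [IsNoetherianRing R] [Finite (QQ R)] (a : R) (ha : ∀ x : R, a * x = 0 → x = 0)
    (h1 : ∀ q : QQ R, a ∉ q.1.asIdeal)
    (hdim : ∀ (q : QQ R) (p : PrimeSpectrum R), p.asIdeal ≤ q.1.asIdeal → p = q.1) :
    Module.length R (R ⧸ Ideal.span {a}) = ∑ᶠ q : QQ R, lenAt q.1 R * cq a q.1 := by
  obtain ⟨-, h2⟩ := kl_main a h1 hdim R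
  have hk : LinearMap.ker (mu a R) = ⊥ := by
    rw [LinearMap.ker_eq_bot']
    intro x hx
    exact ha x hx
  have hr : LinearMap.range (mu a R) = Ideal.span {a} := by
    ext x
    rw [LinearMap.mem_range, Ideal.mem_span_singleton']
    constructor
    · rintro ⟨c, rfl⟩
      exact ⟨c, mul_comm c a⟩
    · rintro ⟨c, rfl⟩
      exact ⟨c, mul_comm a c⟩
  rw [hk, Module.length_bot, zero_add, hr] at h2
  exact h2

theorem lenAt_ring_eq (q : PrimeSpectrum R) (S : Type u) [CommRing S] [Algebra R S]
    [IsLocalization.AtPrime S q.asIdeal] : lenAt q R = Module.length S S := by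
  have h1 : lenAt q R = Module.length (Localization.AtPrime q.asIdeal)
      (Localization.AtPrime q.asIdeal) := rfl
  rw [h1]
  exact length_self_of_ringEquiv
    (IsLocalization.algEquiv q.asIdeal.primeCompl (Localization.AtPrime q.asIdeal) S).toRingEquiv

theorem finite_QQ [IsNoetherianRing R]
    (hdim : ∀ (q : QQ R) (p : PrimeSpectrum R), p.asIdeal ≤ q.1.asIdeal → p = q.1) :
    Finite (QQ R) := by
  have hfin := minimalPrimes.finite_of_isNoetherianRing R
  haveI := hfin.to_subtype
  let F : QQ R → (minimalPrimes R) := fun q => ⟨q.1.asIdeal, by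
    refine ⟨⟨q.1.isPrime, bot_le⟩, ?_⟩
    rintro p ⟨hp, -⟩ hpq
    have := hdim q ⟨p, hp⟩ hpq
    rw [← this]⟩
  refine Finite.of_injective F ?_
  intro q q' h
  have h' : q.1.asIdeal = q'.1.asIdeal := congrArg Subtype.val h
  exact Subtype.ext (PrimeSpectrum.ext h')

end Local

end Groth.Agent.Helper7.KL
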