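import Mathlib
import Groth.Prelude.Def_C1
import Groth.Agent.Lib.Lead.SecOrd1
import Groth.Agent.Lib.Helper7.DivFin.SecGen
import Groth.Agent.Lib.Helper7.CycPull.DivPull
import Groth.Agent.Lib.Helper7.KL.Alg

set_option linter.style.haveILetI false
set_option linter.unusedVariables false
set_option linter.unusedSectionVars false
set_option autoImplicit false
set_option backward.isDefEq.respectTransparency.types false
set_option synthInstance.maxHeartbeats 400000
set_option maxHeartbeats 1600000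

namespace Groth.Agent.Helper7.KL

open CategoryTheory CategoryTheory.Limits AlgebraicGeometry IsLocalRing TopologicalSpace Opposite
open Groth.Agent.Lead.SecOrd Groth.Agent.Helper7.CycLim Groth.Agent.Helper7.DivFin
open Groth.Agent.Helper7.CycPull

universe u

/-! helper7: local rings at generizations as localizations of the local ring; primes of the local ring versus generizations; orders along immediate specializations as lengths -/

instance kerPrime {X : Scheme.{u}} (y ξ : X) (h : ξ ⤳ y) :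
    (RingHom.ker (Cyc.specMap y ξ h)).IsPrime := RingHom.ker_isPrime _

section Affine

variable {X : Scheme.{u}} {V : X.Opens} (hV : IsAffineOpen V)

/-- contraction of the kernel of the specialization map to the sections over an affine open -/
theorem comap_ker_specMap (y ξ : X) (hy : y ∈ V) (h : ξ ⤳ y) :
    (RingHom.ker (Cyc.specMap y ξ h)).comap (X.presheaf.germ V y hy).hom =
      (hV.primeIdealOf ⟨ξ, h.mem_open V.2 hy⟩).asIdeal := by
  ext t
  rw [Ideal.mem_comap, RingHom.mem_ker, specMap_germ y ξ h V hy t]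
  exact residue_germ_eq_zero_iff hV ⟨ξ, h.mem_open V.2 hy⟩ t

include hV in
theorem ideal_eq_of_comap_eq (y : X) (hy : y ∈ V) (J J' : Ideal (X.presheaf.stalk y))
    (h : J.comap (X.presheaf.germ V y hy).hom = J'.comap (X.presheaf.germ V y hy).hom) :
    J = J' := by
  letI : Algebra Γ(X, V) (X.presheaf.stalk y) := (X.presheaf.germ V y hy).hom.toAlgebra
  haveI : IsLocalization (hV.primeIdealOf ⟨y, hy⟩).asIdeal.primeCompl (X.presheaf.stalk y) :=
    hV.isLocalization_stalk ⟨y, hy⟩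
  have h1 := IsLocalization.map_under (hV.primeIdealOf ⟨y, hy⟩).asIdeal.primeCompl
    (X.presheaf.stalk y) J
  have h2 := IsLocalization.map_under (hV.primeIdealOf ⟨y, hy⟩).asIdeal.primeCompl
    (X.presheaf.stalk y) J'
  have h3 : J.under Γ(X, V) = J'.under Γ(X, V) := h
  rw [← h1, ← h2, h3]

end Affine

section Points

variable {X : Scheme.{u}}

theorem exists_affine (y : X) : ∃ V : X.Opens, IsAffineOpen V ∧ y ∈ V := by
  obtain ⟨_, ⟨V, hV, rfl⟩, h1, -⟩ :=
    X.isBasis_affineOpens.exists_subset_of_mem_open (Set.mem_univ y) isOpen_univ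
  exact ⟨V, hV, h1⟩

theorem ker_specMap_injective (y ξ ξ' : X) (h : ξ ⤳ y) (h' : ξ' ⤳ y)
    (he : RingHom.ker (Cyc.specMap y ξ h) = RingHom.ker (Cyc.specMap y ξ' h')) : ξ = ξ' := by
  obtain ⟨V, hV, hy⟩ := exists_affine y
  have h1 := comap_ker_specMap hV y ξ hy h
  have h2 := comap_ker_specMap hV y ξ' hy h'
  rw [he, h2] at h1
  have h3 : hV.primeIdealOf ⟨ξ', h'.mem_open V.2 hy⟩ = hV.primeIdealOf ⟨ξ, h.mem_open V.2 hy⟩ :=
    PrimeSpectrum.ext h1
  have h4 : hV.fromSpec (hV.primeIdealOf ⟨ξ', h'.mem_open V.2 hy⟩) =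
      hV.fromSpec (hV.primeIdealOf ⟨ξ, h.mem_open V.2 hy⟩) := by rw [h3]
  rw [hV.fromSpec_primeIdealOf, hV.fromSpec_primeIdealOf] at h4
  exact h4.symm

theorem exists_point_of_prime (y : X) (q : Ideal (X.presheaf.stalk y)) [hq : q.IsPrime] :
    ∃ (ξ : X) (h : ξ ⤳ y), RingHom.ker (Cyc.specMap y ξ h) = q := by
  obtain ⟨V, hV, hy⟩ := exists_affine y
  obtain ⟨Qv, hQv⟩ : ∃ Qv : Ideal Γ(X, V), Qv = q.comap (X.presheaf.germ V y hy).hom := ⟨_, rfl⟩
  haveI hQp : Qv.IsPrime := by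
    rw [hQv]
    exact Ideal.comap_isPrime _ q
  have hξV := fromSpec_mem hV ⟨Qv, hQp⟩
  have hP := primeIdealOf_fromSpec hV ⟨Qv, hQp⟩ hξV
  have hle : (hV.primeIdealOf ⟨hV.fromSpec ⟨Qv, hQp⟩, hξV⟩).asIdeal ≤
      (hV.primeIdealOf ⟨y, hy⟩).asIdeal := by
    rw [hP]
    intro t ht
    rw [mem_primeIdealOf_iff hV ⟨y, hy⟩ t]
    have ht' : (X.presheaf.germ V y hy).hom t ∈ q := by
      have : t ∈ Qv := ht
      rw [hQv] at this
      exact this
    exact IsLocalRing.le_maximalIdeal hq.ne_top ht'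
  have hsp : hV.fromSpec ⟨Qv, hQp⟩ ⤳ y :=
    (primeIdealOf_le_iff hV ⟨_, hξV⟩ ⟨y, hy⟩).1 hle
  refine ⟨_, hsp, ?_⟩
  apply ideal_eq_of_comap_eq hV y hy
  rw [comap_ker_specMap hV y _ hy hsp, ← hQv]
  exact congrArg PrimeSpectrum.asIdeal hP

theorem ker_specMap_eq_max_iff (y ξ : X) (h : ξ ⤳ y) :
    RingHom.ker (Cyc.specMap y ξ h) = maximalIdeal (X.presheaf.stalk y) ↔ ξ = y := by
  obtain ⟨V, hV, hy⟩ := exists_affine y
  have hmax : (maximalIdeal (X.presheaf.stalk y)).comap (X.presheaf.germ V y hy).hom =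
      (hV.primeIdealOf ⟨y, hy⟩).asIdeal := by
    ext t
    rw [Ideal.mem_comap, mem_primeIdealOf_iff hV ⟨y, hy⟩ t]
  constructor
  · intro he
    have h1 := comap_ker_specMap hV y ξ hy h
    rw [he, hmax] at h1
    have h3 : hV.primeIdealOf ⟨y, hy⟩ = hV.primeIdealOf ⟨ξ, h.mem_open V.2 hy⟩ :=
      PrimeSpectrum.ext h1
    have h4 : hV.fromSpec (hV.primeIdealOf ⟨y, hy⟩) =
        hV.fromSpec (hV.primeIdealOf ⟨ξ, h.mem_open V.2 hy⟩) := by rw [h3]
    rw [hV.fromSpec_primeIdealOf, hV.fromSpec_primeIdealOf] at h4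
    exact h4.symm
  · intro he
    subst he
    apply ideal_eq_of_comap_eq hV ξ hy
    rw [comap_ker_specMap hV ξ ξ hy h, hmax]

theorem specializes_of_ker_le (y ξ ξ' : X) (h : ξ ⤳ y) (h' : ξ' ⤳ y)
    (hle : RingHom.ker (Cyc.specMap y ξ h) ≤ RingHom.ker (Cyc.specMap y ξ' h')) : ξ ⤳ ξ' := by
  obtain ⟨V, hV, hy⟩ := exists_affine y
  have h1 := comap_ker_specMap hV y ξ hy h
  have h2 := comap_ker_specMap hV y ξ' hy h'
  have h3 : (hV.primeIdealOf ⟨ξ, h.mem_open V.2 hy⟩).asIdeal ≤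
      (hV.primeIdealOf ⟨ξ', h'.mem_open V.2 hy⟩).asIdeal := by
    rw [← h1, ← h2]
    exact Ideal.comap_mono hle
  exact (primeIdealOf_le_iff hV ⟨ξ, _⟩ ⟨ξ', _⟩).1 h3

/-- the local ring at a generization is the localization of the local ring at the prime of the
generization -/
theorem isLocalization_stalk_of_specializes (y ξ : X) (h : ξ ⤳ y) :
    @IsLocalization _ _ (RingHom.ker (Cyc.specMap y ξ h)).primeCompl (X.presheaf.stalk ξ) _
      (X.presheaf.stalkSpecializes h).hom.toAlgebra := by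
  obtain ⟨V, hV, hy⟩ := exists_affine y
  letI : Algebra (X.presheaf.stalk y) (X.presheaf.stalk ξ) :=
    (X.presheaf.stalkSpecializes h).hom.toAlgebra
  have hξV : ξ ∈ V := h.mem_open V.2 hy
  letI : Algebra Γ(X, V) (X.presheaf.stalk y) := (X.presheaf.germ V y hy).hom.toAlgebra
  letI : Algebra Γ(X, V) (X.presheaf.stalk ξ) := (X.presheaf.germ V ξ hξV).hom.toAlgebra
  haveI : IsScalarTower Γ(X, V) (X.presheaf.stalk y) (X.presheaf.stalk ξ) :=
    IsScalarTower.of_algebraMap_eq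
      (fun t => (TopCat.Presheaf.germ_stalkSpecializes_apply X.presheaf hy h t).symm)
  obtain ⟨Py, hPy⟩ : ∃ P : Ideal Γ(X, V), P = (hV.primeIdealOf ⟨y, hy⟩).asIdeal := ⟨_, rfl⟩
  obtain ⟨Pξ, hPξ⟩ : ∃ P : Ideal Γ(X, V), P = (hV.primeIdealOf ⟨ξ, hξV⟩).asIdeal := ⟨_, rfl⟩
  haveI : Py.IsPrime := hPy ▸ (hV.primeIdealOf ⟨y, hy⟩).isPrime
  haveI : Pξ.IsPrime := hPξ ▸ (hV.primeIdealOf ⟨ξ, hξV⟩).isPrime
  haveI : IsLocalization Py.primeCompl (X.presheaf.stalk y) := by
    subst hPy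
    exact hV.isLocalization_stalk ⟨y, hy⟩
  haveI : IsLocalization Pξ.primeCompl (X.presheaf.stalk ξ) := by
    subst hPξ
    exact hV.isLocalization_stalk ⟨ξ, hξV⟩
  have hPle : Pξ ≤ Py := by
    rw [hPy, hPξ]
    exact (primeIdealOf_le_iff hV ⟨ξ, hξV⟩ ⟨y, hy⟩).2 h
  have hle : Py.primeCompl ≤ Pξ.primeCompl := fun t ht hmem => ht (hPle hmem)
  haveI h1 : IsLocalization (Pξ.primeCompl.map (algebraMap Γ(X, V) (X.presheaf.stalk y)))
      (X.presheaf.stalk ξ) :=
    IsLocalization.isLocalization_of_submonoid_le (X.presheaf.stalk y) (X.presheaf.stalk ξ)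
      Py.primeCompl Pξ.primeCompl hle
  have hcomap : ∀ t : Γ(X, V), algebraMap Γ(X, V) (X.presheaf.stalk y) t ∈
      RingHom.ker (Cyc.specMap y ξ h) ↔ t ∈ Pξ := by
    intro t
    have h2 := comap_ker_specMap hV y ξ hy h
    rw [hPξ, ← h2]
    exact Iff.rfl
  have hM : Pξ.primeCompl.map (algebraMap Γ(X, V) (X.presheaf.stalk y)) ≤
      (RingHom.ker (Cyc.specMap y ξ h)).primeCompl := by
    rintro _ ⟨t, ht, rfl⟩ hmem
    exact ht ((hcomap t).1 hmem)
  refine IsLocalization.isLocalization_of_is_exists_mul_mem (X.presheaf.stalk ξ) _ _ hM ?_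
  rintro ⟨x, hx⟩
  obtain ⟨⟨a, s⟩, hxs⟩ := IsLocalization.surj Py.primeCompl x
  refine ⟨algebraMap Γ(X, V) (X.presheaf.stalk y) s, ?_⟩
  have hxs' : algebraMap Γ(X, V) (X.presheaf.stalk y) s * x =
      algebraMap Γ(X, V) (X.presheaf.stalk y) a := by
    rw [mul_comm]
    exact hxs
  show algebraMap Γ(X, V) (X.presheaf.stalk y) s * x ∈ _
  rw [hxs']
  refine ⟨a, ?_, rfl⟩
  intro ha
  have h3 : algebraMap Γ(X, V) (X.presheaf.stalk y) a ∈ RingHom.ker (Cyc.specMap y ξ h) :=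
    (hcomap a).2 ha
  rw [← hxs'] at h3
  rcases (RingHom.ker_isPrime (Cyc.specMap y ξ h)).mem_or_mem h3 with h4 | h4
  · exact s.2 (hPle ((hcomap s).1 h4))
  · exact hx h4

theorem lenAt_eq_length_stalk (y ξ : X) (h : ξ ⤳ y) :
    lenAt (⟨RingHom.ker (Cyc.specMap y ξ h), RingHom.ker_isPrime _⟩ :
        PrimeSpectrum (X.presheaf.stalk y)) (X.presheaf.stalk y) =
      Module.length (X.presheaf.stalk ξ) (X.presheaf.stalk ξ) := by
  letI : Algebra (X.presheaf.stalk y) (X.presheaf.stalk ξ) :=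
    (X.presheaf.stalkSpecializes h).hom.toAlgebra
  haveI : IsLocalization.AtPrime (X.presheaf.stalk ξ)
      (⟨RingHom.ker (Cyc.specMap y ξ h), RingHom.ker_isPrime _⟩ :
        PrimeSpectrum (X.presheaf.stalk y)).asIdeal :=
    isLocalization_stalk_of_specializes y ξ h
  exact lenAt_ring_eq _ (X.presheaf.stalk ξ)

theorem isFractionRing_locQuot (y ξ : X) (h : ξ ⤳ y) :
    IsFractionRing (Cyc.LocQuot y ξ h) (X.residueField ξ) := by
  obtain ⟨V, hV, hy⟩ := exists_affine y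
  have hξV : ξ ∈ V := h.mem_open V.2 hy
  have hinj : Function.Injective (algebraMap (Cyc.LocQuot y ξ h) (X.residueField ξ)) :=
    RingHom.kerLift_injective (Cyc.specMap y ξ h)
  have hmk : ∀ r, algebraMap (Cyc.LocQuot y ξ h) (X.residueField ξ)
      (Ideal.Quotient.mk _ r) = Cyc.specMap y ξ h r := fun r => rfl
  rw [IsFractionRing, isLocalization_iff]
  refine ⟨?_, ?_, ?_⟩
  · rintro ⟨x, hx⟩
    have hx0 : x ≠ 0 := nonZeroDivisors.ne_zero hx
    exact isUnit_iff_ne_zero.2 (fun h0 => hx0 (hinj (by rw [h0, map_zero])))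
  · intro g
    by_cases hg : g = 0
    · refine ⟨(0, 1), ?_⟩
      rw [hg, zero_mul, map_zero]
    · obtain ⟨a, s, ha, hs, hev⟩ := exists_frac hV ⟨ξ, hξV⟩ g hg
      have hne : Ideal.Quotient.mk (RingHom.ker (Cyc.specMap y ξ h))
          ((X.presheaf.germ V y hy).hom s) ≠ 0 := by
        intro h0
        rw [Ideal.Quotient.eq_zero_iff_mem, RingHom.mem_ker, specMap_germ y ξ h V hy s] at h0
        exact hs ((residue_germ_eq_zero_iff hV ⟨ξ, hξV⟩ s).1 h0)
      refine ⟨(Ideal.Quotient.mk _ ((X.presheaf.germ V y hy).hom a),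
        ⟨Ideal.Quotient.mk _ ((X.presheaf.germ V y hy).hom s),
          mem_nonZeroDivisors_of_ne_zero hne⟩), ?_⟩
      show g * algebraMap (Cyc.LocQuot y ξ h) (X.residueField ξ)
        (Ideal.Quotient.mk _ ((X.presheaf.germ V y hy).hom s)) =
        algebraMap (Cyc.LocQuot y ξ h) (X.residueField ξ)
          (Ideal.Quotient.mk _ ((X.presheaf.germ V y hy).hom a))
      rw [hmk, hmk, specMap_germ, specMap_germ]
      exact hev
  · intro x x' hxx
    exact ⟨1, by rw [hinj hxx]⟩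

theorem krullDimLE_one_locQuot (y ξ : X) (h : ξ ⤳ y)
    (himm : ∀ ζ : X, ξ ⤳ ζ → ζ ⤳ y → ζ = ξ ∨ ζ = y) :
    Ring.KrullDimLE 1 (Cyc.LocQuot y ξ h) := by
  rw [Ring.krullDimLE_one_iff_of_noZeroDivisors]
  intro I hI0 hIp
  obtain ⟨K, hK⟩ : ∃ K : Ideal (X.presheaf.stalk y), K = RingHom.ker (Cyc.specMap y ξ h) :=
    ⟨_, rfl⟩
  obtain ⟨J, hJ⟩ : ∃ J : Ideal (X.presheaf.stalk y),
      J = I.comap (Ideal.Quotient.mk (RingHom.ker (Cyc.specMap y ξ h))) := ⟨_, rfl⟩
  haveI hJp : J.IsPrime := by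
    rw [hJ]
    exact Ideal.comap_isPrime _ I
  have hmapJ : J.map (Ideal.Quotient.mk (RingHom.ker (Cyc.specMap y ξ h))) = I := by
    rw [hJ]
    exact Ideal.map_comap_of_surjective _ Ideal.Quotient.mk_surjective I
  obtain ⟨ζ, hζ, hker⟩ := exists_point_of_prime y J
  have hKJ : RingHom.ker (Cyc.specMap y ξ h) ≤ J := by
    rw [hJ]
    intro t ht
    rw [Ideal.mem_comap, Ideal.Quotient.eq_zero_iff_mem.2 ht]
    exact zero_mem _
  have h1 : ξ ⤳ ζ := specializes_of_ker_le y ξ ζ h hζ (by rw [hker]; exact hKJ)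
  rcases himm ζ h1 hζ with h2 | h2
  · exfalso
    subst h2
    apply hI0
    rw [← hmapJ, ← hker]
    exact Ideal.map_quotient_self _
  · have hJm : J = maximalIdeal (X.presheaf.stalk y) := by
      rw [← hker]
      exact (ker_specMap_eq_max_iff y ζ hζ).2 h2
    rw [← hmapJ, hJm]
    haveI : (maximalIdeal (X.presheaf.stalk y)).IsMaximal := maximalIdeal.isMaximal _
    refine Ideal.IsMaximal.map_of_surjective_of_ker_le Ideal.Quotient.mk_surjective ?_
    rw [Ideal.mk_ker]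
    exact IsLocalRing.le_maximalIdeal (RingHom.ker_isPrime (Cyc.specMap y ξ h)).ne_top

/-- the order along an immediate specialization of the image of an element of the local ring -/
theorem ordAt_specMap_eq [IsLocallyNoetherian X] (y ξ : X) (h : ξ ⤳ y)
    (himm : ∀ ζ : X, ξ ⤳ ζ → ζ ⤳ y → ζ = ξ ∨ ζ = y) (r : X.presheaf.stalk y)
    (hr : Cyc.specMap y ξ h r ≠ 0) :
    Cyc.ordAt y ξ h (Cyc.specMap y ξ h r) =
      ((Ring.ord (Cyc.LocQuot y ξ h)
        (Ideal.Quotient.mk (RingHom.ker (Cyc.specMap y ξ h)) r)).toNat : ℤ) := by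
  haveI := isFractionRing_locQuot y ξ h
  haveI := krullDimLE_one_locQuot y ξ h himm
  have hne : (Ideal.Quotient.mk (RingHom.ker (Cyc.specMap y ξ h)) r) ≠ 0 := by
    intro h0
    rw [Ideal.Quotient.eq_zero_iff_mem, RingHom.mem_ker] at h0
    exact hr h0
  have hmk : algebraMap (Cyc.LocQuot y ξ h) (X.residueField ξ)
      (Ideal.Quotient.mk _ r) = Cyc.specMap y ξ h r := rfl
  unfold Cyc.ordAt
  rw [ordFrac_eq, ← hmk]
  exact toZ_ordFrac_algebraMap (K := X.residueField ξ) (Ideal.Quotient.mk _ r) hne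

end Points

section Sum

theorem toNat_finsum_mul {ι : Type*} [Finite ι] (A B : ι → ℕ∞) (N : ℕ∞) (hN : N ≠ ⊤)
    (h : N = ∑ᶠ i, A i * B i) :
    (N.toNat : ℤ) = ∑ᶠ i, ((A i).toNat : ℤ) * ((B i).toNat : ℤ) := by
  haveI := Fintype.ofFinite ι
  rw [finsum_eq_sum_of_fintype] at h ⊢
  have hne : ∀ i ∈ (Finset.univ : Finset ι), A i * B i ≠ ⊤ := ENat.sum_ne_top.1 (h ▸ hN)
  rw [h, ENat.toNat_sum hne, Nat.cast_sum]
  refine Finset.sum_congr rfl (fun i _ => ?_)
  rw [ENat.toNat_mul, Nat.cast_mul]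

end Sum

end Groth.Agent.Helper7.KL
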