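import Mathlib
import Groth.Prelude.Def_C1
import Groth.Agent.Lib.Helper7.KL.Stalk

set_option linter.style.haveILetI false
set_option linter.unusedVariables false
set_option linter.unusedSectionVars false
set_option autoImplicit false
set_option backward.isDefEq.respectTransparency.types false
set_option synthInstance.maxHeartbeats 400000
set_option maxHeartbeats 1600000

namespace Groth.Agent.Helper7.KL

open CategoryTheory CategoryTheory.Limits AlgebraicGeometry IsLocalRing TopologicalSpace Opposite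
open Groth.Agent.Helper1.QcCech Groth.Agent.Helper1.LGen Groth.Agent.Lead.RkSch
open Groth.Agent.Lead.SecOrd Groth.Agent.Helper7.CycLim Groth.Agent.Helper7.DivFin
open Groth.Agent.Helper7.CycPull

universe u

/-! helper7: the local length formula at a point of codimension one and the zero cycle of a regular section as a first Chern class (S1925) -/

theorem krullDimLE_one_of_hdim {R : Type u} [CommRing R] [IsLocalRing R]
    (hdim : ∀ (q : QQ R) (p : PrimeSpectrum R), p.asIdeal ≤ q.1.asIdeal → p = q.1) :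
    Ring.KrullDimLE 1 R := by
  refine Ring.KrullDimLE.mk₁ (fun I hI => ?_)
  by_cases hIm : I = maximalIdeal R
  · right
    rw [hIm]
    exact maximalIdeal.isMaximal R
  · left
    refine ⟨⟨hI, bot_le⟩, ?_⟩
    rintro p ⟨hp, -⟩ hpI
    have h1 := hdim ⟨⟨I, hI⟩, hIm⟩ ⟨p, hp⟩ hpI
    have h2 : p = I := congrArg PrimeSpectrum.asIdeal h1
    rw [h2]

variable {Y : Scheme.{u}}

/-- the local formula: the length of `O_y/(r)` is the sum over the proper generizations of `y` of
the length of their local rings times the order of `r` along the specialization -/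
theorem local_formula [IsLocallyNoetherian Y] (δ : Y → ℤ) (hδ : Cyc.IsDimFun Y δ) (k : ℤ)
    (hdim : ∀ y : Y, δ y ≤ k + 1) (y : Y) (hy : δ y = k) (r : Y.presheaf.stalk y)
    (hreg : ∀ x : Y.presheaf.stalk y, r * x = 0 → x = 0)
    (hr : ∀ (ξ : Y) (h : ξ ⤳ y), ξ ≠ y → Cyc.specMap y ξ h r ≠ 0) :
    ((Module.length (Y.presheaf.stalk y)
      (Y.presheaf.stalk y ⧸ Ideal.span {r})).toNat : ℤ) =
      ∑ᶠ t : {ξ : Y // ξ ⤳ y ∧ ξ ≠ y},
        ((Module.length (Y.presheaf.stalk t.1) (Y.presheaf.stalk t.1)).toNat : ℤ) *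
          Cyc.ordAt y t.1 t.2.1 (Cyc.specMap y t.1 t.2.1 r) := by
  have hδt : ∀ t : {ξ : Y // ξ ⤳ y ∧ ξ ≠ y}, δ t.1 = k + 1 := by
    intro t
    have h1 := (hδ t.1 y t.2.1 t.2.2).1
    have h2 := hdim t.1
    omega
  have himm : ∀ t : {ξ : Y // ξ ⤳ y ∧ ξ ≠ y}, ∀ ζ : Y, t.1 ⤳ ζ → ζ ⤳ y → ζ = t.1 ∨ ζ = y := by
    intro t ζ h1 h2
    by_contra hcon
    rw [not_or] at hcon
    have h3 := (hδ t.1 ζ h1 (Ne.symm hcon.1)).1
    have h4 := (hδ ζ y h2 hcon.2).1
    have h5 := hδt t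
    omega
  let Ψ : {ξ : Y // ξ ⤳ y ∧ ξ ≠ y} → QQ (Y.presheaf.stalk y) := fun t =>
    ⟨⟨RingHom.ker (Cyc.specMap y t.1 t.2.1), RingHom.ker_isPrime _⟩,
      fun he => t.2.2 ((ker_specMap_eq_max_iff y t.1 t.2.1).1 he)⟩
  have hΨinj : Function.Injective Ψ := by
    intro t t' htt
    have h1 : RingHom.ker (Cyc.specMap y t.1 t.2.1) = RingHom.ker (Cyc.specMap y t'.1 t'.2.1) :=
      congrArg (fun q : QQ (Y.presheaf.stalk y) => q.1.asIdeal) htt
    exact Subtype.ext (ker_specMap_injective y t.1 t'.1 t.2.1 t'.2.1 h1)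
  have hΨsurj : Function.Surjective Ψ := by
    intro q
    haveI := q.1.isPrime
    obtain ⟨ξ, h, hker⟩ := exists_point_of_prime y q.1.asIdeal
    have hne : ξ ≠ y := by
      intro he
      apply q.2
      rw [← hker]
      exact (ker_specMap_eq_max_iff y ξ h).2 he
    exact ⟨⟨ξ, h, hne⟩, Subtype.ext (PrimeSpectrum.ext hker)⟩
  have hdim' : ∀ (q : QQ (Y.presheaf.stalk y)) (p : PrimeSpectrum (Y.presheaf.stalk y)),
      p.asIdeal ≤ q.1.asIdeal → p = q.1 := by
    intro q p hle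
    obtain ⟨t, rfl⟩ := hΨsurj q
    haveI := p.isPrime
    obtain ⟨ζ, hζ, hkζ⟩ := exists_point_of_prime y p.asIdeal
    have h1 : ζ ⤳ t.1 := specializes_of_ker_le y ζ t.1 hζ t.2.1 (by rw [hkζ]; exact hle)
    have h2 : ζ = t.1 := by
      by_contra hne
      have h3 := (hδ ζ t.1 h1 hne).1
      have h4 := hdim ζ
      have h5 := hδt t
      omega
    subst h2
    exact PrimeSpectrum.ext hkζ.symm
  haveI := finite_QQ hdim'
  haveI := krullDimLE_one_of_hdim hdim'
  have h1' : ∀ q : QQ (Y.presheaf.stalk y), r ∉ q.1.asIdeal := by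
    intro q
    obtain ⟨t, rfl⟩ := hΨsurj q
    intro hmem
    exact hr t.1 t.2.1 t.2.2 (RingHom.mem_ker.1 hmem)
  have hKL := kl_ring r hreg h1' hdim'
  have hfin : Module.length (Y.presheaf.stalk y) (Y.presheaf.stalk y ⧸ Ideal.span {r}) ≠ ⊤ :=
    Ring.ord_ne_top (mem_nonZeroDivisors_iff_left.2 hreg)
  rw [toNat_finsum_mul _ _ _ hfin hKL]
  symm
  refine finsum_eq_of_bijective Ψ ⟨hΨinj, hΨsurj⟩ (fun t => ?_)
  have e1 : lenAt (Ψ t).1 (Y.presheaf.stalk y) =
      Module.length (Y.presheaf.stalk t.1) (Y.presheaf.stalk t.1) :=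
    lenAt_eq_length_stalk y t.1 t.2.1
  have e2 := ordAt_specMap_eq y t.1 t.2.1 (himm t) r (hr t.1 t.2.1 t.2.2)
  rw [e2, e1]
  rfl

/-- the zero cycle of a regular section is the first Chern class of the fundamental cycle
(S1925) -/
theorem S1925_main (Y : Scheme.{u}) (δ : Y → ℤ) (hY : Cyc.IsSetup Y δ) (L : Y.Modules)
    (hL : PicF.IsInvertible L) (k : ℤ) (hdim : ∀ y : Y, δ y ≤ k + 1)
    (s : L.presheaf.obj (Opposite.op ⊤))
    (hZ : ∀ y : Y, (L.presheaf.germ ⊤ y trivial) s ∈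
      IsLocalRing.maximalIdeal (Y.presheaf.stalk y) •
        (⊤ : Submodule (Y.presheaf.stalk y) (L.presheaf.stalk y)) → δ y ≤ k)
    (hreg : ∀ y : Y, δ y = k →
      Function.Injective (fun a : Y.presheaf.stalk y => a • (L.presheaf.germ ⊤ y trivial) s)) :
    Cyc.zeroSectionFun δ k L s =
      Cyc.c1CapFun δ L (Cyc.subschemeFun δ (k + 1) (𝟙 Y))
        (fun ξ => Submodule.Quotient.mk ((L.presheaf.germ ⊤ ξ trivial) s)) := by
  haveI := hY.1
  have hδ := hY.2.2
  funext y
  unfold Cyc.c1CapFun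
  by_cases hd : δ y = k
  swap
  · have hL0 : Cyc.zeroSectionFun δ k L s y = 0 := by
      unfold Cyc.zeroSectionFun
      rw [if_neg hd]
    rw [hL0]
    symm
    refine finsum_eq_zero_of_forall_eq_zero (fun ξ => ?_)
    unfold Cyc.subschemeFun Cyc.secDivFun
    by_cases h1 : δ ξ = k + 1
    · rw [dif_neg, mul_zero]
      rintro ⟨-, h2⟩
      apply hd
      omega
    · rw [if_neg h1, zero_mul]
  obtain ⟨W, a, hyW, ha⟩ := exists_isGen hL y
  obtain ⟨hx0, hx1⟩ := (freeAt_iff a y hyW).1 (freeAt_of_isGen ha y hyW)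
  obtain ⟨r, hr⟩ := hx1 (L.presheaf.germ ⊤ y trivial s)
  have hLHS : Cyc.zeroSectionFun δ k L s y =
      ((Module.length (Y.presheaf.stalk y)
        (Y.presheaf.stalk y ⧸ Ideal.span {r})).toNat : ℤ) := by
    unfold Cyc.zeroSectionFun
    rw [if_pos hd]
    have ht : ∃ t : L.presheaf.stalk y, Submodule.span (Y.presheaf.stalk y) {t} = ⊤ := by
      refine ⟨L.presheaf.germ W y hyW a, ?_⟩
      rw [eq_top_iff]
      intro v _
      obtain ⟨ρ, hρ⟩ := hx1 v
      rw [← hρ]
      exact Submodule.smul_mem _ _ (Submodule.subset_span rfl)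
    rw [dif_pos ht]
    obtain ⟨u, hu⟩ := hx1 (Classical.choose ht)
    have hmem : L.presheaf.germ W y hyW a ∈
        Submodule.span (Y.presheaf.stalk y) {Classical.choose ht} := by
      rw [Classical.choose_spec ht]
      trivial
    obtain ⟨v, hv⟩ := Submodule.mem_span_singleton.1 hmem
    have hvu : v * u = 1 := by
      have h1 : (v * u - 1) • L.presheaf.germ W y hyW a = 0 := by
        rw [sub_smul, one_smul, mul_smul, hu, hv, sub_self]
      exact sub_eq_zero.1 (hx0 _ h1)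
    have huu : IsUnit u := IsUnit.of_mul_eq_one v (by rw [mul_comm]; exact hvu)
    have hf : ∃ f : Y.presheaf.stalk y,
        (L.presheaf.germ ⊤ y trivial) s = f • Classical.choose ht := by
      refine ⟨r * v, ?_⟩
      rw [mul_smul, hv, hr]
    rw [dif_pos hf]
    obtain ⟨f₀, hf₀, hf₀def⟩ : ∃ f₀ : Y.presheaf.stalk y,
        ((L.presheaf.germ ⊤ y trivial) s = f₀ • Classical.choose ht) ∧
          f₀ = Classical.choose hf := ⟨_, Classical.choose_spec hf, rfl⟩
    rw [← hf₀def]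
    have hkey : r = f₀ * u := by
      have h1 : (r - f₀ * u) • L.presheaf.germ W y hyW a = 0 := by
        rw [sub_smul, mul_smul, hu, hr, ← hf₀, sub_self]
      exact sub_eq_zero.1 (hx0 _ h1)
    rw [hkey, Ideal.span_singleton_mul_right_unit huu]
  have hgs : ∀ (ξ : Y) (h : ξ ⤳ y), L.presheaf.germ ⊤ ξ trivial s =
      (Y.presheaf.stalkSpecializes h).hom r • L.presheaf.germ W ξ (h.mem_open W.2 hyW) a := by
    intro ξ h
    have h1 : spG L h (L.presheaf.germ ⊤ y trivial s) = L.presheaf.germ ⊤ ξ trivial s :=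
      spG_germ L h (U := ⊤) (show y ∈ (⊤ : Y.Opens) from trivial) s
    rw [← h1, ← hr, spG_smul, spG_germ]
  have hreg' : ∀ x : Y.presheaf.stalk y, r * x = 0 → x = 0 := by
    intro x hx
    have h0 : (x * r) • L.presheaf.germ W y hyW a = 0 := by
      rw [mul_comm, hx, zero_smul]
    have h1 : x • (L.presheaf.germ ⊤ y trivial) s =
        (0 : Y.presheaf.stalk y) • (L.presheaf.germ ⊤ y trivial) s := by
      rw [zero_smul, ← hr, smul_smul]
      exact h0
    exact hreg y hd h1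
  have hrne : ∀ (ξ : Y) (h : ξ ⤳ y), ξ ≠ y → Cyc.specMap y ξ h r ≠ 0 := by
    intro ξ h hne
    have hδξ : k < δ ξ := by
      have := (hδ ξ y h hne).1
      omega
    have hnot : ¬ (L.presheaf.germ ⊤ ξ trivial) s ∈
        IsLocalRing.maximalIdeal (Y.presheaf.stalk ξ) •
          (⊤ : Submodule (Y.presheaf.stalk ξ) (L.presheaf.stalk ξ)) := by
      intro hmem
      have := hZ ξ hmem
      omega
    have h2 : mkF L ξ ((Y.presheaf.stalkSpecializes h).hom r •
        L.presheaf.germ W ξ (h.mem_open W.2 hyW) a) ≠ 0 := by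
      rw [← hgs ξ h]
      intro h0
      exact hnot ((Submodule.Quotient.mk_eq_zero _).1 h0)
    exact residue_ne_zero_of_mkF_ne_zero ha ξ _ _ h2
  have hsupp : Function.support (fun ξ : Y => Cyc.subschemeFun δ (k + 1) (𝟙 Y) ξ *
      Cyc.secDivFun δ L ξ (Submodule.Quotient.mk ((L.presheaf.germ ⊤ ξ trivial) s)) y) ⊆
      {ξ : Y | ξ ⤳ y ∧ ξ ≠ y} := by
    intro ξ hξ
    rw [Function.mem_support] at hξ
    by_contra hcon
    apply hξ
    unfold Cyc.secDivFun
    rw [dif_neg, mul_zero]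
    rintro ⟨h1, h2⟩
    apply hcon
    refine ⟨h1, ?_⟩
    rintro rfl
    omega
  have hR : (∑ᶠ ξ : Y, Cyc.subschemeFun δ (k + 1) (𝟙 Y) ξ *
      Cyc.secDivFun δ L ξ (Submodule.Quotient.mk ((L.presheaf.germ ⊤ ξ trivial) s)) y) =
      ∑ᶠ t : {ξ : Y // ξ ⤳ y ∧ ξ ≠ y},
        ((Module.length (Y.presheaf.stalk t.1) (Y.presheaf.stalk t.1)).toNat : ℤ) *
          Cyc.ordAt y t.1 t.2.1 (Cyc.specMap y t.1 t.2.1 r) := by
    have h1 := finsum_subtype_support {ξ : Y | ξ ⤳ y ∧ ξ ≠ y} _ hsupp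
    rw [← h1]
    refine finsum_congr (fun t => ?_)
    have hδt : δ t.1 = k + 1 := by
      have h2 := (hδ t.1 y t.2.1 t.2.2).1
      have h3 := hdim t.1
      omega
    have hc : t.1 ⤳ y ∧ δ y + 1 = δ t.1 := ⟨t.2.1, by omega⟩
    have e1 : Cyc.subschemeFun δ (k + 1) (𝟙 Y) t.1 =
        ((Module.length (Y.presheaf.stalk t.1) (Y.presheaf.stalk t.1)).toNat : ℤ) := by
      unfold Cyc.subschemeFun
      rw [if_pos hδt]
      have hset : {z : Y | (𝟙 Y : Y ⟶ Y) z = t.1} = {t.1} := by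
        ext z
        exact Iff.rfl
      rw [hset, finsum_mem_singleton]
    have e2 : Cyc.secDivFun δ L t.1
        (Submodule.Quotient.mk ((L.presheaf.germ ⊤ t.1 trivial) s)) y =
        Cyc.ordAt y t.1 t.2.1 (Cyc.specMap y t.1 t.2.1 r) := by
      unfold Cyc.secDivFun
      rw [dif_pos hc]
      have h4 := secOrdAt_gen ha y t.1 hyW t.2.1 ((Y.presheaf.stalkSpecializes t.2.1).hom r)
      rw [← hgs t.1 t.2.1] at h4
      exact h4
    show Cyc.subschemeFun δ (k + 1) (𝟙 Y) t.1 * Cyc.secDivFun δ L t.1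
      (Submodule.Quotient.mk ((L.presheaf.germ ⊤ t.1 trivial) s)) y = _
    rw [e1, e2]
  rw [hLHS, hR]
  exact local_formula δ hδ k hdim y hd r hreg' hrne

end Groth.Agent.Helper7.KL
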