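import Mathlib
import Groth.Prelude.Def_C1
import Groth.Agent.Lib.Helper7.KL.ZeroSec
import Groth.Agent.Lib.Helper7.DivFin.GysinSelf

set_option linter.style.haveILetI false
set_option linter.unusedVariables false
set_option linter.unusedSectionVars false
set_option autoImplicit false
set_option backward.isDefEq.respectTransparency.types false
set_option synthInstance.maxHeartbeats 400000
set_option maxHeartbeats 1600000

namespace Groth.Agent.Helper7.KL

open CategoryTheory CategoryTheory.Limits AlgebraicGeometry IsLocalRing TopologicalSpace Opposite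
open Groth.Agent.Helper1.QcCech Groth.Agent.Helper1.LGen Groth.Agent.Lead.RkSch
open Groth.Agent.Lead.SecOrd Groth.Agent.Helper7.CycLim Groth.Agent.Helper7.DivFin
open Groth.Agent.Helper7.CycPull Groth.Agent.Helper1.PullSec Groth.Agent.Helper1.PullGen

universe u

/-! helper7: closed immersions and the cycle setup; fundamental cycles; pushforward of rational equivalence along closed immersions; S1924 -/

section Setup

theorem isDimFun_closedImmersion {X Y : Scheme.{u}} (ι : Y ⟶ X) [IsClosedImmersion ι]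
    (δ : X → ℤ) (hδ : Cyc.IsDimFun X δ) : Cyc.IsDimFun Y (fun y => δ (ι y)) := by
  have hind := ι.isClosedEmbedding.toIsEmbedding.toIsInducing
  have hinj := ι.isClosedEmbedding.injective
  intro x y hxy hne
  have h' : ι x ⤳ ι y := hxy.map ι.continuous
  obtain ⟨h1, h2⟩ := hδ (ι x) (ι y) h' (fun he => hne (hinj he))
  refine ⟨h1, fun himm => h2 (fun z' hz1 hz2 => ?_)⟩
  have hz'r : z' ∈ Set.range ι :=
    ι.isClosedEmbedding.isClosed_range.stableUnderSpecialization hz1 ⟨x, rfl⟩
  obtain ⟨z, rfl⟩ := hz'r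
  rcases himm z (hind.specializes_iff.mp hz1) (hind.specializes_iff.mp hz2) with h | h
  · left
    rw [h]
  · right
    rw [h]

theorem isUniversallyCatenary_of_surjective {A B : Type u} [CommRing A] [CommRing B]
    (φ : A →+* B) (hφ : Function.Surjective φ) (hA : CAlg.IsUniversallyCatenary A) :
    CAlg.IsUniversallyCatenary B := by
  haveI := hA.1
  refine ⟨isNoetherianRing_of_surjective A B φ hφ, ?_⟩
  intro S _ _ hS
  letI : Algebra A B := φ.toAlgebra
  letI : Algebra A S := ((algebraMap B S).comp φ).toAlgebra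
  haveI : IsScalarTower A B S := IsScalarTower.of_algebraMap_eq (fun _ => rfl)
  have hAB : Algebra.FiniteType A B := Algebra.FiniteType.of_surjective (Algebra.ofId A B) hφ
  exact hA.2 S (Algebra.FiniteType.trans hAB hS)

theorem isSetup_closedImmersion {X Y : Scheme.{u}} (ι : Y ⟶ X) [IsClosedImmersion ι]
    (δ : X → ℤ) (hX : Cyc.IsSetup X δ) : Cyc.IsSetup Y (fun y => δ (ι y)) := by
  haveI := hX.1
  refine ⟨LocallyOfFiniteType.isLocallyNoetherian ι, fun y => ?_,
    isDimFun_closedImmersion ι δ hX.2.2⟩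
  exact isUniversallyCatenary_of_surjective (ι.stalkMap y).hom (ι.stalkMap_surjective y)
    (hX.2.1 (ι y))

end Setup

section Fund

variable {Y : Scheme.{u}}

theorem finite_maximalPoints_inter [IsLocallyNoetherian Y] {V : Y.Opens} (hV : IsAffineOpen V) :
    {ξ : Y | ξ ∈ V ∧ ∀ ξ' : Y, ξ' ⤳ ξ → ξ' = ξ}.Finite := by
  haveI : IsNoetherianRing Γ(Y, V) := IsLocallyNoetherian.component_noetherian ⟨V, hV⟩
  have hfin := minimalPrimes.finite_of_isNoetherianRing Γ(Y, V)
  have hfin' : {Q : PrimeSpectrum Γ(Y, V) | Q.asIdeal ∈ minimalPrimes Γ(Y, V)}.Finite :=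
    hfin.preimage (fun Q _ Q' _ h => PrimeSpectrum.ext h)
  refine (hfin'.image (fun Q => hV.fromSpec Q)).subset ?_
  rintro ξ ⟨hξV, hmax⟩
  refine ⟨hV.primeIdealOf ⟨ξ, hξV⟩, ?_, hV.fromSpec_primeIdealOf ⟨ξ, hξV⟩⟩
  refine ⟨⟨(hV.primeIdealOf ⟨ξ, hξV⟩).isPrime, bot_le⟩, ?_⟩
  rintro P ⟨hP, -⟩ hle
  have hPV := fromSpec_mem hV ⟨P, hP⟩
  have hPP := primeIdealOf_fromSpec hV ⟨P, hP⟩ hPV
  have hsp : hV.fromSpec ⟨P, hP⟩ ⤳ ξ := by
    rw [← primeIdealOf_le_iff hV ⟨_, hPV⟩ ⟨ξ, hξV⟩, hPP]
    exact hle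
  have he := hmax _ hsp
  have he' : (⟨hV.fromSpec ⟨P, hP⟩, hPV⟩ : V) = ⟨ξ, hξV⟩ := Subtype.ext he
  have h3 : hV.primeIdealOf ⟨ξ, hξV⟩ = ⟨P, hP⟩ := by
    rw [← he']
    exact hPP
  rw [h3]

/-- the fundamental cycle in the top dimension -/
theorem exists_fundCycle [IsLocallyNoetherian Y] (δ : Y → ℤ) (hδ : Cyc.IsDimFun Y δ) (k : ℤ)
    (hle : ∀ y, δ y ≤ k + 1) :
    ∃ α : AlgebraicCycle Y ℤ, ⇑α = Cyc.subschemeFun δ (k + 1) (𝟙 Y) := by
  refine ⟨{ toFun := Cyc.subschemeFun δ (k + 1) (𝟙 Y)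
            supportWithinDomain' := Set.subset_univ _
            supportLocallyFiniteWithinDomain' := fun z _ => ?_ }, rfl⟩
  obtain ⟨V, hV, hzV⟩ := exists_affine z
  refine ⟨V, V.2.mem_nhds hzV, ?_⟩
  refine (finite_maximalPoints_inter hV).subset ?_
  rintro ξ ⟨hξV, hξ⟩
  refine ⟨hξV, fun ξ' hsp => ?_⟩
  by_contra hne
  rw [Function.mem_support] at hξ
  apply hξ
  unfold Cyc.subschemeFun
  rw [if_neg]
  intro hk
  have h1 := (hδ ξ' ξ hsp hne).1
  have h2 := hle ξ'
  omega

end Fund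

section Push

variable {Z X : Scheme.{u}} (i : Z ⟶ X) [IsClosedImmersion i]

/-- pushforward along a closed immersion preserves rational equivalence to zero -/
theorem ratEquivZero_map_closedImmersion (δ : X → ℤ) (k : ℤ) (β : AlgebraicCycle Z ℤ)
    (h : Cyc.RatEquivZero (fun z => δ (i z)) k β) :
    Cyc.RatEquivZero δ k (AlgebraicCycle.map i (fun z => δ (i z)) δ β) := by
  obtain ⟨I, ζ, g, hδζ, hg, hlf, hsum⟩ := h
  have hind := i.isClosedEmbedding.toIsEmbedding.toIsInducing
  have hb : ∀ a, Function.Bijective (i.residueFieldMap (ζ a)).hom := fun a =>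
    residueFieldMap_bijective_of_surjective i (ζ a) (i.stalkMap_surjective (ζ a))
  choose f hf using fun a => (hb a).2 (g a)
  refine ⟨I, fun a => i (ζ a), f, hδζ, ?_, ?_, ?_⟩
  · intro a h0
    apply hg a
    rw [← hf a, h0, map_zero]
  · intro x
    by_cases hx : x ∈ Set.range i
    · obtain ⟨z, rfl⟩ := hx
      obtain ⟨U, hU, hzU, hfin⟩ := hlf z
      obtain ⟨U', hU', rfl⟩ := hind.isOpen_iff.1 hU
      refine ⟨U', hU', hzU, hfin.subset ?_⟩
      rintro a ⟨x', hx'1, hx'2⟩
      have hsp : i (ζ a) ⤳ x' := specializes_iff_mem_closure.mpr hx'1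
      have hx'r : x' ∈ Set.range i :=
        i.isClosedEmbedding.isClosed_range.stableUnderSpecialization hsp ⟨ζ a, rfl⟩
      obtain ⟨z', rfl⟩ := hx'r
      exact ⟨z', specializes_iff_mem_closure.mp (hind.specializes_iff.mp hsp), hx'2⟩
    · refine ⟨(Set.range i)ᶜ, i.isClosedEmbedding.isClosed_range.isOpen_compl, hx, ?_⟩
      have hem : {a | (closure {i (ζ a)} ∩ (Set.range i)ᶜ).Nonempty} = ∅ := by
        rw [Set.eq_empty_iff_forall_notMem]
        rintro a ⟨x', hx'1, hx'2⟩
        exact hx'2 (i.isClosedEmbedding.isClosed_range.stableUnderSpecialization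
          (specializes_iff_mem_closure.mpr hx'1) ⟨ζ a, rfl⟩)
      rw [hem]
      exact Set.finite_empty
  · intro x
    by_cases hx : x ∈ Set.range i
    · obtain ⟨z, rfl⟩ := hx
      rw [map_closedImmersion_apply i _ _ (fun _ => rfl) β z, hsum z]
      refine finsum_congr (fun a => ?_)
      rw [← hf a]
      exact divFun_transport i hind δ z (ζ a) (i.stalkMap_surjective z) (hb a) (f a)
    · rw [map_closedImmersion_apply_of_notMem i _ _ β x hx]
      symm
      exact finsum_eq_zero_of_forall_eq_zero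
        (fun a => divFun_eq_zero_of_notMem_range i δ _ ⟨ζ a, rfl⟩ (f a) x hx)

end Push

/-- S1924: the first Chern class of the fundamental cycle of a closed subscheme versus the
pushforward of the zero cycle of a regular section -/
theorem S1924_main (X Y : Scheme.{u}) (δ : X → ℤ) (hX : Cyc.IsSetup X δ) (L : X.Modules)
    (hL : PicF.IsInvertible L) (ι : Y ⟶ X) [IsClosedImmersion ι] (k : ℤ)
    (hY : ∀ y : Y, δ (ι y) ≤ k + 1)
    (s : ((Scheme.Modules.pullback ι).obj L).presheaf.obj (Opposite.op ⊤))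
    (hZ : ∀ y : Y, (((Scheme.Modules.pullback ι).obj L).presheaf.germ ⊤ y trivial) s ∈
      IsLocalRing.maximalIdeal (Y.presheaf.stalk y) •
        (⊤ : Submodule (Y.presheaf.stalk y)
          (((Scheme.Modules.pullback ι).obj L).presheaf.stalk y)) → δ (ι y) ≤ k)
    (hreg : ∀ y : Y, δ (ι y) = k → Function.Injective (fun a : Y.presheaf.stalk y =>
      a • (((Scheme.Modules.pullback ι).obj L).presheaf.germ ⊤ y trivial) s))
    (v : (ξ : X) → Cyc.secFibre L ξ) (hv : ∀ ξ, v ξ ≠ 0) (γ : AlgebraicCycle X ℤ)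
    (hγ : ⇑γ = Cyc.c1CapFun δ L (Cyc.subschemeFun δ (k + 1) ι) v) (ζ : AlgebraicCycle Y ℤ)
    (hζ : ⇑ζ = Cyc.zeroSectionFun (fun y => δ (ι y)) k ((Scheme.Modules.pullback ι).obj L) s) :
    Cyc.RatEquiv δ k γ (AlgebraicCycle.map ι (fun y => δ (ι y)) δ ζ) := by
  have hinj : Function.Injective ι := ι.isClosedEmbedding.injective
  have hind := ι.isClosedEmbedding.toIsEmbedding.toIsInducing
  have hYs : Cyc.IsSetup Y (fun y => δ (ι y)) := isSetup_closedImmersion ι δ hX
  haveI := hYs.1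
  have hM : PicF.IsInvertible ((Scheme.Modules.pullback ι).obj L) := isInvertible_pullback ι hL
  have h25 := S1925_main Y (fun y => δ (ι y)) hYs _ hM k hY s hZ hreg
  obtain ⟨α, hα⟩ := exists_fundCycle (fun y => δ (ι y)) hYs.2.2 k hY
  have hαZ : α ∈ Cyc.Zk Y (fun y => δ (ι y)) (k + 1) := by
    intro y hy
    rw [hα]
    unfold Cyc.subschemeFun
    rw [if_neg hy]
  choose τ hτ0 hτ using fun d' => exists_pull_section ι L hL d' (v (ι d')) (hv (ι d'))
  -- the coefficients of ζ
  have h₂ : ⇑ζ = Cyc.c1CapFun (fun y => δ (ι y)) ((Scheme.Modules.pullback ι).obj L) ⇑α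
      (Cyc.gysinChoice ((Scheme.Modules.pullback ι).obj L) s τ) := by
    rw [hζ, h25, hα]
    funext d
    unfold Cyc.c1CapFun
    refine finsum_congr (fun ξ => ?_)
    by_cases h0 : Cyc.subschemeFun (fun y => δ (ι y)) (k + 1) (𝟙 Y) ξ = 0
    · rw [h0, zero_mul, zero_mul]
    · have hδξ : δ (ι ξ) = k + 1 := by
        by_contra hne
        apply h0
        unfold Cyc.subschemeFun
        rw [if_neg hne]
      have hne0 : (Submodule.Quotient.mk
          ((((Scheme.Modules.pullback ι).obj L).presheaf.germ ⊤ ξ trivial) s) :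
          Cyc.secFibre ((Scheme.Modules.pullback ι).obj L) ξ) ≠ 0 := by
        intro hz
        have := hZ ξ ((Submodule.Quotient.mk_eq_zero _).1 hz)
        omega
      have hgc : Cyc.gysinChoice ((Scheme.Modules.pullback ι).obj L) s τ ξ =
          Submodule.Quotient.mk
            ((((Scheme.Modules.pullback ι).obj L).presheaf.germ ⊤ ξ trivial) s) := by
        unfold Cyc.gysinChoice
        rw [if_pos hne0]
      rw [hgc]
  -- γ is supported on the range
  have hsub0 : ∀ ξ : X, ξ ∉ Set.range ι → Cyc.subschemeFun δ (k + 1) ι ξ = 0 := by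
    intro ξ hξ
    unfold Cyc.subschemeFun
    by_cases hk : δ ξ = k + 1
    · rw [if_pos hk]
      have hem : {z : Y | ι z = ξ} = ∅ := by
        rw [Set.eq_empty_iff_forall_notMem]
        intro z hz
        exact hξ ⟨z, hz⟩
      rw [hem, finsum_mem_empty]
    · rw [if_neg hk]
  have hγ0 : ∀ x : X, x ∉ Set.range ι → γ x = 0 := by
    intro x hx
    rw [hγ]
    unfold Cyc.c1CapFun
    refine finsum_eq_zero_of_forall_eq_zero (fun ξ => ?_)
    by_cases hξ : ξ ∈ Set.range ι
    · unfold Cyc.secDivFun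
      rw [dif_neg, mul_zero]
      rintro ⟨hsp, -⟩
      exact hx (ι.isClosedEmbedding.isClosed_range.stableUnderSpecialization hsp hξ)
    · rw [hsub0 ξ hξ, zero_mul]
  have hre : ∀ G : X → ℤ, Function.support G ⊆ Set.range ι →
      ∑ᶠ ξ, G ξ = ∑ᶠ d', G (ι d') := by
    intro G hsupp
    rw [← finsum_mem_range (f := G) hinj, finsum_mem_def, Set.indicator_eq_self.mpr hsupp]
  have h₁ : ⇑(comapCycle ι hinj γ) =
      Cyc.c1CapFun (fun y => δ (ι y)) ((Scheme.Modules.pullback ι).obj L) ⇑α τ := by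
    funext d
    rw [comapCycle_apply, hγ]
    unfold Cyc.c1CapFun
    refine (hre _ ?_).trans ?_
    · intro ξ hξ
      by_contra hn
      apply hξ
      dsimp only
      rw [hsub0 ξ hn, zero_mul]
    · apply finsum_congr
      intro d'
      dsimp only
      have e1 : Cyc.subschemeFun δ (k + 1) ι (ι d') = α d' := by
        rw [hα]
        unfold Cyc.subschemeFun
        have hs1 : {z : Y | ι z = ι d'} = {d'} := by
          ext z
          exact ⟨fun hz => hinj hz, fun hz => by rw [Set.mem_singleton_iff.1 hz]; rfl⟩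
        have hs2 : {z : Y | (𝟙 Y : Y ⟶ Y) z = d'} = {d'} := by
          ext z
          exact Iff.rfl
        rw [hs1, hs2]
      rw [e1]
      congr 1
      unfold Cyc.secDivFun
      by_cases hc : d' ⤳ d ∧ δ (ι d) + 1 = δ (ι d')
      · have hc' : ι d' ⤳ ι d ∧ δ (ι d) + 1 = δ (ι d') := ⟨hc.1.map ι.continuous, hc.2⟩
        rw [dif_pos hc, dif_pos hc']
        exact (hτ d' d hc.1 hc'.1).symm
      · have hc' : ¬ (ι d' ⤳ ι d ∧ δ (ι d) + 1 = δ (ι d')) := fun h =>
          hc ⟨hind.specializes_iff.mp h.1, h.2⟩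
        rw [dif_neg hc, dif_neg hc']
  have hre2 := c1Cap_indep (fun y => δ (ι y)) _ hM k α hαZ τ hτ0
    (Cyc.gysinChoice ((Scheme.Modules.pullback ι).obj L) s τ)
    (gysinChoice_ne_zero _ s τ hτ0) (comapCycle ι hinj γ) ζ h₁ h₂
  have hpush := ratEquivZero_map_closedImmersion ι δ k (comapCycle ι hinj γ - ζ) hre2
  have heq : γ - AlgebraicCycle.map ι (fun y => δ (ι y)) δ ζ =
      AlgebraicCycle.map ι (fun y => δ (ι y)) δ (comapCycle ι hinj γ - ζ) := by
    ext x
    rw [Function.locallyFinsuppWithin.coe_sub, Pi.sub_apply]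
    by_cases hx : x ∈ Set.range ι
    · obtain ⟨d, rfl⟩ := hx
      rw [map_closedImmersion_apply ι _ _ (fun _ => rfl) ζ d,
        map_closedImmersion_apply ι _ _ (fun _ => rfl) (comapCycle ι hinj γ - ζ) d,
        Function.locallyFinsuppWithin.coe_sub, Pi.sub_apply, comapCycle_apply]
    · rw [map_closedImmersion_apply_of_notMem ι _ _ ζ x hx,
        map_closedImmersion_apply_of_notMem ι _ _ (comapCycle ι hinj γ - ζ) x hx, hγ0 x hx,
        sub_zero]
  unfold Cyc.RatEquiv
  rw [heq]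
  exact hpush

end Groth.Agent.Helper7.KL
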