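import Mathlib
import Groth.Prelude.Def_C1
import Groth.Agent.Lib.Helper7.KL.ZeroPush

set_option linter.style.haveILetI false
set_option linter.unusedVariables false
set_option linter.unusedSectionVars false
set_option autoImplicit false
set_option backward.isDefEq.respectTransparency.types false
set_option synthInstance.maxHeartbeats 400000
set_option maxHeartbeats 1600000

namespace Groth.Agent.Helper7.KL

open CategoryTheory CategoryTheory.Limits AlgebraicGeometry IsLocalRing TopologicalSpace Opposite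
open Groth.Agent.Lead.SecOrd Groth.Agent.Helper7.CycLim Groth.Agent.Helper7.DivFin
open Groth.Agent.Helper7.CycPull
open Groth.Agent.Lib.Helper4.FibDim1 Groth.Agent.Lib.Helper4.FibDimComp1

universe u

/-! helper7: flat pullback of a principal divisor as a sum over irreducible components (S1907) -/

theorem congr_specMap {Y : Scheme.{u}} (y z z' : Y) (e : z = z') (h : z ⤳ y) (h' : z' ⤳ y)
    (a : Y.presheaf.stalk y) :
    (Y.residueFieldCongr e).hom (Cyc.specMap y z h a) = Cyc.specMap y z' h' a := by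
  subst e
  rfl

theorem pulled_specMap {X Y : Scheme.{u}} (f : X ⟶ Y) (x ξ : X) (h : ξ ⤳ x) (η : Y)
    (hη : f ξ = η) (hsy : η ⤳ f x) (a : Y.presheaf.stalk (f x)) :
    (f.residueFieldMap ξ).hom ((Y.residueFieldCongr hη.symm).hom
      (Cyc.specMap (f x) η hsy a)) = Cyc.specMap x ξ h ((f.stalkMap x).hom a) := by
  rw [congr_specMap (f x) η (f ξ) hη.symm hsy (h.map f.continuous) a]
  exact specMap_compat' f x ξ h (h.map f.continuous) a

/-- S1907: flat pullback of a principal divisor as a sum over the irreducible components -/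
theorem S1907_main (X Y : Scheme.{u}) [IsIntegral Y] (δX : X → ℤ) (δY : Y → ℤ)
    (hX : Cyc.IsSetup X δX) (hY : Cyc.IsSetup Y δY) (f : X ⟶ Y) [Flat f]
    [LocallyOfFiniteType f] (r : ℕ) (hr : Cyc.HasRelDim f r) (hδ : Cyc.DeltaCompat f δX δY)
    (k : ℤ) (hk : δY (genericPoint Y) = k) (g : Y.residueField (genericPoint Y)) (hg : g ≠ 0)
    (x : X) :
    Cyc.pullFun f δX δY r (Cyc.divFun δY (genericPoint Y) g) x =
      ∑ᶠ ξ : {ξ : X // (∀ x' : X, x' ⤳ ξ → x' = ξ) ∧ f ξ = genericPoint Y},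
        ((Module.length (X.presheaf.stalk ξ.1) (X.presheaf.stalk ξ.1)).toNat : ℤ) *
          Cyc.divFun δX ξ.1 (f.residueFieldMap ξ.1
            ((Y.residueFieldCongr ξ.2.2.symm).hom g)) x := by
  haveI : IsLocallyNoetherian X := hX.1
  haveI : IsLocallyNoetherian Y := hY.1
  have hle : ∀ z : X, δX z ≤ δY (f z) + (r : ℤ) := le_of_hasRelDim f r hr δX δY hδ
  have hYle : ∀ y' : Y, δY y' ≤ k := by
    intro y'
    by_cases he : y' = genericPoint Y
    · rw [he, hk]
    · have := (hY.2.2 _ _ (genericPoint_specializes y') (fun h => he h.symm)).1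
      omega
  have hYeq : ∀ y' : Y, δY y' = k → y' = genericPoint Y := by
    intro y' h1
    by_contra he
    have := (hY.2.2 _ _ (genericPoint_specializes y') (fun h => he h.symm)).1
    omega
  have hXle : ∀ z : X, δX z ≤ k + r := fun z => by
    have := hle z
    have := hYle (f z)
    omega
  have hmaxT : ∀ z : X, δX z = k + r →
      (∀ x' : X, x' ⤳ z → x' = z) ∧ f z = genericPoint Y := by
    intro z hz
    refine ⟨fun x' hsp => ?_, hYeq _ ?_⟩
    · by_contra hne
      have := (hX.2.2 x' z hsp hne).1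
      have := hXle x'
      omega
    · have := hle z
      have := hYle (f z)
      omega
  have hT : ∀ ξ : {ξ : X // (∀ x' : X, x' ⤳ ξ → x' = ξ) ∧ f ξ = genericPoint Y},
      δX ξ.1 = k + r := by
    intro ξ
    have h1 := delta_eq_of_deltaCompat f δX δY hδ ξ.1
    have h2 := (hasRelDim_iff_tr f r).mp hr ξ.1 (fun z' _ hsp => ξ.2.1 z' hsp)
    rw [h1, h2, ξ.2.2, hk]
  have hsy : genericPoint Y ⤳ f x := genericPoint_specializes (f x)
  change (if δX x = δY (f x) + (r : ℤ) then
    Cyc.divFun δY (genericPoint Y) g (f x) * _ else 0) = _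
  by_cases hB : δX x + 1 = k + r
  swap
  · have hL : (if δX x = δY (f x) + (r : ℤ) then
        Cyc.divFun δY (genericPoint Y) g (f x) *
          ((Module.length (X.presheaf.stalk x) (X.presheaf.stalk x ⧸
            Ideal.map (f.stalkMap x).hom
              (maximalIdeal (Y.presheaf.stalk (f x))))).toNat : ℤ) else 0) = 0 := by
      split_ifs with h1
      · unfold Cyc.divFun
        rw [dif_neg, zero_mul]
        rintro ⟨-, h2⟩
        apply hB
        omega
      · rfl
    rw [hL]
    symm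
    refine finsum_eq_zero_of_forall_eq_zero (fun ξ => ?_)
    unfold Cyc.divFun
    rw [dif_neg, mul_zero]
    rintro ⟨-, h2⟩
    apply hB
    rw [← hT ξ]
    exact h2
  by_cases hB1 : δX x = δY (f x) + (r : ℤ)
  swap
  · rw [if_neg hB1]
    symm
    have hfx : f x = genericPoint Y := hYeq _ (by
      have := hle x
      have := hYle (f x)
      omega)
    refine finsum_eq_zero_of_forall_eq_zero (fun ξ => ?_)
    unfold Cyc.divFun
    by_cases hc : ξ.1 ⤳ x ∧ δX x + 1 = δX ξ.1
    swap
    · rw [dif_neg hc, mul_zero]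
    rw [dif_pos hc]
    have hfld : IsField (Y.presheaf.stalk (f x)) := isField_stalk_of_eq (f x) hfx
    letI : Algebra (Y.presheaf.stalk (f x)) (Y.residueField (genericPoint Y)) :=
      (Cyc.specMap (f x) (genericPoint Y) hsy).toAlgebra
    haveI : IsFractionRing (Y.presheaf.stalk (f x)) (Y.residueField (genericPoint Y)) :=
      isFractionRing_specMap (f x) (genericPoint Y) hsy rfl
    haveI : IsDomain (Y.presheaf.stalk (f x)) :=
      (IsFractionRing.injective (Y.presheaf.stalk (f x))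
        (Y.residueField (genericPoint Y))).isDomain _
    obtain ⟨a, ha⟩ := (IsFractionRing.surjective_iff_isField
      (R := Y.presheaf.stalk (f x)) (K := Y.residueField (genericPoint Y))).2 hfld g
    have ha0 : a ≠ 0 := by
      rintro rfl
      apply hg
      rw [← ha, map_zero]
    obtain ⟨b, hb⟩ := hfld.mul_inv_cancel ha0
    have hu : IsUnit a := IsUnit.of_mul_eq_one b hb
    have ha' : g = Cyc.specMap (f x) (genericPoint Y) hsy a := ha.symm
    have hgt : (f.residueFieldMap ξ.1).hom ((Y.residueFieldCongr ξ.2.2.symm).hom g) =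
        Cyc.specMap x ξ.1 hc.1 ((f.stalkMap x).hom a) := by
      rw [ha']
      exact pulled_specMap f x ξ.1 hc.1 (genericPoint Y) ξ.2.2 hsy a
    change _ * Cyc.ordAt x ξ.1 hc.1
      ((f.residueFieldMap ξ.1).hom ((Y.residueFieldCongr ξ.2.2.symm).hom g)) = 0
    rw [hgt, ordAt_specMap_unit x ξ.1 hc.1 _ (hu.map _), mul_zero]
  -- the main case
  rw [if_pos hB1]
  have hdY : δY (f x) + 1 = δY (genericPoint Y) := by omega
  have hDiv : Cyc.divFun δY (genericPoint Y) g (f x) =
      Cyc.ordAt (f x) (genericPoint Y) hsy g := by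
    unfold Cyc.divFun
    rw [dif_pos ⟨hsy, hdY⟩]
  rw [hDiv]
  haveI : Ring.KrullDimLE 1 (Y.presheaf.stalk (f x)) :=
    krullDimLE_one_of_delta δY hY.2.2 (f x) (by omega)
  rw [ordAt_eq_ordFrac (f x) (genericPoint Y) hsy rfl]
  letI algA : Algebra (Y.presheaf.stalk (f x)) (Y.residueField (genericPoint Y)) :=
    (Cyc.specMap (f x) (genericPoint Y) hsy).toAlgebra
  haveI : IsFractionRing (Y.presheaf.stalk (f x)) (Y.residueField (genericPoint Y)) :=
    isFractionRing_specMap (f x) (genericPoint Y) hsy rfl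
  haveI : IsDomain (Y.presheaf.stalk (f x)) :=
    (IsFractionRing.injective (Y.presheaf.stalk (f x))
      (Y.residueField (genericPoint Y))).isDomain _
  obtain ⟨a, b, hb, rfl⟩ := IsFractionRing.div_surjective (A := Y.presheaf.stalk (f x)) g
  have hb0 : b ≠ 0 := nonZeroDivisors.ne_zero hb
  have ha0 : a ≠ 0 := by
    rintro rfl
    apply hg
    rw [map_zero, zero_div]
  have hflat : (f.stalkMap x).hom.Flat := Flat.stalkMap f x
  have hTx : ∀ t : {ξ : X // ξ ⤳ x ∧ ξ ≠ x}, δX t.1 = k + r := by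
    intro t
    have := (hX.2.2 t.1 x t.2.1 t.2.2).1
    have := hXle t.1
    omega
  have hspec : ∀ (c : Y.presheaf.stalk (f x)) (ξ : X) (h : ξ ⤳ x)
      (hη : f ξ = genericPoint Y),
      (f.residueFieldMap ξ).hom ((Y.residueFieldCongr hη.symm).hom
        (algebraMap (Y.presheaf.stalk (f x)) (Y.residueField (genericPoint Y)) c)) =
        Cyc.specMap x ξ h ((f.stalkMap x).hom c) :=
    fun c ξ h hη => pulled_specMap f x ξ h (genericPoint Y) hη hsy c
  have hne : ∀ (c : Y.presheaf.stalk (f x)), c ≠ 0 → ∀ (ξ : X) (h : ξ ⤳ x), ξ ≠ x →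
      Cyc.specMap x ξ h ((f.stalkMap x).hom c) ≠ 0 := by
    intro c hc ξ h hξ
    have hη := (hmaxT ξ (hTx ⟨ξ, h, hξ⟩)).2
    rw [← hspec c ξ h hη]
    have h1 : algebraMap (Y.presheaf.stalk (f x)) (Y.residueField (genericPoint Y)) c ≠ 0 :=
      (map_ne_zero_iff _ (IsFractionRing.injective _ _)).2 hc
    exact (map_ne_zero (f.residueFieldMap ξ).hom).2
      ((map_ne_zero (Y.residueFieldCongr hη.symm).hom.hom).2 h1)
  have hregc : ∀ c : Y.presheaf.stalk (f x), c ≠ 0 → ∀ z : X.presheaf.stalk x,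
      (f.stalkMap x).hom c * z = 0 → z = 0 := by
    intro c hc z hz
    letI : Algebra (Y.presheaf.stalk (f x)) (X.presheaf.stalk x) :=
      (f.stalkMap x).hom.toAlgebra
    haveI : Module.Flat (Y.presheaf.stalk (f x)) (X.presheaf.stalk x) := hflat
    have reg : IsSMulRegular (Y.presheaf.stalk (f x)) c :=
      fun p q hpq => mul_left_cancel₀ hc hpq
    have reg' := IsSMulRegular.of_flat (S := X.presheaf.stalk x) reg
    apply reg'
    show (algebraMap (Y.presheaf.stalk (f x)) (X.presheaf.stalk x) c) • z =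
      (algebraMap (Y.presheaf.stalk (f x)) (X.presheaf.stalk x) c) • (0 : X.presheaf.stalk x)
    rw [smul_zero, smul_eq_mul]
    exact hz
  have hdimX : ∀ z : X, δX z ≤ (k + r - 1) + 1 := fun z => by
    have := hXle z
    omega
  have hxk : δX x = k + r - 1 := by omega
  have LFa := local_formula δX hX.2.2 (k + r - 1) hdimX x hxk ((f.stalkMap x).hom a)
    (hregc a ha0) (hne a ha0)
  have LFb := local_formula δX hX.2.2 (k + r - 1) hdimX x hxk ((f.stalkMap x).hom b)
    (hregc b hb0) (hne b hb0)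
  haveI : Finite {ξ : X // ξ ⤳ x ∧ ξ ≠ x} := by
    obtain ⟨V, hV, hxV⟩ := exists_affine x
    have hfin := finite_maximalPoints_inter (Y := X) hV
    haveI := hfin.to_subtype
    refine Finite.of_injective (fun t : {ξ : X // ξ ⤳ x ∧ ξ ≠ x} =>
      (⟨t.1, t.2.1.mem_open V.2 hxV, (hmaxT t.1 (hTx t)).1⟩ :
        {ξ : X | ξ ∈ V ∧ ∀ ξ' : X, ξ' ⤳ ξ → ξ' = ξ})) ?_
    intro t t' h
    have h1 : t.1 = t'.1 := by
      have h2 := congrArg (fun s : {ξ : X | ξ ∈ V ∧ ∀ ξ' : X, ξ' ⤳ ξ → ξ' = ξ} => s.1) h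
      exact h2
    exact Subtype.ext h1
  let e : {ξ : X // ξ ⤳ x ∧ ξ ≠ x} →
      {ξ : X // (∀ x' : X, x' ⤳ ξ → x' = ξ) ∧ f ξ = genericPoint Y} :=
    fun t => ⟨t.1, hmaxT t.1 (hTx t)⟩
  have heinj : Function.Injective e := by
    intro t t' h
    have h1 : (e t).1 = (e t').1 := by rw [h]
    exact Subtype.ext h1
  have hre : ∀ G : {ξ : X // (∀ x' : X, x' ⤳ ξ → x' = ξ) ∧ f ξ = genericPoint Y} → ℤ,
      Function.support G ⊆ Set.range e → ∑ᶠ ξ, G ξ = ∑ᶠ t, G (e t) := by
    intro G hsupp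
    rw [← finsum_mem_range (f := G) heinj, finsum_mem_def, Set.indicator_eq_self.mpr hsupp]
  refine Eq.trans ?_ (hre _ ?_).symm
  swap
  · intro ξ hξ
    rw [Function.mem_support] at hξ
    by_cases hc : ξ.1 ⤳ x ∧ δX x + 1 = δX ξ.1
    · have hnex : ξ.1 ≠ x := by
        intro he
        have h2 := hc.2
        rw [he] at h2
        omega
      exact ⟨⟨ξ.1, hc.1, hnex⟩, Subtype.ext rfl⟩
    · exfalso
      apply hξ
      unfold Cyc.divFun
      rw [dif_neg hc, mul_zero]
  have hterm : ∀ t : {ξ : X // ξ ⤳ x ∧ ξ ≠ x},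
      ((Module.length (X.presheaf.stalk (e t).1) (X.presheaf.stalk (e t).1)).toNat : ℤ) *
        Cyc.divFun δX (e t).1 (f.residueFieldMap (e t).1
          ((Y.residueFieldCongr (e t).2.2.symm).hom
            (algebraMap (Y.presheaf.stalk (f x)) (Y.residueField (genericPoint Y)) a /
              algebraMap (Y.presheaf.stalk (f x)) (Y.residueField (genericPoint Y)) b))) x =
      ((Module.length (X.presheaf.stalk t.1) (X.presheaf.stalk t.1)).toNat : ℤ) *
          Cyc.ordAt x t.1 t.2.1 (Cyc.specMap x t.1 t.2.1 ((f.stalkMap x).hom a)) -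
        ((Module.length (X.presheaf.stalk t.1) (X.presheaf.stalk t.1)).toNat : ℤ) *
          Cyc.ordAt x t.1 t.2.1 (Cyc.specMap x t.1 t.2.1 ((f.stalkMap x).hom b)) := by
    intro t
    have hc : t.1 ⤳ x ∧ δX x + 1 = δX t.1 := ⟨t.2.1, by rw [hTx t]; exact hB⟩
    have hη : f t.1 = genericPoint Y := (e t).2.2
    have hu := hne a ha0 t.1 t.2.1 t.2.2
    have hv := hne b hb0 t.1 t.2.1 t.2.2
    have hgt : (f.residueFieldMap t.1).hom ((Y.residueFieldCongr hη.symm).hom
        (algebraMap (Y.presheaf.stalk (f x)) (Y.residueField (genericPoint Y)) a /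
          algebraMap (Y.presheaf.stalk (f x)) (Y.residueField (genericPoint Y)) b)) =
        Cyc.specMap x t.1 t.2.1 ((f.stalkMap x).hom a) /
          Cyc.specMap x t.1 t.2.1 ((f.stalkMap x).hom b) := by
      rw [map_div₀, map_div₀, hspec a t.1 t.2.1 hη, hspec b t.1 t.2.1 hη]
    show ((Module.length (X.presheaf.stalk t.1) (X.presheaf.stalk t.1)).toNat : ℤ) *
      Cyc.divFun δX t.1 ((f.residueFieldMap t.1).hom ((Y.residueFieldCongr hη.symm).hom
        (algebraMap (Y.presheaf.stalk (f x)) (Y.residueField (genericPoint Y)) a /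
          algebraMap (Y.presheaf.stalk (f x)) (Y.residueField (genericPoint Y)) b))) x = _
    unfold Cyc.divFun
    rw [dif_pos hc, hgt, div_eq_mul_inv, ordAt_mul x t.1 hc.1 hu (inv_ne_zero hv),
      ordAt_inv x t.1 hc.1 _ hv]
    ring
  rw [finsum_congr hterm, finsum_sub_distrib (Set.toFinite _) (Set.toFinite _), ← LFa, ← LFb]
  have hKa : algebraMap (Y.presheaf.stalk (f x)) (Y.residueField (genericPoint Y)) a ≠ 0 :=
    (map_ne_zero_iff _ (IsFractionRing.injective _ _)).2 ha0
  have hKb : algebraMap (Y.presheaf.stalk (f x)) (Y.residueField (genericPoint Y)) b ≠ 0 :=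
    (map_ne_zero_iff _ (IsFractionRing.injective _ _)).2 hb0
  rw [ordFrac_eq, map_div₀, toZ_div ((map_ne_zero _).2 hKa) ((map_ne_zero _).2 hKb),
    toZ_ordFrac_algebraMap _ ha0, toZ_ordFrac_algebraMap _ hb0]
  show _ = ((Ring.ord (X.presheaf.stalk x) ((f.stalkMap x).hom a)).toNat : ℤ) -
    ((Ring.ord (X.presheaf.stalk x) ((f.stalkMap x).hom b)).toNat : ℤ)
  rw [ord_map_eq (f.stalkMap x).hom hflat a, ord_map_eq (f.stalkMap x).hom hflat b,
    ENat.toNat_mul, ENat.toNat_mul]
  push_cast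
  ring

end Groth.Agent.Helper7.KL
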