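import Mathlib
import Groth.Prelude.Def_C1
import Groth.Agent.Lib.Helper7.KL.ZeroPush

set_option linter.style.haveILetI false
set_option linter.unusedVariables false
set_option linter.unusedSectionVars false
set_option autoImplicit false
set_option backward.isDefEq.respectTransparency.types false
set_option synthInstance.maxHeartbeats 400000
set_option maxHeartbeats 1600000

namespace Groth.Agent.Helper7.KL

open CategoryTheory CategoryTheory.Limits AlgebraicGeometry IsLocalRing TopologicalSpace Opposite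
open Groth.Agent.Lead.SecOrd Groth.Agent.Helper7.CycLim Groth.Agent.Helper7.DivFin
open Groth.Agent.Helper7.CycPull
open scoped TensorProduct

universe u

/-! helper7: relative local length formula for a quotient of the local ring (generizations containing an ideal), flat regularity modulo an ideal -/

section Alg

/-- the order of vanishing is invariant under ring isomorphisms -/
theorem ord_ringEquiv {R S : Type u} [CommRing R] [CommRing S] (e : R ≃+* S) (a : R) :
    Ring.ord R a = Ring.ord S (e a) := by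
  unfold Ring.ord
  have hI : Ideal.span {e a} = (Ideal.span {a}).map (e : R →+* S) := by
    rw [Ideal.map_span, Set.image_singleton]
    rfl
  have h1 : Module.length R (R ⧸ Ideal.span {a}) =
      Module.length (R ⧸ Ideal.span {a}) (R ⧸ Ideal.span {a}) :=
    Module.length_eq_of_surjective Ideal.Quotient.mk_surjective
  have h2 : Module.length S (S ⧸ Ideal.span {e a}) =
      Module.length (S ⧸ Ideal.span {e a}) (S ⧸ Ideal.span {e a}) :=
    Module.length_eq_of_surjective Ideal.Quotient.mk_surjective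
  rw [h1, h2]
  exact length_self_of_ringEquiv
    (Ideal.quotientEquiv (Ideal.span {a}) (Ideal.span {e a}) e hI)

/-- the length of the quotient by `I + (r)` is the order of `r` on `A/I` -/
theorem length_quot_sup_span {A : Type u} [CommRing A] (I : Ideal A) (r : A) :
    Module.length A (A ⧸ (I ⊔ Ideal.span {r})) =
      Ring.ord (A ⧸ I) (Ideal.Quotient.mk I r) := by
  unfold Ring.ord
  have hJ : (Ideal.span {r}).map (Ideal.Quotient.mkₐ A I) =
      Ideal.span {Ideal.Quotient.mk I r} := by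
    rw [Ideal.map_span, Set.image_singleton]
    rfl
  have h1 : Module.length (A ⧸ I) ((A ⧸ I) ⧸ Ideal.span {Ideal.Quotient.mk I r}) =
      Module.length A ((A ⧸ I) ⧸ Ideal.span {Ideal.Quotient.mk I r}) :=
    (Module.length_eq_of_surjective Ideal.Quotient.mk_surjective).symm
  rw [h1, ← hJ]
  exact (DoubleQuot.quotQuotEquivQuotSupₐ A I (Ideal.span {r})).toLinearEquiv.length_eq.symm

/-- along a flat algebra, a nonzerodivisor modulo `p` stays a nonzerodivisor modulo `pA` -/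
theorem reg_quot_of_flat {B A : Type u} [CommRing B] [CommRing A] [Algebra B A]
    [Module.Flat B A] (p : Ideal B) (c : B) (hc : ∀ b, c * b ∈ p → b ∈ p) (z : A)
    (hz : algebraMap B A c * z ∈ p.map (algebraMap B A)) : z ∈ p.map (algebraMap B A) := by
  let e := Algebra.TensorProduct.quotIdealMapEquivTensorQuot A p
  let μ : (B ⧸ p) →ₗ[B] (B ⧸ p) := LinearMap.lsmul B (B ⧸ p) c
  have hμ : Function.Injective μ := by
    rw [← LinearMap.ker_eq_bot, LinearMap.ker_eq_bot']
    intro m hm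
    obtain ⟨b, rfl⟩ := Ideal.Quotient.mk_surjective m
    have h1 : Ideal.Quotient.mk p (c * b) = 0 := hm
    rw [Ideal.Quotient.eq_zero_iff_mem] at h1 ⊢
    exact hc b h1
  have hL : Function.Injective (LinearMap.lTensor A μ) :=
    Module.Flat.lTensor_preserves_injective_linearMap μ hμ
  have h2 : LinearMap.lTensor A μ (e (Ideal.Quotient.mk _ z)) =
      e (Ideal.Quotient.mk _ (algebraMap B A c * z)) := by
    show LinearMap.lTensor A μ (z ⊗ₜ[B] (1 : B ⧸ p)) =
      (algebraMap B A c * z) ⊗ₜ[B] (1 : B ⧸ p)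
    rw [LinearMap.lTensor_tmul]
    show z ⊗ₜ[B] (c • (1 : B ⧸ p)) = _
    rw [← TensorProduct.smul_tmul, Algebra.smul_def]
  have h3 : e (Ideal.Quotient.mk _ (algebraMap B A c * z)) = 0 := by
    rw [Ideal.Quotient.eq_zero_iff_mem.2 hz, map_zero]
  rw [h3] at h2
  have h4 : e (Ideal.Quotient.mk _ z) = 0 := hL (by rw [h2, map_zero])
  have h5 : Ideal.Quotient.mk (p.map (algebraMap B A)) z = 0 :=
    e.injective (by rw [h4, map_zero])
  exact Ideal.Quotient.eq_zero_iff_mem.1 h5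

end Alg

variable {X : Scheme.{u}}

theorem ker_specMap_congr (y η η' : X) (e : η = η') (h : η ⤳ y) (h' : η' ⤳ y) :
    RingHom.ker (Cyc.specMap y η h) = RingHom.ker (Cyc.specMap y η' h') := by
  subst e
  rfl

theorem ker_le_of_specializes (z ζ y' : X) (h1 : ζ ⤳ z) (h2 : y' ⤳ ζ) :
    RingHom.ker (Cyc.specMap z y' (h2.trans h1)) ≤ RingHom.ker (Cyc.specMap z ζ h1) := by
  intro a ha
  rw [RingHom.mem_ker] at ha ⊢
  by_contra hne
  have hne' : IsLocalRing.residue (X.presheaf.stalk ζ)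
      ((X.presheaf.stalkSpecializes h1).hom a) ≠ 0 := hne
  have hu : IsUnit ((X.presheaf.stalkSpecializes h1).hom a) :=
    (IsLocalRing.residue_ne_zero_iff_isUnit _).1 hne'
  have hu2 : IsUnit ((X.presheaf.stalkSpecializes h2).hom
      ((X.presheaf.stalkSpecializes h1).hom a)) := hu.map _
  have hcomp : (X.presheaf.stalkSpecializes h2).hom ((X.presheaf.stalkSpecializes h1).hom a) =
      (X.presheaf.stalkSpecializes (h2.trans h1)).hom a := by
    rw [← TopCat.Presheaf.stalkSpecializes_comp X.presheaf h2 h1]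
    rfl
  rw [hcomp] at hu2
  have h3 : IsLocalRing.residue (X.presheaf.stalk y')
      ((X.presheaf.stalkSpecializes (h2.trans h1)).hom a) ≠ 0 :=
    (IsLocalRing.residue_ne_zero_iff_isUnit _).2 hu2
  exact h3 ha

/-- the localized length of `A/I` at a prime containing `I` is the length of the quotient of the
local ring of the corresponding generization -/
theorem lenAt_quot_eq (x ζ : X) (h : ζ ⤳ x) (I : Ideal (X.presheaf.stalk x))
    [IsLocalRing (X.presheaf.stalk x ⧸ I)]
    (hI : I ≤ RingHom.ker (Cyc.specMap x ζ h))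
    (hp : ((RingHom.ker (Cyc.specMap x ζ h)).map (Ideal.Quotient.mk I)).IsPrime) :
    lenAt (⟨(RingHom.ker (Cyc.specMap x ζ h)).map (Ideal.Quotient.mk I), hp⟩ :
        PrimeSpectrum (X.presheaf.stalk x ⧸ I)) (X.presheaf.stalk x ⧸ I) =
      Module.length (X.presheaf.stalk ζ)
        (X.presheaf.stalk ζ ⧸ I.map (X.presheaf.stalkSpecializes h).hom) := by
  letI algS : Algebra (X.presheaf.stalk x) (X.presheaf.stalk ζ) :=
    (X.presheaf.stalkSpecializes h).hom.toAlgebra
  haveI hloc : IsLocalization (RingHom.ker (Cyc.specMap x ζ h)).primeCompl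
      (X.presheaf.stalk ζ) := isLocalization_stalk_of_specializes x ζ h
  letI algQ : Algebra (X.presheaf.stalk x ⧸ I)
      (X.presheaf.stalk ζ ⧸ I.map (algebraMap (X.presheaf.stalk x) (X.presheaf.stalk ζ))) :=
    (Ideal.quotientMap (I.map (algebraMap (X.presheaf.stalk x) (X.presheaf.stalk ζ)))
      (algebraMap (X.presheaf.stalk x) (X.presheaf.stalk ζ)) Ideal.le_comap_map).toAlgebra
  have hL : IsLocalization
      ((RingHom.ker (Cyc.specMap x ζ h)).primeCompl.map (Ideal.Quotient.mk I))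
      (X.presheaf.stalk ζ ⧸ I.map (algebraMap (X.presheaf.stalk x) (X.presheaf.stalk ζ))) := by
    refine IsLocalization.of_surjective (RingHom.ker (Cyc.specMap x ζ h)).primeCompl
      (X.presheaf.stalk ζ) (Ideal.Quotient.mk I) Ideal.Quotient.mk_surjective
      (Ideal.Quotient.mk _) Ideal.Quotient.mk_surjective ?_ ?_
    · exact RingHom.ext fun a => rfl
    · rw [Ideal.mk_ker, Ideal.mk_ker]
  have hsub : (RingHom.ker (Cyc.specMap x ζ h)).primeCompl.map (Ideal.Quotient.mk I) =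
      ((RingHom.ker (Cyc.specMap x ζ h)).map (Ideal.Quotient.mk I)).primeCompl := by
    ext z
    rw [Submonoid.mem_map, Ideal.mem_primeCompl_iff]
    constructor
    · rintro ⟨a, ha, rfl⟩ hmem
      have h2 : a ∈ ((RingHom.ker (Cyc.specMap x ζ h)).map (Ideal.Quotient.mk I)).comap
          (Ideal.Quotient.mk I) := hmem
      rw [Ideal.comap_map_of_surjective _ Ideal.Quotient.mk_surjective,
        ← RingHom.ker_eq_comap_bot, Ideal.mk_ker, sup_eq_left.2 hI] at h2
      exact ha h2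
    · intro hz
      obtain ⟨a, rfl⟩ := Ideal.Quotient.mk_surjective z
      refine ⟨a, ?_, rfl⟩
      intro ha
      exact hz (Ideal.mem_map_of_mem _ ha)
  haveI hAt : IsLocalization.AtPrime
      (X.presheaf.stalk ζ ⧸ I.map (algebraMap (X.presheaf.stalk x) (X.presheaf.stalk ζ)))
      (⟨(RingHom.ker (Cyc.specMap x ζ h)).map (Ideal.Quotient.mk I), hp⟩ :
        PrimeSpectrum (X.presheaf.stalk x ⧸ I)).asIdeal := by
    show IsLocalization
      ((RingHom.ker (Cyc.specMap x ζ h)).map (Ideal.Quotient.mk I)).primeCompl _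
    rw [← hsub]
    exact hL
  rw [lenAt_ring_eq _
    (X.presheaf.stalk ζ ⧸ I.map (algebraMap (X.presheaf.stalk x) (X.presheaf.stalk ζ)))]
  exact (Module.length_eq_of_surjective Ideal.Quotient.mk_surjective).symm

/-- the relative local formula: for an ideal `I` of the local ring at `x` all of whose
generizations are immediate, the length of `O_x/(I + (r))` is the sum over these generizations -/
theorem local_formula_rel [IsLocallyNoetherian X] (δ : X → ℤ) (hδ : Cyc.IsDimFun X δ) (x : X)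
    (I : Ideal (X.presheaf.stalk x)) (hI : I ≤ maximalIdeal (X.presheaf.stalk x))
    (r : X.presheaf.stalk x)
    (hreg : ∀ z : X.presheaf.stalk x, r * z ∈ I → z ∈ I)
    (hT : ∀ (ζ : X) (h : ζ ⤳ x), ζ ≠ x → I ≤ RingHom.ker (Cyc.specMap x ζ h) →
      δ ζ = δ x + 1)
    (hr : ∀ (ζ : X) (h : ζ ⤳ x), ζ ≠ x → I ≤ RingHom.ker (Cyc.specMap x ζ h) →
      Cyc.specMap x ζ h r ≠ 0) :
    Finite {ζ : X // ζ ⤳ x ∧ ζ ≠ x ∧ ∀ h : ζ ⤳ x, I ≤ RingHom.ker (Cyc.specMap x ζ h)} ∧
    ((Module.length (X.presheaf.stalk x)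
      (X.presheaf.stalk x ⧸ (I ⊔ Ideal.span {r}))).toNat : ℤ) =
      ∑ᶠ t : {ζ : X // ζ ⤳ x ∧ ζ ≠ x ∧ ∀ h : ζ ⤳ x, I ≤ RingHom.ker (Cyc.specMap x ζ h)},
        ((Module.length (X.presheaf.stalk t.1) (X.presheaf.stalk t.1 ⧸
          I.map (X.presheaf.stalkSpecializes t.2.1).hom)).toNat : ℤ) *
          Cyc.ordAt x t.1 t.2.1 (Cyc.specMap x t.1 t.2.1 r) := by
  have hItop : I ≠ ⊤ := fun h => (maximalIdeal.isMaximal _).ne_top (top_le_iff.1 (h ▸ hI))
  haveI : Nontrivial (X.presheaf.stalk x ⧸ I) := Ideal.Quotient.nontrivial_iff.mpr hItop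
  haveI : IsLocalRing (X.presheaf.stalk x ⧸ I) :=
    IsLocalRing.of_surjective' (Ideal.Quotient.mk I) Ideal.Quotient.mk_surjective
  have hπs : Function.Surjective (Ideal.Quotient.mk I) := Ideal.Quotient.mk_surjective
  have hmaxR : (maximalIdeal (X.presheaf.stalk x ⧸ I)).comap (Ideal.Quotient.mk I) =
      maximalIdeal (X.presheaf.stalk x) := by
    haveI := Ideal.comap_isMaximal_of_surjective (Ideal.Quotient.mk I) hπs
      (K := maximalIdeal (X.presheaf.stalk x ⧸ I))
    exact IsLocalRing.eq_maximalIdeal inferInstance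
  have hcm : ∀ K : Ideal (X.presheaf.stalk x), I ≤ K →
      (K.map (Ideal.Quotient.mk I)).comap (Ideal.Quotient.mk I) = K := by
    intro K hK
    rw [Ideal.comap_map_of_surjective _ hπs, ← RingHom.ker_eq_comap_bot, Ideal.mk_ker]
    exact sup_eq_left.2 hK
  have hIcomap : ∀ K : Ideal (X.presheaf.stalk x ⧸ I), I ≤ K.comap (Ideal.Quotient.mk I) := by
    intro K a ha
    rw [Ideal.mem_comap, Ideal.Quotient.eq_zero_iff_mem.2 ha]
    exact Ideal.zero_mem _
  have hδt : ∀ t : {ζ : X // ζ ⤳ x ∧ ζ ≠ x ∧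
      ∀ h : ζ ⤳ x, I ≤ RingHom.ker (Cyc.specMap x ζ h)}, δ t.1 = δ x + 1 :=
    fun t => hT t.1 t.2.1 t.2.2.1 (t.2.2.2 t.2.1)
  have himm : ∀ t : {ζ : X // ζ ⤳ x ∧ ζ ≠ x ∧
      ∀ h : ζ ⤳ x, I ≤ RingHom.ker (Cyc.specMap x ζ h)},
      ∀ ζ : X, t.1 ⤳ ζ → ζ ⤳ x → ζ = t.1 ∨ ζ = x := by
    intro t ζ h1 h2
    by_contra hcon
    rw [not_or] at hcon
    have h3 := (hδ t.1 ζ h1 (Ne.symm hcon.1)).1
    have h4 := (hδ ζ x h2 hcon.2).1
    have h5 := hδt t
    omega
  have hprime : ∀ t : {ζ : X // ζ ⤳ x ∧ ζ ≠ x ∧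
      ∀ h : ζ ⤳ x, I ≤ RingHom.ker (Cyc.specMap x ζ h)},
      ((RingHom.ker (Cyc.specMap x t.1 t.2.1)).map (Ideal.Quotient.mk I)).IsPrime := by
    intro t
    refine Ideal.map_isPrime_of_surjective hπs ?_
    rw [Ideal.mk_ker]
    exact t.2.2.2 t.2.1
  let Ψ : {ζ : X // ζ ⤳ x ∧ ζ ≠ x ∧ ∀ h : ζ ⤳ x, I ≤ RingHom.ker (Cyc.specMap x ζ h)} →
      QQ (X.presheaf.stalk x ⧸ I) := fun t =>
    ⟨⟨(RingHom.ker (Cyc.specMap x t.1 t.2.1)).map (Ideal.Quotient.mk I), hprime t⟩,
      fun he => by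
        apply t.2.2.1
        apply (ker_specMap_eq_max_iff x t.1 t.2.1).1
        have h1 := hcm _ (t.2.2.2 t.2.1)
        rw [← h1, ← hmaxR]
        exact congrArg (Ideal.comap (Ideal.Quotient.mk I)) he⟩
  have hΨker : ∀ t, ((Ψ t).1.asIdeal).comap (Ideal.Quotient.mk I) =
      RingHom.ker (Cyc.specMap x t.1 t.2.1) := fun t => hcm _ (t.2.2.2 t.2.1)
  have hΨinj : Function.Injective Ψ := by
    intro t t' htt
    have h1 : RingHom.ker (Cyc.specMap x t.1 t.2.1) =
        RingHom.ker (Cyc.specMap x t'.1 t'.2.1) := by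
      rw [← hΨker t, ← hΨker t', htt]
    exact Subtype.ext (ker_specMap_injective x t.1 t'.1 t.2.1 t'.2.1 h1)
  have hΨsurj : Function.Surjective Ψ := by
    intro q
    haveI := q.1.isPrime
    haveI hqp : (q.1.asIdeal.comap (Ideal.Quotient.mk I)).IsPrime := Ideal.comap_isPrime _ _
    obtain ⟨ζ, h, hker⟩ := exists_point_of_prime x (q.1.asIdeal.comap (Ideal.Quotient.mk I))
    have hIle : I ≤ RingHom.ker (Cyc.specMap x ζ h) := by
      rw [hker]
      exact hIcomap _
    have hne : ζ ≠ x := by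
      intro he
      apply q.2
      have h1 := (ker_specMap_eq_max_iff x ζ h).2 he
      rw [hker, ← hmaxR] at h1
      exact Ideal.comap_injective_of_surjective _ hπs h1
    refine ⟨⟨ζ, h, hne, fun h' => hIle⟩, ?_⟩
    apply Subtype.ext
    apply PrimeSpectrum.ext
    show (RingHom.ker (Cyc.specMap x ζ h)).map (Ideal.Quotient.mk I) = q.1.asIdeal
    rw [hker, Ideal.map_comap_of_surjective _ hπs]
  have hdim' : ∀ (q : QQ (X.presheaf.stalk x ⧸ I))
      (p : PrimeSpectrum (X.presheaf.stalk x ⧸ I)), p.asIdeal ≤ q.1.asIdeal → p = q.1 := by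
    intro q p hle
    obtain ⟨t, rfl⟩ := hΨsurj q
    haveI := p.isPrime
    haveI hpp : (p.asIdeal.comap (Ideal.Quotient.mk I)).IsPrime := Ideal.comap_isPrime _ _
    obtain ⟨ζ, hζ, hkζ⟩ := exists_point_of_prime x (p.asIdeal.comap (Ideal.Quotient.mk I))
    have hle' : RingHom.ker (Cyc.specMap x ζ hζ) ≤ RingHom.ker (Cyc.specMap x t.1 t.2.1) := by
      rw [hkζ, ← hΨker t]
      exact Ideal.comap_mono hle
    have h1 : ζ ⤳ t.1 := specializes_of_ker_le x ζ t.1 hζ t.2.1 hle'
    have hIle : I ≤ RingHom.ker (Cyc.specMap x ζ hζ) := by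
      rw [hkζ]
      exact hIcomap _
    have hne : ζ ≠ x := by
      intro he
      apply t.2.2.1
      rw [he] at h1
      exact ((h1.antisymm t.2.1).eq).symm
    have h2 : ζ = t.1 := by
      by_contra hne2
      have h3 := (hδ ζ t.1 h1 hne2).1
      have h4 := hT ζ hζ hne hIle
      have h5 := hδt t
      omega
    apply PrimeSpectrum.ext
    show p.asIdeal = (RingHom.ker (Cyc.specMap x t.1 t.2.1)).map (Ideal.Quotient.mk I)
    rw [← Ideal.map_comap_of_surjective _ hπs p.asIdeal, ← hkζ,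
      ker_specMap_congr x ζ t.1 h2 hζ t.2.1]
  haveI := finite_QQ hdim'
  haveI := krullDimLE_one_of_hdim hdim'
  have hfinT : Finite {ζ : X // ζ ⤳ x ∧ ζ ≠ x ∧
      ∀ h : ζ ⤳ x, I ≤ RingHom.ker (Cyc.specMap x ζ h)} := Finite.of_injective Ψ hΨinj
  refine ⟨hfinT, ?_⟩
  have hreg' : ∀ z : X.presheaf.stalk x ⧸ I, Ideal.Quotient.mk I r * z = 0 → z = 0 := by
    intro z hz
    obtain ⟨z, rfl⟩ := hπs z
    rw [← map_mul, Ideal.Quotient.eq_zero_iff_mem] at hz
    exact Ideal.Quotient.eq_zero_iff_mem.2 (hreg z hz)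
  have h1' : ∀ q : QQ (X.presheaf.stalk x ⧸ I), Ideal.Quotient.mk I r ∉ q.1.asIdeal := by
    intro q
    obtain ⟨t, rfl⟩ := hΨsurj q
    intro hmem
    have h2 : r ∈ ((Ψ t).1.asIdeal).comap (Ideal.Quotient.mk I) := hmem
    rw [hΨker t] at h2
    exact hr t.1 t.2.1 t.2.2.1 (t.2.2.2 t.2.1) (RingHom.mem_ker.1 h2)
  have hKL := kl_ring (Ideal.Quotient.mk I r) hreg' h1' hdim'
  have hN : Module.length (X.presheaf.stalk x) (X.presheaf.stalk x ⧸ (I ⊔ Ideal.span {r})) =
      ∑ᶠ q : QQ (X.presheaf.stalk x ⧸ I),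
        lenAt q.1 (X.presheaf.stalk x ⧸ I) * cq (Ideal.Quotient.mk I r) q.1 := by
    rw [length_quot_sup_span]
    exact hKL
  have hfin : Module.length (X.presheaf.stalk x)
      (X.presheaf.stalk x ⧸ (I ⊔ Ideal.span {r})) ≠ ⊤ := by
    rw [length_quot_sup_span]
    exact Ring.ord_ne_top (mem_nonZeroDivisors_iff_left.2 hreg')
  rw [toNat_finsum_mul _ _ _ hfin hN]
  symm
  refine finsum_eq_of_bijective Ψ ⟨hΨinj, hΨsurj⟩ (fun t => ?_)
  have e1 : lenAt (Ψ t).1 (X.presheaf.stalk x ⧸ I) =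
      Module.length (X.presheaf.stalk t.1) (X.presheaf.stalk t.1 ⧸
        I.map (X.presheaf.stalkSpecializes t.2.1).hom) :=
    lenAt_quot_eq x t.1 t.2.1 I (t.2.2.2 t.2.1) (hprime t)
  have e3 : Ring.ord (Cyc.LocQuot x t.1 t.2.1)
      (Ideal.Quotient.mk (RingHom.ker (Cyc.specMap x t.1 t.2.1)) r) =
      cq (Ideal.Quotient.mk I r) (Ψ t).1 := by
    unfold cq
    have h0 : (DoubleQuot.quotQuotEquivQuotOfLE (t.2.2.2 t.2.1))
        (Ideal.Quotient.mk ((RingHom.ker (Cyc.specMap x t.1 t.2.1)).map (Ideal.Quotient.mk I))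
          (Ideal.Quotient.mk I r)) =
        Ideal.Quotient.mk (RingHom.ker (Cyc.specMap x t.1 t.2.1)) r :=
      DoubleQuot.quotQuotEquivQuotOfLE_quotQuotMk r (t.2.2.2 t.2.1)
    have h := ord_ringEquiv (DoubleQuot.quotQuotEquivQuotOfLE (t.2.2.2 t.2.1))
      (Ideal.Quotient.mk ((RingHom.ker (Cyc.specMap x t.1 t.2.1)).map (Ideal.Quotient.mk I))
        (Ideal.Quotient.mk I r))
    rw [h0] at h
    exact h.symm
  have e2 := ordAt_specMap_eq x t.1 t.2.1 (himm t) r
    (hr t.1 t.2.1 t.2.2.1 (t.2.2.2 t.2.1))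
  rw [e2, e3, e1]

end Groth.Agent.Helper7.KL
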