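import Mathlib
import Groth.Prelude.Def_C1
import Groth.Agent.Lib.Helper7.KL.FlatDiv
import Groth.Agent.Lib.Helper7.KL.RelFormula

set_option linter.style.haveILetI false
set_option linter.unusedVariables false
set_option linter.unusedSectionVars false
set_option autoImplicit false
set_option backward.isDefEq.respectTransparency.types false
set_option synthInstance.maxHeartbeats 400000
set_option maxHeartbeats 1600000

namespace Groth.Agent.Helper7.KL

open CategoryTheory CategoryTheory.Limits AlgebraicGeometry IsLocalRing TopologicalSpace Opposite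
open Groth.Agent.Lead.SecOrd Groth.Agent.Helper7.CycLim Groth.Agent.Helper7.DivFin
open Groth.Agent.Helper7.CycPull

universe u

/-! helper7: the flat pullback formula for a principal divisor at a point (general base, not necessarily integral) -/

variable {X Y : Scheme.{u}}

/-- pulling back the kernel of a specialization map along a morphism -/
theorem comap_ker_specMap_stalkMap (f : X ⟶ Y) (x ζ : X) (h : ζ ⤳ x) (h' : f ζ ⤳ f x) :
    (RingHom.ker (Cyc.specMap x ζ h)).comap (f.stalkMap x).hom =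
      RingHom.ker (Cyc.specMap (f x) (f ζ) h') := by
  ext a
  rw [Ideal.mem_comap, RingHom.mem_ker, RingHom.mem_ker, ← specMap_compat' f x ζ h h' a]
  exact map_eq_zero (f.residueFieldMap ζ).hom

/-- the prime of `f ζ` generates, in the local ring of `ζ`, the ideal of the fibre -/
theorem map_map_ker_eq (f : X ⟶ Y) (x ζ : X) (h : ζ ⤳ x) (h' : f ζ ⤳ f x) :
    ((RingHom.ker (Cyc.specMap (f x) (f ζ) h')).map (f.stalkMap x).hom).map
        (X.presheaf.stalkSpecializes h).hom =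
      (maximalIdeal (Y.presheaf.stalk (f ζ))).map (f.stalkMap ζ).hom := by
  letI : Algebra (Y.presheaf.stalk (f x)) (Y.presheaf.stalk (f ζ)) :=
    (Y.presheaf.stalkSpecializes h').hom.toAlgebra
  haveI : IsLocalization.AtPrime (Y.presheaf.stalk (f ζ))
      (RingHom.ker (Cyc.specMap (f x) (f ζ) h')) :=
    isLocalization_stalk_of_specializes (f x) (f ζ) h'
  have hm := IsLocalization.AtPrime.map_eq_maximalIdeal
    (RingHom.ker (Cyc.specMap (f x) (f ζ) h')) (Y.presheaf.stalk (f ζ))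
  have hcomp : (X.presheaf.stalkSpecializes h).hom.comp (f.stalkMap x).hom =
      (f.stalkMap ζ).hom.comp (Y.presheaf.stalkSpecializes h').hom := by
    refine RingHom.ext fun a => ?_
    exact (Scheme.Hom.stalkSpecializes_stalkMap_apply f ζ x h a).symm
  rw [Ideal.map_map, hcomp, ← Ideal.map_map, ← hm]
  rfl

/-- the key step of the flat pullback formula: for an element `c` of the local ring of `f x`
not vanishing at `ξ` -/
theorem flat_local_key (δX : X → ℤ) (δY : Y → ℤ) (hX : Cyc.IsSetup X δX)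
    (hY : Cyc.IsSetup Y δY) (f : X ⟶ Y) [Flat f] (x : X) (ξ : Y) (hsp : ξ ⤳ f x)
    (hH : ∀ ζ : X, ζ ⤳ x → ζ ≠ x → ξ ⤳ f ζ → f ζ = ξ ∧ δX ζ = δX x + 1)
    (c : Y.presheaf.stalk (f x)) (hc : Cyc.specMap (f x) ξ hsp c ≠ 0) :
    Finite {ζ : X // ζ ⤳ x ∧ ζ ≠ x ∧ f ζ = ξ} ∧
    ((Ring.ord (Cyc.LocQuot (f x) ξ hsp)
        (Ideal.Quotient.mk (RingHom.ker (Cyc.specMap (f x) ξ hsp)) c)).toNat : ℤ) *
      ((Module.length (X.presheaf.stalk x) (X.presheaf.stalk x ⧸
        Ideal.map (f.stalkMap x).hom (maximalIdeal (Y.presheaf.stalk (f x))))).toNat : ℤ) =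
      ∑ᶠ t : {ζ : X // ζ ⤳ x ∧ ζ ≠ x ∧ f ζ = ξ},
        ((Module.length (X.presheaf.stalk t.1) (X.presheaf.stalk t.1 ⧸
          Ideal.map (f.stalkMap t.1).hom
            (maximalIdeal (Y.presheaf.stalk (f t.1))))).toNat : ℤ) *
          Cyc.ordAt x t.1 t.2.1 (Cyc.specMap x t.1 t.2.1 ((f.stalkMap x).hom c)) := by
  haveI : IsLocallyNoetherian X := hX.1
  haveI : IsLocallyNoetherian Y := hY.1
  have hflat : (f.stalkMap x).hom.Flat := Flat.stalkMap f x
  obtain ⟨I, hIdef⟩ : ∃ I : Ideal (X.presheaf.stalk x),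
      I = (RingHom.ker (Cyc.specMap (f x) ξ hsp)).map (f.stalkMap x).hom := ⟨_, rfl⟩
  have hIm : I ≤ maximalIdeal (X.presheaf.stalk x) := by
    rw [hIdef]
    refine le_trans (Ideal.map_mono
      (IsLocalRing.le_maximalIdeal (RingHom.ker_isPrime (Cyc.specMap (f x) ξ hsp)).ne_top)) ?_
    exact ((IsLocalRing.local_hom_TFAE (f.stalkMap x).hom).out 0 2 rfl rfl).mp inferInstance
  have hK1 : ∀ (ζ : X) (h : ζ ⤳ x), I ≤ RingHom.ker (Cyc.specMap x ζ h) → ξ ⤳ f ζ := by
    intro ζ h hle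
    have h' : f ζ ⤳ f x := h.map f.continuous
    refine specializes_of_ker_le (f x) ξ (f ζ) hsp h' ?_
    rw [← comap_ker_specMap_stalkMap f x ζ h h', ← Ideal.map_le_iff_le_comap, ← hIdef]
    exact hle
  have hK2 : ∀ (ζ : X) (h : ζ ⤳ x), f ζ = ξ → I ≤ RingHom.ker (Cyc.specMap x ζ h) := by
    intro ζ h e
    have h' : f ζ ⤳ f x := h.map f.continuous
    rw [hIdef, Ideal.map_le_iff_le_comap, comap_ker_specMap_stalkMap f x ζ h h']
    exact le_of_eq (ker_specMap_congr (f x) ξ (f ζ) e.symm hsp h')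
  have hT : ∀ (ζ : X) (h : ζ ⤳ x), ζ ≠ x → I ≤ RingHom.ker (Cyc.specMap x ζ h) →
      δX ζ = δX x + 1 := fun ζ h hne hle => (hH ζ h hne (hK1 ζ h hle)).2
  have hcp : c ∉ RingHom.ker (Cyc.specMap (f x) ξ hsp) :=
    fun hmem => hc (RingHom.mem_ker.1 hmem)
  have hreg : ∀ z : X.presheaf.stalk x, (f.stalkMap x).hom c * z ∈ I → z ∈ I := by
    intro z hz
    letI : Algebra (Y.presheaf.stalk (f x)) (X.presheaf.stalk x) :=
      (f.stalkMap x).hom.toAlgebra
    haveI : Module.Flat (Y.presheaf.stalk (f x)) (X.presheaf.stalk x) := hflat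
    rw [hIdef] at hz ⊢
    exact reg_quot_of_flat (RingHom.ker (Cyc.specMap (f x) ξ hsp)) c
      (fun b hb => ((RingHom.ker_isPrime (Cyc.specMap (f x) ξ hsp)).mem_or_mem hb).resolve_left
        hcp) z hz
  have hr : ∀ (ζ : X) (h : ζ ⤳ x), ζ ≠ x → I ≤ RingHom.ker (Cyc.specMap x ζ h) →
      Cyc.specMap x ζ h ((f.stalkMap x).hom c) ≠ 0 := by
    intro ζ h hne hle
    have e := (hH ζ h hne (hK1 ζ h hle)).1
    rw [← pulled_specMap f x ζ h ξ e hsp c]
    exact (map_ne_zero (f.residueFieldMap ζ).hom).2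
      ((map_ne_zero (Y.residueFieldCongr e.symm).hom.hom).2 hc)
  have hk6gen : ∀ (ζ : X) (h : ζ ⤳ x), f ζ = ξ → I.map (X.presheaf.stalkSpecializes h).hom =
      (maximalIdeal (Y.presheaf.stalk (f ζ))).map (f.stalkMap ζ).hom := by
    intro ζ h e1
    have h' : f ζ ⤳ f x := h.map f.continuous
    rw [hIdef, ker_specMap_congr (f x) ξ (f ζ) e1.symm hsp h']
    exact map_map_ker_eq f x ζ h h'
  obtain ⟨hfinI, hform⟩ := local_formula_rel δX hX.2.2 x I hIm ((f.stalkMap x).hom c) hreg hT hr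
  let e : {ζ : X // ζ ⤳ x ∧ ζ ≠ x ∧ ∀ h : ζ ⤳ x, I ≤ RingHom.ker (Cyc.specMap x ζ h)} →
      {ζ : X // ζ ⤳ x ∧ ζ ≠ x ∧ f ζ = ξ} := fun t =>
    ⟨t.1, t.2.1, t.2.2.1, (hH t.1 t.2.1 t.2.2.1 (hK1 t.1 t.2.1 (t.2.2.2 t.2.1))).1⟩
  have heinj : Function.Injective e := by
    intro t t' h
    have h1 : (e t).1 = (e t').1 := by rw [h]
    exact Subtype.ext h1
  have hesurj : Function.Surjective e := by
    intro t
    exact ⟨⟨t.1, t.2.1, t.2.2.1, fun h => hK2 t.1 h t.2.2.2⟩, Subtype.ext rfl⟩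
  haveI := hfinI
  refine ⟨Finite.of_surjective e hesurj, ?_⟩
  have hsup : I ⊔ Ideal.span {(f.stalkMap x).hom c} =
      (RingHom.ker (Cyc.specMap (f x) ξ hsp) ⊔ Ideal.span {c}).map (f.stalkMap x).hom := by
    rw [Ideal.map_sup, Ideal.map_span, Set.image_singleton, hIdef]
  have hlen : Module.length (X.presheaf.stalk x)
      (X.presheaf.stalk x ⧸ (I ⊔ Ideal.span {(f.stalkMap x).hom c})) =
      Ring.ord (Cyc.LocQuot (f x) ξ hsp)
          (Ideal.Quotient.mk (RingHom.ker (Cyc.specMap (f x) ξ hsp)) c) *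
        Module.length (X.presheaf.stalk x) (X.presheaf.stalk x ⧸
          Ideal.map (f.stalkMap x).hom (maximalIdeal (Y.presheaf.stalk (f x)))) := by
    rw [hsup, length_quot_map_comp (f.stalkMap x).hom hflat, length_quot_sup_span]
  rw [hlen, ENat.toNat_mul] at hform
  push_cast at hform
  rw [hform]
  refine finsum_eq_of_bijective e ⟨heinj, hesurj⟩ (fun t => ?_)
  have hk6 : I.map (X.presheaf.stalkSpecializes t.2.1).hom =
      (maximalIdeal (Y.presheaf.stalk (f t.1))).map (f.stalkMap t.1).hom :=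
    hk6gen t.1 t.2.1 (e t).2.2.2
  rw [hk6]

/-- the flat pullback formula at a point: the order of a rational function on the closure of
`ξ` at `f x`, times the multiplicity of the fibre at `x`, is the sum over the generic points
of the preimage of the closure of `ξ` specializing to `x` -/
theorem flat_local (δX : X → ℤ) (δY : Y → ℤ) (hX : Cyc.IsSetup X δX)
    (hY : Cyc.IsSetup Y δY) (f : X ⟶ Y) [Flat f] (x : X) (ξ : Y) (hsp : ξ ⤳ f x)
    (hξ : δY ξ = δY (f x) + 1) (g : Y.residueField ξ) (hg : g ≠ 0)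
    (hH : ∀ ζ : X, ζ ⤳ x → ζ ≠ x → ξ ⤳ f ζ → f ζ = ξ ∧ δX ζ = δX x + 1) :
    Finite {ζ : X // ζ ⤳ x ∧ ζ ≠ x ∧ f ζ = ξ} ∧
    Cyc.ordAt (f x) ξ hsp g *
      ((Module.length (X.presheaf.stalk x) (X.presheaf.stalk x ⧸
        Ideal.map (f.stalkMap x).hom (maximalIdeal (Y.presheaf.stalk (f x))))).toNat : ℤ) =
      ∑ᶠ t : {ζ : X // ζ ⤳ x ∧ ζ ≠ x ∧ f ζ = ξ},
        ((Module.length (X.presheaf.stalk t.1) (X.presheaf.stalk t.1 ⧸
          Ideal.map (f.stalkMap t.1).hom
            (maximalIdeal (Y.presheaf.stalk (f t.1))))).toNat : ℤ) *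
          Cyc.ordAt x t.1 t.2.1 ((f.residueFieldMap t.1).hom
            ((Y.residueFieldCongr t.2.2.2.symm).hom g)) := by
  haveI : IsLocallyNoetherian X := hX.1
  haveI : IsLocallyNoetherian Y := hY.1
  have himmY : ∀ η : Y, ξ ⤳ η → η ⤳ f x → η = ξ ∨ η = f x := by
    intro η h1 h2
    by_contra hcon
    rw [not_or] at hcon
    have h3 := (hY.2.2 ξ η h1 (Ne.symm hcon.1)).1
    have h4 := (hY.2.2 η (f x) h2 hcon.2).1
    omega
  haveI := isFractionRing_locQuot (f x) ξ hsp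
  obtain ⟨a', b', hb', rfl⟩ :=
    IsFractionRing.div_surjective (A := Cyc.LocQuot (f x) ξ hsp) g
  obtain ⟨a, rfl⟩ := Ideal.Quotient.mk_surjective a'
  obtain ⟨b, rfl⟩ := Ideal.Quotient.mk_surjective b'
  have hgdef : algebraMap (Cyc.LocQuot (f x) ξ hsp) (Y.residueField ξ)
        (Ideal.Quotient.mk _ a) /
      algebraMap (Cyc.LocQuot (f x) ξ hsp) (Y.residueField ξ) (Ideal.Quotient.mk _ b) =
      Cyc.specMap (f x) ξ hsp a / Cyc.specMap (f x) ξ hsp b := rfl
  rw [hgdef] at hg ⊢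
  have hb0 : Cyc.specMap (f x) ξ hsp b ≠ 0 := by
    have h1 : (Ideal.Quotient.mk (RingHom.ker (Cyc.specMap (f x) ξ hsp)) b) ≠ 0 :=
      nonZeroDivisors.ne_zero hb'
    exact (map_ne_zero_iff _ (IsFractionRing.injective (Cyc.LocQuot (f x) ξ hsp)
      (Y.residueField ξ))).2 h1
  have ha0 : Cyc.specMap (f x) ξ hsp a ≠ 0 := by
    intro h0
    apply hg
    rw [h0, zero_div]
  obtain ⟨hfin, hA⟩ := flat_local_key δX δY hX hY f x ξ hsp hH a ha0
  obtain ⟨-, hB⟩ := flat_local_key δX δY hX hY f x ξ hsp hH b hb0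
  refine ⟨hfin, ?_⟩
  haveI := hfin
  have hterm : ∀ t : {ζ : X // ζ ⤳ x ∧ ζ ≠ x ∧ f ζ = ξ},
      ((Module.length (X.presheaf.stalk t.1) (X.presheaf.stalk t.1 ⧸
          Ideal.map (f.stalkMap t.1).hom
            (maximalIdeal (Y.presheaf.stalk (f t.1))))).toNat : ℤ) *
          Cyc.ordAt x t.1 t.2.1 ((f.residueFieldMap t.1).hom
            ((Y.residueFieldCongr t.2.2.2.symm).hom
              (Cyc.specMap (f x) ξ hsp a / Cyc.specMap (f x) ξ hsp b))) =
      ((Module.length (X.presheaf.stalk t.1) (X.presheaf.stalk t.1 ⧸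
          Ideal.map (f.stalkMap t.1).hom
            (maximalIdeal (Y.presheaf.stalk (f t.1))))).toNat : ℤ) *
          Cyc.ordAt x t.1 t.2.1 (Cyc.specMap x t.1 t.2.1 ((f.stalkMap x).hom a)) -
        ((Module.length (X.presheaf.stalk t.1) (X.presheaf.stalk t.1 ⧸
          Ideal.map (f.stalkMap t.1).hom
            (maximalIdeal (Y.presheaf.stalk (f t.1))))).toNat : ℤ) *
          Cyc.ordAt x t.1 t.2.1 (Cyc.specMap x t.1 t.2.1 ((f.stalkMap x).hom b)) := by
    intro t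
    have hu : Cyc.specMap x t.1 t.2.1 ((f.stalkMap x).hom a) ≠ 0 := by
      rw [← pulled_specMap f x t.1 t.2.1 ξ t.2.2.2 hsp a]
      exact (map_ne_zero (f.residueFieldMap t.1).hom).2
        ((map_ne_zero (Y.residueFieldCongr t.2.2.2.symm).hom.hom).2 ha0)
    have hv : Cyc.specMap x t.1 t.2.1 ((f.stalkMap x).hom b) ≠ 0 := by
      rw [← pulled_specMap f x t.1 t.2.1 ξ t.2.2.2 hsp b]
      exact (map_ne_zero (f.residueFieldMap t.1).hom).2
        ((map_ne_zero (Y.residueFieldCongr t.2.2.2.symm).hom.hom).2 hb0)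
    rw [map_div₀, map_div₀, pulled_specMap f x t.1 t.2.1 ξ t.2.2.2 hsp a,
      pulled_specMap f x t.1 t.2.1 ξ t.2.2.2 hsp b, div_eq_mul_inv,
      ordAt_mul x t.1 t.2.1 hu (inv_ne_zero hv), ordAt_inv x t.1 t.2.1 _ hv]
    ring
  rw [finsum_congr hterm, finsum_sub_distrib (Set.toFinite _) (Set.toFinite _), ← hA, ← hB,
    div_eq_mul_inv, ordAt_mul (f x) ξ hsp ha0 (inv_ne_zero hb0), ordAt_inv (f x) ξ hsp _ hb0,
    ordAt_specMap_eq (f x) ξ hsp himmY a ha0, ordAt_specMap_eq (f x) ξ hsp himmY b hb0]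
  ring

end Groth.Agent.Helper7.KL
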