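import Mathlib
import Groth.Agent.Lib.Helper7.KL.Alg

set_option linter.style.haveILetI false
set_option linter.unusedVariables false
set_option linter.unusedSectionVars false
set_option autoImplicit false
set_option backward.isDefEq.respectTransparency.types false
set_option synthInstance.maxHeartbeats 400000
set_option maxHeartbeats 1600000

namespace Groth.Agent.Helper7.KL

open Groth.Agent.Helper9.SubQuotLen IsLocalRing

universe u

/-! helper7: helper7: the length formula relative to an ideal annihilating the module (lengths of a finite module with one-dimensional support along a regular element), and lengths of localized modules on an arbitrary model of the localization -/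

section GeneralS

variable {R : Type u} [CommRing R]

/-- the statement proved by dévissage, with an abstract correction term -/
def MotS (a : R) (N : Type u) [AddCommGroup N] [Module R N] (S : ℕ∞) : Prop :=
  Module.length R (LinearMap.ker (mu a N)) ≠ ⊤ ∧
    Module.length R (N ⧸ LinearMap.range (mu a N)) =
      Module.length R (LinearMap.ker (mu a N)) + S

theorem motS_exact (a : R) {N₁ N₂ N₃ : Type u} [AddCommGroup N₁] [Module R N₁]
    [AddCommGroup N₂] [Module R N₂] [AddCommGroup N₃] [Module R N₃] (f : N₁ →ₗ[R] N₂)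
    (g : N₂ →ₗ[R] N₃) (hf : Function.Injective f) (hg : Function.Surjective g)
    (hfg : Function.Exact f g) (S₁ S₂ S₃ : ℕ∞) (hS : S₂ = S₁ + S₃)
    (h1 : MotS a N₁ S₁) (h3 : MotS a N₃ S₃) : MotS a N₂ S₂ := by
  obtain ⟨X, hX1, hX2⟩ := e_add a f g hf hg hfg
  have hfin : Module.length R (LinearMap.ker (mu a N₃)) +
      Module.length R (LinearMap.ker (mu a N₁)) ≠ ⊤ := by
    intro h
    rcases ENat.add_eq_top.1 h with h' | h'
    · exact h3.1 h'
    · exact h1.1 h'
  have hXfin : X ≠ ⊤ := by
    intro h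
    rw [h, top_add] at hX2
    exact hfin hX2
  have hT2 : Module.length R (LinearMap.ker (mu a N₂)) ≠ ⊤ := by
    intro h
    rw [h, add_top] at hX2
    exact hfin hX2
  refine ⟨hT2, ?_⟩
  apply ENat.add_left_injective_of_ne_top hXfin
  show Module.length R (N₂ ⧸ LinearMap.range (mu a N₂)) + X =
    (Module.length R (LinearMap.ker (mu a N₂)) + S₂) + X
  rw [hX1, h3.2, h1.2, hS]
  calc Module.length R (LinearMap.ker (mu a N₃)) + S₃ +
        (Module.length R (LinearMap.ker (mu a N₁)) + S₁)
      = (Module.length R (LinearMap.ker (mu a N₃)) + Module.length R (LinearMap.ker (mu a N₁))) +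
          (S₁ + S₃) := by abel
    _ = (X + Module.length R (LinearMap.ker (mu a N₂))) + (S₁ + S₃) := by rw [hX2]
    _ = _ := by abel

theorem motS_of_length_ne_top (a : R) (N : Type u) [AddCommGroup N] [Module R N]
    (hN : Module.length R N ≠ ⊤) : MotS a N 0 := by
  have h1 := length_ker_add_range (mu a N)
  have h2 : Module.length R N = Module.length R (LinearMap.range (mu a N)) +
      Module.length R (N ⧸ LinearMap.range (mu a N)) :=
    Module.length_eq_add_of_exact (LinearMap.range (mu a N)).subtype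
      (LinearMap.range (mu a N)).mkQ (Submodule.subtype_injective _)
      (Submodule.mkQ_surjective _) (LinearMap.exact_subtype_mkQ _)
  have hr : Module.length R (LinearMap.range (mu a N)) ≠ ⊤ := by
    intro h
    rw [h, top_add] at h2
    exact hN h2
  have hk : Module.length R (LinearMap.ker (mu a N)) ≠ ⊤ := by
    intro h
    rw [h, top_add] at h1
    exact hN h1
  refine ⟨hk, ?_⟩
  rw [add_zero]
  apply ENat.add_right_injective_of_ne_top hr
  show Module.length R (LinearMap.range (mu a N)) +
      Module.length R (N ⧸ LinearMap.range (mu a N)) =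
    Module.length R (LinearMap.range (mu a N)) + Module.length R (LinearMap.ker (mu a N))
  rw [← h2, h1, add_comm]

theorem fin_exact (a : R) {N₁ N₂ N₃ : Type u} [AddCommGroup N₁] [Module R N₁]
    [AddCommGroup N₂] [Module R N₂] [AddCommGroup N₃] [Module R N₃] (f : N₁ →ₗ[R] N₂)
    (g : N₂ →ₗ[R] N₃) (hf : Function.Injective f) (hg : Function.Surjective g)
    (hfg : Function.Exact f g)
    (h1 : Module.length R (N₁ ⧸ LinearMap.range (mu a N₁)) ≠ ⊤)
    (h3 : Module.length R (N₃ ⧸ LinearMap.range (mu a N₃)) ≠ ⊤) :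
    Module.length R (N₂ ⧸ LinearMap.range (mu a N₂)) ≠ ⊤ := by
  obtain ⟨X, hX1, -⟩ := e_add a f g hf hg hfg
  intro h
  rw [h, top_add] at hX1
  rcases ENat.add_eq_top.1 hX1.symm with h' | h'
  · exact h3 h'
  · exact h1 h'

theorem fin_subsingleton (a : R) (N : Type u) [AddCommGroup N] [Module R N] [Subsingleton N] :
    Module.length R (N ⧸ LinearMap.range (mu a N)) ≠ ⊤ := by
  haveI : Subsingleton (N ⧸ LinearMap.range (mu a N)) :=
    (Submodule.Quotient.mk_surjective _).subsingleton
  rw [Module.length_eq_zero]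
  exact ENat.zero_ne_top

end GeneralS

section Rel

variable {R : Type u} [CommRing R] [IsLocalRing R]

/-- the nonmaximal primes containing an ideal -/
abbrev QQI (I : Ideal R) : Type u := {q : QQ R // I ≤ q.1.asIdeal}

/-- the weighted sum of orders over the nonmaximal primes containing an ideal -/
noncomputable def SSI (I : Ideal R) (a : R) (M : Type u) [AddCommGroup M] [Module R M] : ℕ∞ :=
  ∑ᶠ q : QQI I, lenAt q.1.1 M * cq a q.1.1

theorem SSI_add (I : Ideal R) [Finite (QQI I)] (a : R) {N₁ N₂ N₃ : Type u} [AddCommGroup N₁]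
    [Module R N₁] [AddCommGroup N₂] [Module R N₂] [AddCommGroup N₃] [Module R N₃]
    (f : N₁ →ₗ[R] N₂) (g : N₂ →ₗ[R] N₃) (hf : Function.Injective f)
    (hg : Function.Surjective g) (hfg : Function.Exact f g) :
    SSI I a N₂ = SSI I a N₁ + SSI I a N₃ := by
  unfold SSI
  rw [← finsum_add_distrib (Set.toFinite _) (Set.toFinite _)]
  exact finsum_congr (fun q => by rw [lenAt_add q.1.1 f g hf hg hfg, add_mul])

theorem SSI_eq_zero (I : Ideal R) (a : R) (N : Type u) [AddCommGroup N] [Module R N]
    (h : ∀ q : QQI I, lenAt q.1.1 N = 0) : SSI I a N = 0 := by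
  unfold SSI
  exact finsum_eq_zero_of_forall_eq_zero (fun q => by rw [h q, zero_mul])

theorem motI_subsingleton (I : Ideal R) (a : R) (N : Type u) [AddCommGroup N] [Module R N]
    [Subsingleton N] : MotS a N (SSI I a N) := by
  rw [SSI_eq_zero I a N (fun q => lenAt_of_subsingleton q.1.1 N)]
  exact motS_of_length_ne_top a N (by rw [Module.length_eq_zero]; exact ENat.zero_ne_top)

theorem motI_quot_max (I : Ideal R) (a : R) (p : Ideal R) (hp : p = maximalIdeal R) :
    MotS a (R ⧸ p) (SSI I a (R ⧸ p)) := by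
  subst hp
  haveI : IsSimpleModule R (R ⧸ maximalIdeal R) :=
    isSimpleModule_iff_isCoatom.mpr (Ideal.isMaximal_def.mp (maximalIdeal.isMaximal R))
  have h1 : Module.length R (R ⧸ maximalIdeal R) = 1 := Module.length_eq_one _ _
  rw [SSI_eq_zero I a _ (fun q => lenAt_quot_of_not_le q.1.1 _ (fun hle => ?_))]
  · exact motS_of_length_ne_top a _ (by rw [h1]; exact ENat.one_ne_top)
  · exact q.1.2 ((maximalIdeal.isMaximal R).eq_of_le q.1.1.isPrime.ne_top hle).symm

theorem length_quot_mu_prime (a : R) (q : PrimeSpectrum R) :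
    Module.length R ((R ⧸ q.asIdeal) ⧸ LinearMap.range (mu a (R ⧸ q.asIdeal))) = cq a q := by
  unfold cq Ring.ord
  have e1 : (Ideal.span {Ideal.Quotient.mk q.asIdeal a} :
      Ideal (R ⧸ q.asIdeal)).restrictScalars R =
      LinearMap.range (mu a (R ⧸ q.asIdeal)) := by
    ext x
    rw [Submodule.restrictScalars_mem, Ideal.mem_span_singleton', LinearMap.mem_range]
    constructor
    · rintro ⟨c, rfl⟩
      refine ⟨c, ?_⟩
      change a • c = _
      rw [Algebra.smul_def, Ideal.Quotient.algebraMap_eq, mul_comm]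
    · rintro ⟨c, rfl⟩
      refine ⟨c, ?_⟩
      change _ = a • c
      rw [Algebra.smul_def, Ideal.Quotient.algebraMap_eq, mul_comm]
  rw [← Module.length_eq_of_surjective (S := R) (R := R ⧸ q.asIdeal)
    (M := (R ⧸ q.asIdeal) ⧸ Ideal.span {Ideal.Quotient.mk q.asIdeal a})
    Ideal.Quotient.mk_surjective]
  rw [← (Submodule.Quotient.restrictScalarsEquiv R
    (Ideal.span {Ideal.Quotient.mk q.asIdeal a} : Ideal (R ⧸ q.asIdeal))).length_eq]
  exact (Submodule.quotEquivOfEq _ _ e1).length_eq.symm

theorem cq_ne_top_of_hdim [IsNoetherianRing R] (I : Ideal R) (a : R) (q₀ : QQI I)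
    (h1 : a ∉ q₀.1.1.asIdeal)
    (hdim : ∀ (q : QQI I) (p : PrimeSpectrum R), I ≤ p.asIdeal →
      p.asIdeal ≤ q.1.1.asIdeal → p = q.1.1) : cq a q₀.1.1 ≠ ⊤ := by
  haveI := q₀.1.1.isPrime
  haveI : Ring.KrullDimLE 1 (R ⧸ q₀.1.1.asIdeal) := by
    refine Ring.KrullDimLE.mk₁' (fun P hP0 hP => ?_)
    obtain ⟨p, hp⟩ : ∃ p : Ideal R, p = P.comap (Ideal.Quotient.mk q₀.1.1.asIdeal) := ⟨_, rfl⟩
    haveI hpp : p.IsPrime := by
      rw [hp]
      exact Ideal.comap_isPrime _ P
    have hq₀p : q₀.1.1.asIdeal ≤ p := by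
      intro x hx
      rw [hp, Ideal.mem_comap, Ideal.Quotient.eq_zero_iff_mem.2 hx]
      exact P.zero_mem
    have hPmap : P = p.map (Ideal.Quotient.mk q₀.1.1.asIdeal) := by
      rw [hp]
      exact (Ideal.map_comap_of_surjective _ Ideal.Quotient.mk_surjective P).symm
    by_cases hpm : p = maximalIdeal R
    · rw [hPmap, hpm]
      exact Ideal.IsMaximal.map_of_surjective_of_ker_le Ideal.Quotient.mk_surjective
        (by rw [Ideal.mk_ker]; exact le_maximalIdeal q₀.1.1.isPrime.ne_top)
    · exfalso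
      have h2 := hdim ⟨⟨⟨p, hpp⟩, hpm⟩, q₀.2.trans hq₀p⟩ q₀.1.1 q₀.2 hq₀p
      have h3 : q₀.1.1.asIdeal = p := congrArg PrimeSpectrum.asIdeal h2
      apply hP0
      rw [hPmap, ← h3, Ideal.map_quotient_self]
  unfold cq
  exact Ring.ord_ne_top (mem_nonZeroDivisors_of_ne_zero
    (fun h0 => h1 (Ideal.Quotient.eq_zero_iff_mem.1 h0)))

theorem motI_quot_prime (I : Ideal R) (a : R) (q₀ : QQI I) (h1 : a ∉ q₀.1.1.asIdeal)
    (hdim : ∀ (q : QQI I) (p : PrimeSpectrum R), I ≤ p.asIdeal →
      p.asIdeal ≤ q.1.1.asIdeal → p = q.1.1) :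
    MotS a (R ⧸ q₀.1.1.asIdeal) (SSI I a (R ⧸ q₀.1.1.asIdeal)) := by
  have hk : LinearMap.ker (mu a (R ⧸ q₀.1.1.asIdeal)) = ⊥ := by
    rw [LinearMap.ker_eq_bot']
    intro x hx
    obtain ⟨r, rfl⟩ := Ideal.Quotient.mk_surjective x
    change a • (Ideal.Quotient.mk q₀.1.1.asIdeal r) = 0 at hx
    rw [Algebra.smul_def, Ideal.Quotient.algebraMap_eq, ← map_mul,
      Ideal.Quotient.eq_zero_iff_mem] at hx
    rw [Ideal.Quotient.eq_zero_iff_mem]
    exact (q₀.1.1.isPrime.mem_or_mem hx).resolve_left h1
  have hq : Module.length R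
      ((R ⧸ q₀.1.1.asIdeal) ⧸ LinearMap.range (mu a (R ⧸ q₀.1.1.asIdeal))) =
      cq a q₀.1.1 := length_quot_mu_prime a q₀.1.1
  have hS : SSI I a (R ⧸ q₀.1.1.asIdeal) = cq a q₀.1.1 := by
    unfold SSI
    rw [finsum_eq_single _ q₀ (fun q hq => ?_), lenAt_quot_self, one_mul]
    have hnle : ¬ q₀.1.1.asIdeal ≤ q.1.1.asIdeal := by
      intro hle
      apply hq
      have h2 := hdim q q₀.1.1 q₀.2 hle
      exact Subtype.ext (Subtype.ext h2.symm)
    rw [lenAt_quot_of_not_le q.1.1 _ hnle, zero_mul]
  refine ⟨?_, ?_⟩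
  · rw [hk, Module.length_bot]
    exact ENat.zero_ne_top
  · rw [hq, hk, Module.length_bot, zero_add, hS]

/-- additivity of lengths over the nonmaximal primes containing an ideal which annihilates the
module -/
theorem kl_main_rel [IsNoetherianRing R] (I : Ideal R) [Finite (QQI I)] (a : R)
    (h1 : ∀ q : QQI I, a ∉ q.1.1.asIdeal)
    (hdim : ∀ (q : QQI I) (p : PrimeSpectrum R), I ≤ p.asIdeal →
      p.asIdeal ≤ q.1.1.asIdeal → p = q.1.1)
    (M : Type u) [AddCommGroup M] [Module R M] [hM : Module.Finite R M]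
    (hIM : ∀ x ∈ I, ∀ m : M, x • m = 0) :
    MotS a M (SSI I a M) ∧ Module.length R (M ⧸ LinearMap.range (mu a M)) ≠ ⊤ := by
  revert hIM
  refine IsNoetherianRing.induction_on_isQuotientEquivQuotientPrime R hM
    (motive := fun N _ _ _ => (∀ x ∈ I, ∀ m : N, x • m = 0) →
      MotS a N (SSI I a N) ∧ Module.length R (N ⧸ LinearMap.range (mu a N)) ≠ ⊤) ?_ ?_ ?_
  · intro N _ _ _ _ _
    exact ⟨motI_subsingleton I a N, fin_subsingleton a N⟩
  · intro N _ _ _ p e hIN
    have hIp : I ≤ p.asIdeal := by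
      intro x hx
      have h2 := hIN x hx (e.symm 1)
      rw [← map_smul] at h2
      have h3 : x • (1 : R ⧸ p.asIdeal) = 0 := e.symm.injective (by rw [h2, map_zero])
      rw [Algebra.smul_def, mul_one, Ideal.Quotient.algebraMap_eq,
        Ideal.Quotient.eq_zero_iff_mem] at h3
      exact h3
    have hp : MotS a (R ⧸ p.asIdeal) (SSI I a (R ⧸ p.asIdeal)) ∧
        Module.length R ((R ⧸ p.asIdeal) ⧸ LinearMap.range (mu a (R ⧸ p.asIdeal))) ≠ ⊤ := by
      by_cases hpm : p.asIdeal = maximalIdeal R
      · refine ⟨motI_quot_max I a _ hpm, ?_⟩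
        have hle := Module.length_le_of_surjective
          (LinearMap.range (mu a (R ⧸ p.asIdeal))).mkQ (Submodule.mkQ_surjective _)
        haveI : IsSimpleModule R (R ⧸ p.asIdeal) := by
          rw [hpm]
          exact isSimpleModule_iff_isCoatom.mpr
            (Ideal.isMaximal_def.mp (maximalIdeal.isMaximal R))
        have h1' : Module.length R (R ⧸ p.asIdeal) = 1 := Module.length_eq_one _ _
        rw [h1'] at hle
        exact ne_top_of_le_ne_top ENat.one_ne_top hle
      · refine ⟨motI_quot_prime I a ⟨⟨p, hpm⟩, hIp⟩ (h1 ⟨⟨p, hpm⟩, hIp⟩) hdim, ?_⟩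
        rw [length_quot_mu_prime a p]
        exact cq_ne_top_of_hdim I a ⟨⟨p, hpm⟩, hIp⟩ (h1 ⟨⟨p, hpm⟩, hIp⟩) hdim
    have hex : Function.Exact (e.symm : (R ⧸ p.asIdeal) →ₗ[R] N) (0 : N →ₗ[R] PUnit.{u + 1}) :=
      (LinearMap.exact_zero_iff_surjective _ (e.symm : (R ⧸ p.asIdeal) →ₗ[R] N)).2
        e.symm.surjective
    refine ⟨motS_exact a (e.symm : (R ⧸ p.asIdeal) →ₗ[R] N) (0 : N →ₗ[R] PUnit.{u + 1})
      e.symm.injective (Function.surjective_to_subsingleton _) hex _ _ _
      (SSI_add I a (e.symm : (R ⧸ p.asIdeal) →ₗ[R] N) (0 : N →ₗ[R] PUnit.{u + 1})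
        e.symm.injective (Function.surjective_to_subsingleton _) hex)
      hp.1 (motI_subsingleton I a PUnit), ?_⟩
    exact fin_exact a (e.symm : (R ⧸ p.asIdeal) →ₗ[R] N) (0 : N →ₗ[R] PUnit.{u + 1})
      e.symm.injective (Function.surjective_to_subsingleton _) hex hp.2
      (fin_subsingleton a PUnit)
  · intro N₁ _ _ _ N₂ _ _ _ N₃ _ _ _ f g hf hg hfg h1' h3' hI2
    have hI1 : ∀ x ∈ I, ∀ m : N₁, x • m = 0 := by
      intro x hx m
      apply hf
      rw [map_smul, hI2 x hx, map_zero]
    have hI3 : ∀ x ∈ I, ∀ m : N₃, x • m = 0 := by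
      intro x hx m
      obtain ⟨n, rfl⟩ := hg m
      rw [← map_smul, hI2 x hx, map_zero]
    exact ⟨motS_exact a f g hf hg hfg _ _ _ (SSI_add I a f g hf hg hfg) (h1' hI1).1 (h3' hI3).1,
      fin_exact a f g hf hg hfg (h1' hI1).2 (h3' hI3).2⟩

theorem finite_QQI [IsNoetherianRing R] (I : Ideal R)
    (hdim : ∀ (q : QQI I) (p : PrimeSpectrum R), I ≤ p.asIdeal →
      p.asIdeal ≤ q.1.1.asIdeal → p = q.1.1) : Finite (QQI I) := by
  have hfin := Ideal.finite_minimalPrimes_of_isNoetherianRing R I
  haveI := hfin.to_subtype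
  let F : QQI I → (I.minimalPrimes) := fun q => ⟨q.1.1.asIdeal, by
    refine ⟨⟨q.1.1.isPrime, q.2⟩, ?_⟩
    rintro p ⟨hp, hIp⟩ hpq
    have := hdim q ⟨p, hp⟩ hIp hpq
    rw [← this]⟩
  refine Finite.of_injective F ?_
  intro q q' h
  have h' : q.1.1.asIdeal = q'.1.1.asIdeal := congrArg Subtype.val h
  exact Subtype.ext (Subtype.ext (PrimeSpectrum.ext h'))

/-- the length formula for a finite module with one-dimensional support on which `a` is
injective -/
theorem kl_module [IsNoetherianRing R] (a : R) (M : Type u) [AddCommGroup M] [Module R M]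
    [Module.Finite R M] (hinj : Function.Injective (fun m : M => a • m))
    (hdim : ∀ (q : QQI (Module.annihilator R M)) (p : PrimeSpectrum R),
      Module.annihilator R M ≤ p.asIdeal → p.asIdeal ≤ q.1.1.asIdeal → p = q.1.1) :
    Finite (QQI (Module.annihilator R M)) ∧
      (∀ q : QQI (Module.annihilator R M), a ∉ q.1.1.asIdeal) ∧
      Module.length R (M ⧸ LinearMap.range (mu a M)) ≠ ⊤ ∧
      Module.length R (M ⧸ LinearMap.range (mu a M)) =
        ∑ᶠ q : QQI (Module.annihilator R M), lenAt q.1.1 M * cq a q.1.1 := by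
  haveI hfin := finite_QQI (Module.annihilator R M) hdim
  have hmin : ∀ q : QQI (Module.annihilator R M),
      q.1.1.asIdeal ∈ (Module.annihilator R M).minimalPrimes := by
    intro q
    refine ⟨⟨q.1.1.isPrime, q.2⟩, ?_⟩
    rintro p ⟨hp, hIp⟩ hpq
    have := hdim q ⟨p, hp⟩ hIp hpq
    rw [← this]
  have h1 : ∀ q : QQI (Module.annihilator R M), a ∉ q.1.1.asIdeal := by
    intro q ha
    have hass := Module.associatedPrimes.minimalPrimes_annihilator_subset_associatedPrimes R M
      (hmin q)
    have hmem : a ∈ ⋃ p ∈ associatedPrimes R M, (p : Set R) := Set.mem_biUnion hass ha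
    rw [biUnion_associatedPrimes_eq_zero_divisors] at hmem
    obtain ⟨x, hx0, hax⟩ := hmem
    apply hx0
    apply hinj
    show a • x = a • 0
    rw [hax, smul_zero]
  obtain ⟨⟨-, h2⟩, hne⟩ := kl_main_rel (Module.annihilator R M) a h1 hdim M
    (fun x hx m => Module.mem_annihilator.1 hx m)
  refine ⟨hfin, h1, hne, ?_⟩
  have hk : LinearMap.ker (mu a M) = ⊥ := by
    rw [LinearMap.ker_eq_bot]
    exact hinj
  rw [hk, Module.length_bot, zero_add] at h2
  exact h2

end Rel

section LocMod

variable {R : Type u} [CommRing R]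

/-- the length of a localized module computed on any model of the localization -/
theorem length_localizedModule_eq (p : Submonoid R) (S : Type u) [CommRing S] [Algebra R S]
    [IsLocalization p S] (M N : Type u) [AddCommGroup M] [Module R M] [AddCommGroup N]
    [Module R N] [Module S N] [IsScalarTower R S N] (g : M →ₗ[R] N) [IsLocalizedModule p g] :
    Module.length (Localization p) (LocalizedModule p M) = Module.length S N := by
  let σ : Localization p ≃ₐ[R] S := IsLocalization.algEquiv p (Localization p) S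
  letI algAS : Algebra (Localization p) S := σ.toAlgHom.toRingHom.toAlgebra
  letI modAN : Module (Localization p) N := Module.compHom N (algebraMap (Localization p) S)
  haveI : IsScalarTower (Localization p) S N := IsScalarTower.of_compHom _ _ _
  have hσ : ∀ x : Localization p, algebraMap (Localization p) S x = σ x := fun x => rfl
  haveI : IsScalarTower R (Localization p) N := by
    refine IsScalarTower.of_algebraMap_smul (fun r n => ?_)
    show algebraMap (Localization p) S (algebraMap R (Localization p) r) • n = r • n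
    rw [hσ, AlgEquiv.commutes, algebraMap_smul]
  let eR : LocalizedModule p M ≃ₗ[R] N := IsLocalizedModule.iso p g
  let eA : LocalizedModule p M ≃ₗ[Localization p] N :=
    LinearEquiv.extendScalarsOfIsLocalization p (Localization p) eR
  rw [eA.length_eq]
  exact Module.length_eq_of_surjective (S := Localization p) (R := S) (M := N) σ.surjective

theorem lenAt_module_eq [IsLocalRing R] (q : PrimeSpectrum R) (S : Type u) [CommRing S]
    [Algebra R S] [IsLocalization.AtPrime S q.asIdeal] (M N : Type u) [AddCommGroup M]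
    [Module R M] [AddCommGroup N] [Module R N] [Module S N] [IsScalarTower R S N]
    (g : M →ₗ[R] N) [IsLocalizedModule q.asIdeal.primeCompl g] :
    lenAt q M = Module.length S N :=
  length_localizedModule_eq q.asIdeal.primeCompl S M N g

end LocMod

end Groth.Agent.Helper7.KL
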