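import Mathlib
import Groth.Prelude.Def_C1
import Groth.Agent.Lib.Lead.SD1
import Groth.Agent.Lib.Helper7.CohStalk.Finite
import Groth.Agent.Lib.Helper7.KL.ZeroSec
import Groth.Agent.Lib.Helper7.KL.AlgRel

set_option linter.style.haveILetI false
set_option linter.unusedVariables false
set_option linter.unusedSectionVars false
set_option autoImplicit false
set_option backward.isDefEq.respectTransparency.types false
set_option synthInstance.maxHeartbeats 400000
set_option maxHeartbeats 1600000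

namespace Groth.Agent.Helper7.KL

open CategoryTheory CategoryTheory.Limits AlgebraicGeometry IsLocalRing TopologicalSpace Opposite
open Groth.Agent.Helper1.QcCech Groth.Agent.Helper1.LGen Groth.Agent.Lead.RkSch
open Groth.Agent.Lead.SecOrd Groth.Agent.Helper7.CycLim Groth.Agent.Helper7.DivFin
open Groth.Agent.Helper7.CycPull

universe u

/-! helper7: stalks of quasi-coherent modules at generizations as localized modules; the local length formula for a coherent module with one-dimensional support at a point -/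

section Germ

variable {X : Scheme.{u}} (F : X.Modules)

theorem exists_germ_smul_eq [F.IsQuasicoherent] {V : X.Opens} (hV : IsAffineOpen V) (x : X)
    (hx : x ∈ V) (y : F.presheaf.stalk x) :
    ∃ (t : Γ(F, V)) (f : Γ(X, V)), IsUnit (X.presheaf.germ V x hx f) ∧
      X.presheaf.germ V x hx f • y = F.presheaf.germ V x hx t := by
  haveI hloc := Groth.Agent.Lead.SD.isLocalizedModule_germ F hV ⟨x, hx⟩
  obtain ⟨⟨t, s⟩, hs⟩ := IsLocalizedModule.surj (hV.primeIdealOf ⟨x, hx⟩).asIdeal.primeCompl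
    (Groth.Agent.Lead.SD.germₗ F ⟨x, hx⟩) y
  exact ⟨t, s.1, (Groth.Agent.Lead.SD.isUnit_germ_iff hV ⟨x, hx⟩ s.1).2 s.2, hs⟩

theorem exists_smul_eq_of_germ_eq [F.IsQuasicoherent] {V : X.Opens} (hV : IsAffineOpen V)
    (x : X) (hx : x ∈ V) (t₁ t₂ : Γ(F, V))
    (h : F.presheaf.germ V x hx t₁ = F.presheaf.germ V x hx t₂) :
    ∃ f : Γ(X, V), IsUnit (X.presheaf.germ V x hx f) ∧ f • t₁ = f • t₂ := by
  haveI hloc := Groth.Agent.Lead.SD.isLocalizedModule_germ F hV ⟨x, hx⟩
  obtain ⟨c, hc⟩ := IsLocalizedModule.exists_of_eq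
    (S := (hV.primeIdealOf ⟨x, hx⟩).asIdeal.primeCompl)
    (f := Groth.Agent.Lead.SD.germₗ F ⟨x, hx⟩) (x₁ := t₁) (x₂ := t₂) h
  exact ⟨c.1, (Groth.Agent.Lead.SD.isUnit_germ_iff hV ⟨x, hx⟩ c.1).2 c.2, hc⟩

end Germ

section Loc

variable {X : Scheme.{u}} (F : X.Modules)

/-- the stalk of a quasi-coherent module at a generization is the localization of the stalk at
the specialization: the lengths agree and so does nontriviality -/
theorem stalk_module_loc [F.IsQuasicoherent] (x ξ : X) (h : ξ ⤳ x) :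
    lenAt (⟨RingHom.ker (Cyc.specMap x ξ h), RingHom.ker_isPrime _⟩ :
        PrimeSpectrum (X.presheaf.stalk x)) (F.presheaf.stalk x) =
      Module.length (X.presheaf.stalk ξ) (F.presheaf.stalk ξ) ∧
    (Nontrivial (F.presheaf.stalk ξ) ↔
      Nontrivial (LocalizedModule (RingHom.ker (Cyc.specMap x ξ h)).primeCompl
        (F.presheaf.stalk x))) := by
  obtain ⟨V, hV, hxV⟩ := exists_affine x
  have hξV : ξ ∈ V := h.mem_open V.2 hxV
  letI alg : Algebra (X.presheaf.stalk x) (X.presheaf.stalk ξ) :=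
    (X.presheaf.stalkSpecializes h).hom.toAlgebra
  haveI hloc : IsLocalization.AtPrime (X.presheaf.stalk ξ)
      (RingHom.ker (Cyc.specMap x ξ h)) := isLocalization_stalk_of_specializes x ξ h
  letI mod : Module (X.presheaf.stalk x) (F.presheaf.stalk ξ) :=
    Module.compHom _ (algebraMap (X.presheaf.stalk x) (X.presheaf.stalk ξ))
  haveI : IsScalarTower (X.presheaf.stalk x) (X.presheaf.stalk ξ) (F.presheaf.stalk ξ) :=
    IsScalarTower.of_compHom _ _ _
  have hsm : ∀ (ρ : X.presheaf.stalk x) (y : F.presheaf.stalk ξ),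
      ρ • y = (X.presheaf.stalkSpecializes h).hom ρ • y := fun ρ y => rfl
  let g : F.presheaf.stalk x →ₗ[X.presheaf.stalk x] F.presheaf.stalk ξ :=
    { toFun := spG F h
      map_add' := fun a b => map_add (F.presheaf.stalkSpecializes h).hom a b
      map_smul' := fun ρ m => by
        rw [RingHom.id_apply, hsm]
        exact spG_smul F h ρ m }
  have hg : ∀ m, g m = spG F h m := fun m => rfl
  have hmemq : ∀ f : Γ(X, V), IsUnit (X.presheaf.germ V ξ hξV f) →
      X.presheaf.germ V x hxV f ∈ (RingHom.ker (Cyc.specMap x ξ h)).primeCompl := by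
    intro f hf hmem
    have hmem' : Cyc.specMap x ξ h ((X.presheaf.germ V x hxV).hom f) = 0 := hmem
    rw [specMap_germ x ξ h V hxV f] at hmem'
    exact (hf.map (X.residue ξ).hom).ne_zero hmem'
  haveI : IsLocalizedModule (RingHom.ker (Cyc.specMap x ξ h)).primeCompl g := by
    refine ⟨?_, ?_, ?_⟩
    · intro s
      have hu : IsUnit (algebraMap (X.presheaf.stalk x) (X.presheaf.stalk ξ) s.1) :=
        IsLocalization.map_units (X.presheaf.stalk ξ) s
      rw [Module.End.isUnit_iff]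
      obtain ⟨u, hu'⟩ := hu
      refine ⟨fun a b hab => ?_, fun b => ⟨(↑u⁻¹ : X.presheaf.stalk ξ) • b, ?_⟩⟩
      · have h1 : (u : X.presheaf.stalk ξ) • a = (u : X.presheaf.stalk ξ) • b := by
          rw [hu']
          exact hab
        have h2 := congrArg (fun z => (↑u⁻¹ : X.presheaf.stalk ξ) • z) h1
        simpa [smul_smul] using h2
      · change algebraMap (X.presheaf.stalk x) (X.presheaf.stalk ξ) s.1 •
          ((↑u⁻¹ : X.presheaf.stalk ξ) • b) = b
        rw [← hu', smul_smul, Units.mul_inv, one_smul]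
    · intro y
      obtain ⟨t, f, hfu, hft⟩ := exists_germ_smul_eq F hV ξ hξV y
      refine ⟨⟨F.presheaf.germ V x hxV t, ⟨X.presheaf.germ V x hxV f, hmemq f hfu⟩⟩, ?_⟩
      show X.presheaf.germ V x hxV f • y = g (F.presheaf.germ V x hxV t)
      rw [hg, spG_germ, hsm, spR_germ]
      exact hft
    · intro m₁ m₂ h12
      have h0 : spG F h (m₁ - m₂) = 0 := by
        have h00 : g (m₁ - m₂) = 0 := by rw [map_sub, h12, sub_self]
        exact h00
      obtain ⟨t, e, heu, het⟩ := exists_germ_smul_eq F hV x hxV (m₁ - m₂)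
      have h1 : F.presheaf.germ V ξ hξV t = F.presheaf.germ V ξ hξV 0 := by
        rw [map_zero, ← spG_germ F h hxV t, ← het, spG_smul, h0, smul_zero]
      obtain ⟨f, hfu, hf0⟩ := exists_smul_eq_of_germ_eq F hV ξ hξV t 0 h1
      rw [smul_zero] at hf0
      have h2 : X.presheaf.germ V x hxV f •
          (X.presheaf.germ V x hxV e • (m₁ - m₂)) = 0 := by
        rw [het, ← Groth.Agent.Lead.SD.germ_smul F x V hxV f t, hf0, map_zero]
      have h3 : X.presheaf.germ V x hxV f • (m₁ - m₂) = 0 := by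
        obtain ⟨u, hu⟩ := heu
        rw [← hu] at h2
        have h5 : ((↑u⁻¹ : X.presheaf.stalk x) * X.presheaf.germ V x hxV f * ↑u) =
            X.presheaf.germ V x hxV f := by
          rw [mul_comm (↑u⁻¹ : X.presheaf.stalk x) _, mul_assoc, Units.inv_mul, mul_one]
        have h4 : (↑u⁻¹ : X.presheaf.stalk x) • (X.presheaf.germ V x hxV f •
            ((↑u : X.presheaf.stalk x) • (m₁ - m₂))) = 0 := by rw [h2, smul_zero]
        rw [smul_smul, smul_smul, h5] at h4
        exact h4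
      refine ⟨⟨X.presheaf.germ V x hxV f, hmemq f hfu⟩, ?_⟩
      show X.presheaf.germ V x hxV f • m₁ = X.presheaf.germ V x hxV f • m₂
      rw [← sub_eq_zero, ← smul_sub]
      exact h3
  refine ⟨lenAt_module_eq ⟨_, RingHom.ker_isPrime _⟩ (X.presheaf.stalk ξ)
    (F.presheaf.stalk x) (F.presheaf.stalk ξ) g, ?_⟩
  let e := IsLocalizedModule.iso (RingHom.ker (Cyc.specMap x ξ h)).primeCompl g
  exact ⟨fun hn => @Equiv.nontrivial _ _ e.toEquiv hn,
    fun hn => @Equiv.nontrivial _ _ e.symm.toEquiv hn⟩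

theorem nontrivial_stalk_iff [F.IsQuasicoherent] (x ξ : X) (h : ξ ⤳ x)
    [Module.Finite (X.presheaf.stalk x) (F.presheaf.stalk x)] :
    Nontrivial (F.presheaf.stalk ξ) ↔
      Module.annihilator (X.presheaf.stalk x) (F.presheaf.stalk x) ≤
        RingHom.ker (Cyc.specMap x ξ h) := by
  rw [(stalk_module_loc F x ξ h).2]
  have h1 := Module.mem_support_iff (R := X.presheaf.stalk x) (M := F.presheaf.stalk x)
    (p := ⟨RingHom.ker (Cyc.specMap x ξ h), RingHom.ker_isPrime _⟩)
  have h2 := Module.mem_support_iff_of_finite (R := X.presheaf.stalk x)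
    (M := F.presheaf.stalk x) (p := ⟨RingHom.ker (Cyc.specMap x ξ h), RingHom.ker_isPrime _⟩)
  exact h1.symm.trans h2

end Loc

section Formula

variable {X : Scheme.{u}}

/-- the local length formula for a coherent module with support of dimension at most one at the
point: the length of `F_x / r F_x` is the sum over the proper generizations of `x` of the lengths
of the stalks times the order of `r` along the specialization -/
theorem local_formula_module [IsLocallyNoetherian X] (δ : X → ℤ) (hδ : Cyc.IsDimFun X δ) (k : ℤ)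
    (F : X.Modules) (hF : Coh.IsCoh F)
    (hdim : ∀ z : X, Nontrivial (F.presheaf.stalk z) → δ z ≤ k + 1) (x : X) (hx : δ x = k)
    (r : X.presheaf.stalk x)
    (hreg : Function.Injective (fun m : F.presheaf.stalk x => r • m)) :
    (∀ (ξ : X) (h : ξ ⤳ x), ξ ≠ x → Nontrivial (F.presheaf.stalk ξ) →
      Cyc.specMap x ξ h r ≠ 0) ∧
    ((Module.length (X.presheaf.stalk x)
      (F.presheaf.stalk x ⧸ LinearMap.range (mu r (F.presheaf.stalk x)))).toNat : ℤ) =
      ∑ᶠ t : {ξ : X // ξ ⤳ x ∧ ξ ≠ x},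
        ((Module.length (X.presheaf.stalk t.1) (F.presheaf.stalk t.1)).toNat : ℤ) *
          Cyc.ordAt x t.1 t.2.1 (Cyc.specMap x t.1 t.2.1 r) := by
  haveI : F.IsQuasicoherent := hF.1
  haveI hfinM : Module.Finite (X.presheaf.stalk x) (F.presheaf.stalk x) :=
    Groth.Agent.Helper7.FinType.stalk_finite_of_isCoh F hF x
  obtain ⟨I, hI⟩ : ∃ I : Ideal (X.presheaf.stalk x),
      I = Module.annihilator (X.presheaf.stalk x) (F.presheaf.stalk x) := ⟨_, rfl⟩
  have hsupp : ∀ (ξ : X) (h : ξ ⤳ x), Nontrivial (F.presheaf.stalk ξ) ↔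
      I ≤ RingHom.ker (Cyc.specMap x ξ h) := by
    intro ξ h
    rw [hI]
    exact nontrivial_stalk_iff F x ξ h
  have hδt : ∀ (ξ : X) (h : ξ ⤳ x), ξ ≠ x → Nontrivial (F.presheaf.stalk ξ) →
      δ ξ = k + 1 := by
    intro ξ h hne hN
    have h1 := (hδ ξ x h hne).1
    have h2 := hdim ξ hN
    omega
  have himm : ∀ (ξ : X) (h : ξ ⤳ x), ξ ≠ x → Nontrivial (F.presheaf.stalk ξ) →
      ∀ ζ : X, ξ ⤳ ζ → ζ ⤳ x → ζ = ξ ∨ ζ = x := by
    intro ξ h hne hN ζ h1 h2
    by_contra hcon
    rw [not_or] at hcon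
    have h3 := (hδ ξ ζ h1 (Ne.symm hcon.1)).1
    have h4 := (hδ ζ x h2 hcon.2).1
    have h5 := hδt ξ h hne hN
    omega
  let Ψ : {ξ : X // ξ ⤳ x ∧ ξ ≠ x} → QQ (X.presheaf.stalk x) := fun t =>
    ⟨⟨RingHom.ker (Cyc.specMap x t.1 t.2.1), RingHom.ker_isPrime _⟩,
      fun he => t.2.2 ((ker_specMap_eq_max_iff x t.1 t.2.1).1 he)⟩
  have hΨker : ∀ t, (Ψ t).1.asIdeal = RingHom.ker (Cyc.specMap x t.1 t.2.1) := fun t => rfl
  have hΨinj : Function.Injective Ψ := by
    intro t t' htt
    have h1 : RingHom.ker (Cyc.specMap x t.1 t.2.1) = RingHom.ker (Cyc.specMap x t'.1 t'.2.1) :=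
      congrArg (fun q : QQ (X.presheaf.stalk x) => q.1.asIdeal) htt
    exact Subtype.ext (ker_specMap_injective x t.1 t'.1 t.2.1 t'.2.1 h1)
  have hΨsurj : Function.Surjective Ψ := by
    intro q
    haveI := q.1.isPrime
    obtain ⟨ξ, h, hker⟩ := exists_point_of_prime x q.1.asIdeal
    have hne : ξ ≠ x := by
      intro he
      apply q.2
      rw [← hker]
      exact (ker_specMap_eq_max_iff x ξ h).2 he
    exact ⟨⟨ξ, h, hne⟩, Subtype.ext (PrimeSpectrum.ext hker)⟩
  have hdim' : ∀ (q : QQI I) (p : PrimeSpectrum (X.presheaf.stalk x)), I ≤ p.asIdeal →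
      p.asIdeal ≤ q.1.1.asIdeal → p = q.1.1 := by
    intro q p hIp hle
    obtain ⟨t, ht⟩ := hΨsurj q.1
    haveI := p.isPrime
    obtain ⟨ζ, hζ, hkζ⟩ := exists_point_of_prime x p.asIdeal
    have hqker : q.1.1.asIdeal = RingHom.ker (Cyc.specMap x t.1 t.2.1) := by
      rw [← ht]
    have hNt : Nontrivial (F.presheaf.stalk t.1) :=
      (hsupp t.1 t.2.1).2 (by rw [← hqker]; exact q.2)
    have hNζ : Nontrivial (F.presheaf.stalk ζ) := (hsupp ζ hζ).2 (by rw [hkζ]; exact hIp)
    have h1 : ζ ⤳ t.1 :=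
      specializes_of_ker_le x ζ t.1 hζ t.2.1 (by rw [hkζ, ← hqker]; exact hle)
    have h2 : ζ = t.1 := by
      by_contra hne
      have h3 := (hδ ζ t.1 h1 hne).1
      have h4 := hdim ζ hNζ
      have h5 := hδt t.1 t.2.1 t.2.2 hNt
      omega
    subst h2
    apply PrimeSpectrum.ext
    rw [hqker, ← hkζ]
  subst hI
  obtain ⟨hfin, h1, hne, hKL⟩ := kl_module r (F.presheaf.stalk x) hreg hdim'
  refine ⟨fun ξ h hne' hN => ?_, ?_⟩
  · have hq : Module.annihilator (X.presheaf.stalk x) (F.presheaf.stalk x) ≤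
        RingHom.ker (Cyc.specMap x ξ h) := (hsupp ξ h).1 hN
    have h2 := h1 ⟨Ψ ⟨ξ, h, hne'⟩, hq⟩
    intro h0
    exact h2 (RingHom.mem_ker.2 h0)
  · haveI := hfin
    rw [toNat_finsum_mul _ _ _ hne hKL]
    have hsuppT : Function.support (fun t : {ξ : X // ξ ⤳ x ∧ ξ ≠ x} =>
        ((Module.length (X.presheaf.stalk t.1) (F.presheaf.stalk t.1)).toNat : ℤ) *
          Cyc.ordAt x t.1 t.2.1 (Cyc.specMap x t.1 t.2.1 r)) ⊆
        {t | Nontrivial (F.presheaf.stalk t.1)} := by
      intro t ht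
      rw [Function.mem_support] at ht
      by_contra hcon
      apply ht
      have hsub : Subsingleton (F.presheaf.stalk t.1) := not_nontrivial_iff_subsingleton.mp hcon
      have h0 : Module.length (X.presheaf.stalk t.1) (F.presheaf.stalk t.1) = 0 :=
        Module.length_eq_zero
      rw [h0]
      simp
    rw [← finsum_subtype_support {t : {ξ : X // ξ ⤳ x ∧ ξ ≠ x} |
      Nontrivial (F.presheaf.stalk t.1)} _ hsuppT]
    let ΨI : ↥{t : {ξ : X // ξ ⤳ x ∧ ξ ≠ x} | Nontrivial (F.presheaf.stalk t.1)} →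
        QQI (Module.annihilator (X.presheaf.stalk x) (F.presheaf.stalk x)) :=
      fun t => ⟨Ψ t.1, (hsupp t.1.1 t.1.2.1).1 t.2⟩
    have hΨIinj : Function.Injective ΨI := by
      intro t t' htt
      have h2 : Ψ t.1 = Ψ t'.1 := congrArg Subtype.val htt
      exact Subtype.ext (hΨinj h2)
    have hΨIsurj : Function.Surjective ΨI := by
      intro q
      obtain ⟨t, ht⟩ := hΨsurj q.1
      have hNt : Nontrivial (F.presheaf.stalk t.1) := by
        refine (hsupp t.1 t.2.1).2 ?_
        rw [← hΨker t, ht]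
        exact q.2
      exact ⟨⟨t, hNt⟩, Subtype.ext ht⟩
    symm
    refine finsum_eq_of_bijective ΨI ⟨hΨIinj, hΨIsurj⟩ (fun t => ?_)
    have e1 : lenAt (Ψ t.1).1 (F.presheaf.stalk x) =
        Module.length (X.presheaf.stalk t.1.1) (F.presheaf.stalk t.1.1) :=
      (stalk_module_loc F x t.1.1 t.1.2.1).1
    have hrt : Cyc.specMap x t.1.1 t.1.2.1 r ≠ 0 := by
      intro h0
      exact h1 (ΨI t) (RingHom.mem_ker.2 h0)
    have e2 := ordAt_specMap_eq x t.1.1 t.1.2.1 (himm t.1.1 t.1.2.1 t.1.2.2 t.2) r hrt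
    show ((Module.length (X.presheaf.stalk t.1.1) (F.presheaf.stalk t.1.1)).toNat : ℤ) *
      Cyc.ordAt x t.1.1 t.1.2.1 (Cyc.specMap x t.1.1 t.1.2.1 r) =
      ((lenAt (Ψ t.1).1 (F.presheaf.stalk x)).toNat : ℤ) * ((cq r (Ψ t.1).1).toNat : ℤ)
    rw [e2, e1]
    rfl

end Formula

end Groth.Agent.Helper7.KL
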