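import Mathlib
import Groth.Prelude.Def_C1
import Groth.Agent.Lib.Helper7.CycPull.Sheaf
import Groth.Agent.Lib.Helper7.KL.ModStalk

set_option linter.style.haveILetI false
set_option linter.unusedVariables false
set_option linter.unusedSectionVars false
set_option autoImplicit false
set_option backward.isDefEq.respectTransparency.types false
set_option synthInstance.maxHeartbeats 400000
set_option maxHeartbeats 1600000

namespace Groth.Agent.Helper7.KL

open CategoryTheory CategoryTheory.Limits AlgebraicGeometry IsLocalRing TopologicalSpace Opposite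
open TensorProduct
open Groth.Agent.Helper1.QcCech Groth.Agent.Helper1.LGen Groth.Agent.Lead.RkSch
open Groth.Agent.Lead.SecOrd Groth.Agent.Helper7.CycLim Groth.Agent.Helper7.DivFin
open Groth.Agent.Helper7.CycPull Groth.Agent.Lib.Helper5.StalkAdj

universe u

/-! helper7: stalks of the pullback of a module along a closed immersion with principal ideal; the Gysin pullback of the cycle of a coherent module (S1942) -/

section PullStalk

/-- the length of the stalk of the pullback of a module along a morphism which is surjective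
on the local rings with principal kernel -/
theorem length_stalk_pullback_surj {D X : Scheme.{u}} (i : D ⟶ X) (F : X.Modules) (d : D)
    (f : X.presheaf.stalk (i d)) (hsurj : Function.Surjective (i.stalkMap d).hom)
    (hker : RingHom.ker (i.stalkMap d).hom = Ideal.span {f}) :
    Module.length (D.presheaf.stalk d)
        (((Scheme.Modules.pullback i).obj F).presheaf.stalk d) =
      Module.length (X.presheaf.stalk (i d))
        (F.presheaf.stalk (i d) ⧸ LinearMap.range (mu f (F.presheaf.stalk (i d)))) := by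
  letI b3 : Algebra (X.presheaf.stalk (i d)) (D.presheaf.stalk d) :=
    (i.stalkMap d).hom.toAlgebra
  let G := (Scheme.Modules.pullback i).obj F
  let e1 : (G.presheaf.stalk d) ≃ₗ[D.presheaf.stalk d]
      ((ModuleCat.extendScalars.{u, u, u} (i.stalkMap d).hom).obj
        ((stalkSh X (i d)).obj F)) := ((stalkPullbackIso i d).app F).toLinearEquiv
  let e2 : ((ModuleCat.extendScalars.{u, u, u} (i.stalkMap d).hom).obj
      ((stalkSh X (i d)).obj F)) ≃ₗ[D.presheaf.stalk d]
      ((D.presheaf.stalk d) ⊗[X.presheaf.stalk (i d)] (F.presheaf.stalk (i d))) :=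
    Groth.Agent.Helper8.extScalEquiv (R := X.presheaf.stalk (i d))
      (S := D.presheaf.stalk d) ((stalkSh X (i d)).obj F)
  rw [(e1 ≪≫ₗ e2).length_eq]
  have hsurj' : Function.Surjective
      (algebraMap (X.presheaf.stalk (i d)) (D.presheaf.stalk d)) := hsurj
  rw [← Module.length_eq_of_surjective (S := X.presheaf.stalk (i d))
    (R := D.presheaf.stalk d)
    (M := (D.presheaf.stalk d) ⊗[X.presheaf.stalk (i d)] (F.presheaf.stalk (i d))) hsurj']
  have hker' : RingHom.ker (Algebra.ofId (X.presheaf.stalk (i d)) (D.presheaf.stalk d)) =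
      Ideal.span {f} := by
    rw [← hker]
    rfl
  let a1 : (X.presheaf.stalk (i d) ⧸
      RingHom.ker (Algebra.ofId (X.presheaf.stalk (i d)) (D.presheaf.stalk d)))
      ≃ₐ[X.presheaf.stalk (i d)] D.presheaf.stalk d :=
    Ideal.quotientKerAlgEquivOfSurjective
      (f := Algebra.ofId (X.presheaf.stalk (i d)) (D.presheaf.stalk d)) hsurj'
  let a2 : (X.presheaf.stalk (i d) ⧸ Ideal.span {f}) ≃ₐ[X.presheaf.stalk (i d)]
      D.presheaf.stalk d :=
    (Ideal.quotientEquivAlgOfEq (X.presheaf.stalk (i d)) hker'.symm).trans a1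
  let e3 : (D.presheaf.stalk d) ⊗[X.presheaf.stalk (i d)] (F.presheaf.stalk (i d))
      ≃ₗ[X.presheaf.stalk (i d)]
      (X.presheaf.stalk (i d) ⧸ Ideal.span {f}) ⊗[X.presheaf.stalk (i d)]
        (F.presheaf.stalk (i d)) :=
    TensorProduct.congr a2.symm.toLinearEquiv (LinearEquiv.refl _ _)
  let e4 := TensorProduct.quotTensorEquivQuotSMul (F.presheaf.stalk (i d))
    (Ideal.span {f} : Ideal (X.presheaf.stalk (i d)))
  have hsub : ((Ideal.span {f} : Ideal (X.presheaf.stalk (i d))) •
      (⊤ : Submodule (X.presheaf.stalk (i d)) (F.presheaf.stalk (i d)))) =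
      LinearMap.range (mu f (F.presheaf.stalk (i d))) := by
    rw [Submodule.ideal_span_singleton_smul]
    ext m
    rw [Submodule.mem_smul_pointwise_iff_exists, LinearMap.mem_range]
    constructor
    · rintro ⟨b, -, rfl⟩
      exact ⟨b, rfl⟩
    · rintro ⟨b, rfl⟩
      exact ⟨b, trivial, rfl⟩
  exact (e3 ≪≫ₗ e4 ≪≫ₗ Submodule.quotEquivOfEq _ _ hsub).length_eq

end PullStalk

section Rat

theorem ratEquiv_of_forall_eq {X : Scheme.{u}} (δ : X → ℤ) (k : ℤ) (γ ζ : AlgebraicCycle X ℤ)
    (h : ∀ x, γ x = ζ x) : Cyc.RatEquiv δ k γ ζ := by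
  refine ⟨PEmpty.{u + 1}, fun i => i.elim, fun i => i.elim, fun i => i.elim, fun i => i.elim,
    fun x => ⟨Set.univ, isOpen_univ, trivial, Set.toFinite _⟩, fun x => ?_⟩
  rw [finsum_of_isEmpty]
  show (γ - ζ) x = 0
  rw [Function.locallyFinsuppWithin.coe_sub, Pi.sub_apply, h x, sub_self]

end Rat

section Main

/-- the Gysin pullback of the cycle of a coherent module on which the section is regular is the
cycle of the pulled back module (S1942) -/
theorem S1942_main (X D : Scheme.{u}) (δ : X → ℤ) (hX : Cyc.IsSetup X δ) (L : X.Modules)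
    (hL : PicF.IsInvertible L) (s : L.presheaf.obj (Opposite.op ⊤)) (i : D ⟶ X)
    [IsClosedImmersion i] (hD : Cyc.IsZeroSchemeOf i L s) (k : ℤ) (F : X.Modules)
    (hF : Coh.IsCoh F) (hdim : ∀ x : X, Nontrivial (F.presheaf.stalk x) → δ x ≤ k + 1)
    (hreg : ∀ (x : X) (t : L.presheaf.stalk x) (f : X.presheaf.stalk x),
      Submodule.span (X.presheaf.stalk x) {t} = ⊤ → (L.presheaf.germ ⊤ x trivial) s = f • t →
      Function.Injective (fun m : F.presheaf.stalk x => f • m))
    (w : (ξ : X) → Cyc.secFibre L ξ) (hw : ∀ ξ, w ξ ≠ 0) (γ : AlgebraicCycle D ℤ)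
    (hγ : ∀ d, γ d = Cyc.c1CapFun δ L (Cyc.sheafFun δ (k + 1) F) (Cyc.gysinChoice L s w) (i d))
    (ζ : AlgebraicCycle D ℤ)
    (hζ : ⇑ζ = Cyc.sheafFun (fun d => δ (i d)) k ((Scheme.Modules.pullback i).obj F)) :
    Cyc.RatEquiv (fun d => δ (i d)) k γ ζ := by
  haveI := hX.1
  have hδ := hX.2.2
  refine ratEquiv_of_forall_eq _ k γ ζ (fun d => ?_)
  rw [hγ d, hζ]
  unfold Cyc.c1CapFun
  by_cases hd : δ (i d) = k
  swap
  · have hR0 : Cyc.sheafFun (fun d => δ (i d)) k ((Scheme.Modules.pullback i).obj F) d = 0 := by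
      unfold Cyc.sheafFun
      rw [if_neg hd]
    rw [hR0]
    refine finsum_eq_zero_of_forall_eq_zero (fun ξ => ?_)
    unfold Cyc.sheafFun Cyc.secDivFun
    by_cases h1 : δ ξ = k + 1
    · rw [dif_neg, mul_zero]
      rintro ⟨-, h2⟩
      apply hd
      omega
    · rw [if_neg h1, zero_mul]
  obtain ⟨W, a, hyW, ha⟩ := exists_isGen hL (i d)
  obtain ⟨hx0, hx1⟩ := (freeAt_iff a (i d) hyW).1 (freeAt_of_isGen ha (i d) hyW)
  obtain ⟨r, hr⟩ := hx1 (L.presheaf.germ ⊤ (i d) trivial s)
  have hspan : Submodule.span (X.presheaf.stalk (i d)) {L.presheaf.germ W (i d) hyW a} = ⊤ := by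
    rw [eq_top_iff]
    intro v _
    obtain ⟨ρ, hρ⟩ := hx1 v
    rw [← hρ]
    exact Submodule.smul_mem _ _ (Submodule.subset_span rfl)
  obtain ⟨t₀, f₀, ht₀, hf₀, hker⟩ := hD.2 d
  obtain ⟨u, hu⟩ := hx1 t₀
  have hmem : L.presheaf.germ W (i d) hyW a ∈
      Submodule.span (X.presheaf.stalk (i d)) {t₀} := by
    rw [ht₀]
    trivial
  obtain ⟨v, hv⟩ := Submodule.mem_span_singleton.1 hmem
  have hvu : v * u = 1 := by
    have h1 : (v * u - 1) • L.presheaf.germ W (i d) hyW a = 0 := by
      rw [sub_smul, one_smul, mul_smul, hu, hv, sub_self]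
    exact sub_eq_zero.1 (hx0 _ h1)
  have huu : IsUnit u := IsUnit.of_mul_eq_one v (by rw [mul_comm]; exact hvu)
  have hkey : r = f₀ * u := by
    have h1 : (r - f₀ * u) • L.presheaf.germ W (i d) hyW a = 0 := by
      rw [sub_smul, mul_smul, hu, hr, ← hf₀, sub_self]
    exact sub_eq_zero.1 (hx0 _ h1)
  have hker' : RingHom.ker (i.stalkMap d).hom = Ideal.span {r} := by
    rw [hker, hkey, Ideal.span_singleton_mul_right_unit huu]
  have hregr : Function.Injective (fun m : F.presheaf.stalk (i d) => r • m) :=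
    hreg (i d) (L.presheaf.germ W (i d) hyW a) r hspan hr.symm
  obtain ⟨hrne, hform⟩ := local_formula_module δ hδ k F hF hdim (i d) hd r hregr
  have hRHS : Cyc.sheafFun (fun d => δ (i d)) k ((Scheme.Modules.pullback i).obj F) d =
      ((Module.length (X.presheaf.stalk (i d)) (F.presheaf.stalk (i d) ⧸
        LinearMap.range (mu r (F.presheaf.stalk (i d))))).toNat : ℤ) := by
    unfold Cyc.sheafFun
    rw [if_pos hd, length_stalk_pullback_surj i F d r (i.stalkMap_surjective d) hker']
  have hgs : ∀ (ξ : X) (h : ξ ⤳ i d), L.presheaf.germ ⊤ ξ trivial s =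
      (X.presheaf.stalkSpecializes h).hom r •
        L.presheaf.germ W ξ (h.mem_open W.2 hyW) a := by
    intro ξ h
    have h1 : spG L h (L.presheaf.germ ⊤ (i d) trivial s) = L.presheaf.germ ⊤ ξ trivial s :=
      spG_germ L h (U := ⊤) (show i d ∈ (⊤ : X.Opens) from trivial) s
    rw [← h1, ← hr, spG_smul, spG_germ]
  have hsupp : Function.support (fun ξ : X => Cyc.sheafFun δ (k + 1) F ξ *
      Cyc.secDivFun δ L ξ (Cyc.gysinChoice L s w ξ) (i d)) ⊆
      {ξ : X | ξ ⤳ i d ∧ ξ ≠ i d} := by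
    intro ξ hξ
    rw [Function.mem_support] at hξ
    by_contra hcon
    apply hξ
    unfold Cyc.secDivFun
    rw [dif_neg, mul_zero]
    rintro ⟨h1, h2⟩
    apply hcon
    refine ⟨h1, ?_⟩
    intro he
    rw [he] at h2
    omega
  have hLHS : (∑ᶠ ξ : X, Cyc.sheafFun δ (k + 1) F ξ *
      Cyc.secDivFun δ L ξ (Cyc.gysinChoice L s w ξ) (i d)) =
      ∑ᶠ t : {ξ : X // ξ ⤳ i d ∧ ξ ≠ i d},
        ((Module.length (X.presheaf.stalk t.1) (F.presheaf.stalk t.1)).toNat : ℤ) *
          Cyc.ordAt (i d) t.1 t.2.1 (Cyc.specMap (i d) t.1 t.2.1 r) := by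
    have h1 := finsum_subtype_support {ξ : X | ξ ⤳ i d ∧ ξ ≠ i d} _ hsupp
    rw [← h1]
    refine finsum_congr (fun t => ?_)
    show Cyc.sheafFun δ (k + 1) F t.1 *
      Cyc.secDivFun δ L t.1 (Cyc.gysinChoice L s w t.1) (i d) = _
    by_cases hN : Nontrivial (F.presheaf.stalk t.1)
    · have hδt : δ t.1 = k + 1 := by
        have h2 := (hδ t.1 (i d) t.2.1 t.2.2).1
        have h3 := hdim t.1 hN
        omega
      have hc : t.1 ⤳ i d ∧ δ (i d) + 1 = δ t.1 := ⟨t.2.1, by omega⟩
      have hξW : t.1 ∈ W := t.2.1.mem_open W.2 hyW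
      obtain ⟨hξ0, hξ1⟩ := (freeAt_iff a t.1 hξW).1 (freeAt_of_isGen ha t.1 hξW)
      have hmk : (Submodule.Quotient.mk ((L.presheaf.germ ⊤ t.1 trivial) s) :
          Cyc.secFibre L t.1) ≠ 0 := by
        intro h0
        have h4 : mkF L t.1 ((X.presheaf.stalkSpecializes t.2.1).hom r •
            L.presheaf.germ W t.1 hξW a) = 0 := by
          rw [← hgs t.1 t.2.1]
          exact h0
        rw [mkF_smul_eq_zero_iff hξ0 hξ1] at h4
        apply hrne t.1 t.2.1 t.2.2 hN
        show (X.residue t.1).hom ((X.presheaf.stalkSpecializes t.2.1).hom r) = 0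
        exact (IsLocalRing.residue_eq_zero_iff _).2 h4
      have e0 : Cyc.gysinChoice L s w t.1 =
          Submodule.Quotient.mk ((L.presheaf.germ ⊤ t.1 trivial) s) := by
        unfold Cyc.gysinChoice
        rw [if_pos hmk]
      have e1 : Cyc.sheafFun δ (k + 1) F t.1 =
          ((Module.length (X.presheaf.stalk t.1) (F.presheaf.stalk t.1)).toNat : ℤ) := by
        unfold Cyc.sheafFun
        rw [if_pos hδt]
      have e2 : Cyc.secDivFun δ L t.1
          (Submodule.Quotient.mk ((L.presheaf.germ ⊤ t.1 trivial) s)) (i d) =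
          Cyc.ordAt (i d) t.1 t.2.1 (Cyc.specMap (i d) t.1 t.2.1 r) := by
        unfold Cyc.secDivFun
        rw [dif_pos hc]
        have h4 := secOrdAt_gen ha (i d) t.1 hyW t.2.1 ((X.presheaf.stalkSpecializes t.2.1).hom r)
        rw [← hgs t.1 t.2.1] at h4
        exact h4
      rw [e0, e1, e2]
    · have hsub : Subsingleton (F.presheaf.stalk t.1) := not_nontrivial_iff_subsingleton.mp hN
      have h0 : Module.length (X.presheaf.stalk t.1) (F.presheaf.stalk t.1) = 0 :=
        Module.length_eq_zero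
      have e1 : Cyc.sheafFun δ (k + 1) F t.1 = 0 := by
        unfold Cyc.sheafFun
        rw [h0]
        simp
      rw [e1, h0]
      simp
  rw [hRHS, hLHS, hform]

end Main

end Groth.Agent.Helper7.KL
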