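import Mathlib
import Groth.Prelude.Def_C1
import Groth.Agent.Lib.Helper7.KL.FlatLocal

set_option linter.style.haveILetI false
set_option linter.unusedVariables false
set_option linter.unusedSectionVars false
set_option autoImplicit false
set_option backward.isDefEq.respectTransparency.types false
set_option synthInstance.maxHeartbeats 400000
set_option maxHeartbeats 1600000

namespace Groth.Agent.Helper7.KL

open CategoryTheory CategoryTheory.Limits AlgebraicGeometry IsLocalRing TopologicalSpace Opposite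
open Groth.Agent.Lead.SecOrd Groth.Agent.Helper7.CycLim Groth.Agent.Helper7.DivFin
open Groth.Agent.Helper7.CycPull

universe u

/-! helper7: flat pullback preserves rational equivalence to zero (global assembly of the flat pullback formula) -/

/-- a finite sum over a sigma type as an iterated sum -/
theorem finsum_sigma_of_finite {ι : Type*} {β : ι → Type*} (F : (Σ i, β i) → ℤ)
    (hF : (Function.support F).Finite) :
    ∑ᶠ j, F j = ∑ᶠ i, ∑ᶠ b, F ⟨i, b⟩ := by
  classical
  obtain ⟨s, hs⟩ : ∃ s : Finset (Σ i, β i), Function.support F ⊆ ↑s :=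
    ⟨hF.toFinset, by intro j hj; simpa using hj⟩
  rw [finsum_eq_sum_of_support_subset F hs]
  have hinner : ∀ i, ∑ᶠ b, F ⟨i, b⟩ =
      ∑ b ∈ s.preimage (Sigma.mk i) (sigma_mk_injective.injOn), F ⟨i, b⟩ := by
    intro i
    apply finsum_eq_sum_of_support_subset
    intro b hb
    rw [Finset.coe_preimage, Set.mem_preimage]
    exact hs hb
  have houter : Function.support (fun i => ∑ᶠ b, F ⟨i, b⟩) ⊆ ↑(s.image Sigma.fst) := by
    intro i hi
    rw [Function.mem_support] at hi
    by_contra hni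
    apply hi
    apply finsum_eq_zero_of_forall_eq_zero
    intro b
    by_contra hb
    apply hni
    rw [Finset.mem_coe, Finset.mem_image]
    exact ⟨⟨i, b⟩, hs hb, rfl⟩
  rw [finsum_eq_sum_of_support_subset _ houter]
  rw [Finset.sum_congr rfl (fun i _ => hinner i), ← Finset.sum_sigma]
  symm
  apply Finset.sum_subset
  · intro j hj
    rw [Finset.mem_sigma] at hj
    have := hj.2
    rw [Finset.mem_preimage] at this
    exact this
  · intro j hj hnj
    by_contra hne
    apply hnj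
    rw [Finset.mem_sigma, Finset.mem_preimage, Finset.mem_image]
    exact ⟨⟨j, hj, rfl⟩, hj⟩

variable {X Y : Scheme.{u}}

theorem exists_unit_specMap_of_eq (y ξ : Y) (h : ξ ⤳ y) (e : y = ξ) (g : Y.residueField ξ)
    (hg : g ≠ 0) : ∃ u : Y.presheaf.stalk y, IsUnit u ∧ Cyc.specMap y ξ h u = g := by
  subst e
  obtain ⟨u, hu⟩ := IsLocalRing.residue_surjective g
  have hsp : ∀ t : Y.presheaf.stalk y, Cyc.specMap y y h t = IsLocalRing.residue _ t := by
    intro t
    unfold Cyc.specMap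
    have h1 : Y.presheaf.stalkSpecializes h = 𝟙 _ :=
      TopCat.Presheaf.stalkSpecializes_refl Y.presheaf y
    rw [h1]
    rfl
  refine ⟨u, ?_, by rw [hsp, hu]⟩
  rw [← IsLocalRing.residue_ne_zero_iff_isUnit, hu]
  exact hg

/-- finiteness of the points of maximal dimension over a given point in an affine open -/
theorem finite_points_of_delta [IsLocallyNoetherian X] (δX : X → ℤ) (hδX : Cyc.IsDimFun X δX)
    (δY : Y → ℤ) (hδY : Cyc.IsDimFun Y δY) (f : X ⟶ Y) (c : ℤ)
    (hF : ∀ z : X, δX z ≤ δY (f z) + c) (η : Y) {V : X.Opens} (hV : IsAffineOpen V) :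
    {ζ : X | ζ ∈ V ∧ f ζ = η ∧ δX ζ = δY η + c}.Finite := by
  haveI : IsNoetherianRing Γ(X, V) := IsLocallyNoetherian.component_noetherian ⟨V, hV⟩
  obtain ⟨T, hT⟩ : ∃ T : Set (PrimeSpectrum Γ(X, V)),
      T = {Q | f (hV.fromSpec Q) = η ∧ δX (hV.fromSpec Q) = δY η + c} := ⟨_, rfl⟩
  have hmin : ∀ Q ∈ T, Q.asIdeal ∈ (PrimeSpectrum.vanishingIdeal T).minimalPrimes := by
    intro Q hQ
    refine ⟨⟨Q.isPrime, ?_⟩, ?_⟩
    · intro r hr
      exact (PrimeSpectrum.mem_vanishingIdeal T r).1 hr Q hQ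
    · rintro P ⟨hP, hle⟩ hPQ
      have hcl : (⟨P, hP⟩ : PrimeSpectrum Γ(X, V)) ∈ closure T := by
        rw [← PrimeSpectrum.zeroLocus_vanishingIdeal_eq_closure, PrimeSpectrum.mem_zeroLocus]
        exact hle
      have hsp : hV.fromSpec ⟨P, hP⟩ ⤳ hV.fromSpec Q := by
        have h1 : (⟨P, hP⟩ : PrimeSpectrum Γ(X, V)) ⤳ Q :=
          (PrimeSpectrum.le_iff_specializes _ _).1 hPQ
        exact h1.map hV.fromSpec.continuous
      have hfz : η ⤳ f (hV.fromSpec ⟨P, hP⟩) := by
        rw [specializes_iff_mem_closure]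
        have hcont : Continuous (fun Q' : PrimeSpectrum Γ(X, V) => f (hV.fromSpec Q')) :=
          f.continuous.comp hV.fromSpec.continuous
        have h1 := image_closure_subset_closure_image hcont (Set.mem_image_of_mem _ hcl)
        refine closure_mono ?_ h1
        rintro _ ⟨Q', hQ', rfl⟩
        rw [hT] at hQ'
        exact hQ'.1
      have h2 : δY (f (hV.fromSpec ⟨P, hP⟩)) ≤ δY η := by
        by_cases he : η = f (hV.fromSpec ⟨P, hP⟩)
        · rw [← he]
        · exact le_of_lt (hδY η _ hfz he).1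
      have h3 := hF (hV.fromSpec ⟨P, hP⟩)
      have hzζ : hV.fromSpec ⟨P, hP⟩ = hV.fromSpec Q := by
        by_contra hne
        have h4 := (hδX _ _ hsp hne).1
        rw [hT] at hQ
        have h5 := hQ.2
        omega
      have h6 : (⟨P, hP⟩ : PrimeSpectrum Γ(X, V)) = Q :=
        hV.fromSpec.isOpenEmbedding.injective hzζ
      rw [← h6]
  have hfinmin := Ideal.finite_minimalPrimes_of_isNoetherianRing Γ(X, V)
    (PrimeSpectrum.vanishingIdeal T)
  have hTfin : T.Finite :=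
    Set.Finite.of_injOn (f := fun Q : PrimeSpectrum Γ(X, V) => Q.asIdeal)
      (fun Q hQ => hmin Q hQ) (fun Q _ Q' _ h => PrimeSpectrum.ext h) hfinmin
  refine (hTfin.image (fun Q => hV.fromSpec Q)).subset ?_
  rintro ζ ⟨hζV, h1, h2⟩
  refine ⟨hV.primeIdealOf ⟨ζ, hζV⟩, ?_, hV.fromSpec_primeIdealOf ⟨ζ, hζV⟩⟩
  rw [hT]
  show f (hV.fromSpec (hV.primeIdealOf ⟨ζ, hζV⟩)) = η ∧
    δX (hV.fromSpec (hV.primeIdealOf ⟨ζ, hζV⟩)) = δY η + c
  rw [hV.fromSpec_primeIdealOf ⟨ζ, hζV⟩]
  exact ⟨h1, h2⟩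

/-- flat pullback preserves rational equivalence to zero, for a flat morphism along which the
dimension function jumps by at most `c` -/
theorem flat_global (X Y : Scheme.{u}) (δX : X → ℤ) (δY : Y → ℤ) (hX : Cyc.IsSetup X δX)
    (hY : Cyc.IsSetup Y δY) (f : X ⟶ Y) [Flat f] (c : ℤ)
    (hF : ∀ z : X, δX z ≤ δY (f z) + c) (k : ℤ) (α : AlgebraicCycle Y ℤ)
    (h0 : Cyc.RatEquivZero δY k α) (α' : AlgebraicCycle X ℤ)
    (hα' : ⇑α' = Cyc.pullFun f δX δY c ⇑α) : Cyc.RatEquivZero δX (k + c) α' := by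
  haveI : IsLocallyNoetherian X := hX.1
  haveI : IsLocallyNoetherian Y := hY.1
  obtain ⟨ι, ξ, g, hδξ, hg0, hlf, hsum⟩ := h0
  let n : X → ℤ := fun ζ => ((Module.length (X.presheaf.stalk ζ) (X.presheaf.stalk ζ ⧸
      Ideal.map (f.stalkMap ζ).hom (maximalIdeal (Y.presheaf.stalk (f ζ))))).toNat : ℤ)
  let Gen : ι → Type u := fun i => {ζ : X // f ζ = ξ i ∧ δX ζ = k + 1 + c}
  let G : (i : ι) → (ζ : Gen i) → X.residueField ζ.1 := fun i ζ =>
    (f.residueFieldMap ζ.1).hom ((Y.residueFieldCongr ζ.2.1.symm).hom (g i))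
  have hG0 : ∀ i (ζ : Gen i), G i ζ ≠ 0 := fun i ζ =>
    (map_ne_zero (f.residueFieldMap ζ.1).hom).2
      ((map_ne_zero (Y.residueFieldCongr ζ.2.1.symm).hom.hom).2 (hg0 i))
  have hLF : ∀ x : X, ∃ U : Set X, IsOpen U ∧ x ∈ U ∧
      {j : Σ i, Gen i | (closure {j.2.1} ∩ U).Nonempty}.Finite := by
    intro x
    obtain ⟨U, hUo, hxU, hUfin⟩ := hlf (f x)
    obtain ⟨_, ⟨V, hV, rfl⟩, hxV, hVU⟩ := X.isBasis_affineOpens.exists_subset_of_mem_open
      (show x ∈ f ⁻¹' U from hxU) (hUo.preimage f.continuous)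
    refine ⟨V, V.2, hxV, ?_⟩
    have hS : ∀ i, {ζ : X | ζ ∈ V ∧ f ζ = ξ i ∧ δX ζ = δY (ξ i) + c}.Finite :=
      fun i => finite_points_of_delta δX hX.2.2 δY hY.2.2 f c hF (ξ i) hV
    have hfinprod := hUfin.prod (Set.Finite.biUnion hUfin (fun i _ => hS i))
    refine Set.Finite.of_injOn (f := fun j : Σ i, Gen i => (j.1, j.2.1)) ?_ ?_ hfinprod
    · rintro j ⟨y, hy1, hy2⟩
      have hmem : j.2.1 ∈ V := (specializes_iff_mem_closure.mpr hy1).mem_open V.2 hy2
      have hi : j.1 ∈ {i | (closure {ξ i} ∩ U).Nonempty} :=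
        ⟨ξ j.1, subset_closure rfl, by rw [← j.2.2.1]; exact hVU hmem⟩
      refine ⟨hi, ?_⟩
      rw [Set.mem_iUnion₂]
      exact ⟨j.1, hi, hmem, j.2.2.1, by rw [hδξ j.1]; exact j.2.2.2⟩
    · rintro ⟨i, ζ⟩ _ ⟨i', ζ'⟩ _ h
      simp only [Prod.mk.injEq] at h
      obtain ⟨rfl, h2⟩ := h
      have h3 : ζ = ζ' := Subtype.ext h2
      rw [h3]
  refine ⟨Σ i, Gen i, fun j => j.2.1, fun j => (G j.1 j.2) ^ (n j.2.1), ?_, ?_, hLF, ?_⟩
  · intro j
    show δX j.2.1 = k + c + 1
    have := j.2.2.2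
    omega
  · intro j
    exact zpow_ne_zero _ (hG0 j.1 j.2)
  intro x
  have hdivpow : ∀ j : Σ i, Gen i, Cyc.divFun δX j.2.1 ((G j.1 j.2) ^ (n j.2.1)) x =
      n j.2.1 * Cyc.divFun δX j.2.1 (G j.1 j.2) x :=
    fun j => divFun_zpow δX j.2.1 (hG0 j.1 j.2) (n j.2.1) x
  rw [finsum_congr hdivpow]
  have hsuppfin : (Function.support (fun j : Σ i, Gen i =>
      n j.2.1 * Cyc.divFun δX j.2.1 (G j.1 j.2) x)).Finite := by
    obtain ⟨U, hU, hxU, hfin⟩ := hLF x
    refine hfin.subset ?_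
    intro j hj
    rw [Function.mem_support] at hj
    by_contra hcon
    apply hj
    unfold Cyc.divFun
    rw [dif_neg, mul_zero]
    rintro ⟨hsp, -⟩
    exact hcon ⟨x, specializes_iff_mem_closure.mp hsp, hxU⟩
  rw [finsum_sigma_of_finite _ hsuppfin]
  have hA : ∀ i, Cyc.pullFun f δX δY c (Cyc.divFun δY (ξ i) (g i)) x =
      ∑ᶠ ζ : Gen i, n ζ.1 * Cyc.divFun δX ζ.1 (G i ζ) x := by
    intro i
    by_cases hmain : δX x = δY (f x) + c ∧ δY (f x) = k ∧ ξ i ⤳ f x
    · obtain ⟨hc1, hc2, hc3⟩ := hmain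
      have hξi : δY (ξ i) = δY (f x) + 1 := by rw [hδξ i, hc2]
      have hH : ∀ ζ : X, ζ ⤳ x → ζ ≠ x → ξ i ⤳ f ζ → f ζ = ξ i ∧ δX ζ = δX x + 1 := by
        intro ζ h1 h2 h3
        have h5 := (hX.2.2 ζ x h1 h2).1
        have h6 := hF ζ
        have h10 := hδξ i
        have hfz : f ζ = ξ i := by
          by_contra hne
          have h7 := (hY.2.2 (ξ i) (f ζ) h3 (Ne.symm hne)).1
          omega
        refine ⟨hfz, ?_⟩
        rw [hfz] at h6
        omega
      obtain ⟨hfin, hform⟩ := flat_local δX δY hX hY f x (ξ i) hc3 hξi (g i) (hg0 i) hH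
      have hL : Cyc.pullFun f δX δY c (Cyc.divFun δY (ξ i) (g i)) x =
          Cyc.ordAt (f x) (ξ i) hc3 (g i) * n x := by
        unfold Cyc.pullFun Cyc.divFun
        rw [if_pos hc1, dif_pos ⟨hc3, by omega⟩]
      rw [hL, hform]
      let e : {ζ : X // ζ ⤳ x ∧ ζ ≠ x ∧ f ζ = ξ i} → Gen i := fun t =>
        ⟨t.1, t.2.2.2, by
          have h1 := (hH t.1 t.2.1 t.2.2.1 (specializes_of_eq t.2.2.2.symm)).2
          omega⟩
      have heinj : Function.Injective e := by
        intro t t' h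
        have h1 : (e t).1 = (e t').1 := by rw [h]
        exact Subtype.ext h1
      have hre : ∀ Gf : Gen i → ℤ, Function.support Gf ⊆ Set.range e →
          ∑ᶠ ζ, Gf ζ = ∑ᶠ t, Gf (e t) := by
        intro Gf hsupp
        rw [← finsum_mem_range (f := Gf) heinj, finsum_mem_def,
          Set.indicator_eq_self.mpr hsupp]
      refine Eq.trans ?_ (hre _ ?_).symm
      swap
      · intro ζ hζ
        rw [Function.mem_support] at hζ
        by_cases hc : ζ.1 ⤳ x ∧ δX x + 1 = δX ζ.1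
        · have hnex : ζ.1 ≠ x := by
            intro he
            have h2 := hc.2
            rw [he] at h2
            omega
          exact ⟨⟨ζ.1, hc.1, hnex, ζ.2.1⟩, Subtype.ext rfl⟩
        · exfalso
          apply hζ
          unfold Cyc.divFun
          rw [dif_neg hc, mul_zero]
      refine finsum_congr (fun t => ?_)
      have hc : t.1 ⤳ x ∧ δX x + 1 = δX t.1 := ⟨t.2.1, by
        have h1 := (hH t.1 t.2.1 t.2.2.1 (specializes_of_eq t.2.2.2.symm)).2
        omega⟩
      show _ = n t.1 * Cyc.divFun δX t.1 (G i (e t)) x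
      unfold Cyc.divFun
      rw [dif_pos hc]
    · have hL : Cyc.pullFun f δX δY c (Cyc.divFun δY (ξ i) (g i)) x = 0 := by
        unfold Cyc.pullFun Cyc.divFun
        split_ifs with h1 h2
        · exfalso
          apply hmain
          have h10 := hδξ i
          exact ⟨h1, by omega, h2.1⟩
        · rw [zero_mul]
        · rfl
      rw [hL]
      symm
      refine finsum_eq_zero_of_forall_eq_zero (fun ζ => ?_)
      unfold Cyc.divFun
      by_cases hc : ζ.1 ⤳ x ∧ δX x + 1 = δX ζ.1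
      swap
      · rw [dif_neg hc, mul_zero]
      rw [dif_pos hc]
      have hsy : ξ i ⤳ f x := by
        rw [← ζ.2.1]
        exact hc.1.map f.continuous
      have hfx : f x = ξ i := by
        by_contra hne
        have h7 := (hY.2.2 (ξ i) (f x) hsy (Ne.symm hne)).1
        have h8 := hF x
        have h9 := ζ.2.2
        have h10 := hδξ i
        have h11 := hc.2
        apply hmain
        exact ⟨by omega, by omega, hsy⟩
      obtain ⟨u, hu, hug⟩ := exists_unit_specMap_of_eq (f x) (ξ i) hsy hfx (g i) (hg0 i)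
      have hgt : G i ζ = Cyc.specMap x ζ.1 hc.1 ((f.stalkMap x).hom u) := by
        show (f.residueFieldMap ζ.1).hom ((Y.residueFieldCongr ζ.2.1.symm).hom (g i)) = _
        rw [← hug]
        exact pulled_specMap f x ζ.1 hc.1 (ξ i) ζ.2.1 hsy u
      rw [hgt, ordAt_specMap_unit x ζ.1 hc.1 _ (hu.map _), mul_zero]
  rw [← finsum_congr hA, hα']
  unfold Cyc.pullFun
  by_cases hcond : δX x = δY (f x) + c
  · rw [if_pos hcond, hsum (f x), finsum_mul]
    refine finsum_congr (fun i => ?_)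
    rw [if_pos hcond]
  · rw [if_neg hcond]
    symm
    refine finsum_eq_zero_of_forall_eq_zero (fun i => ?_)
    rw [if_neg hcond]

end Groth.Agent.Helper7.KL
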