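import Mathlib
import Groth.Prelude.Def_C1
import Groth.Agent.Lib.Helper7.KL.FlatGlobal

set_option linter.style.haveILetI false
set_option linter.unusedVariables false
set_option linter.unusedSectionVars false
set_option autoImplicit false
set_option backward.isDefEq.respectTransparency.types false
set_option synthInstance.maxHeartbeats 400000
set_option maxHeartbeats 1600000

namespace Groth.Agent.Helper7.KL

open CategoryTheory CategoryTheory.Limits AlgebraicGeometry IsLocalRing TopologicalSpace Opposite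
open Groth.Agent.Lead.SecOrd Groth.Agent.Helper7.CycLim Groth.Agent.Helper7.DivFin
open Groth.Agent.Helper7.CycPull

universe u

/-! helper7: flat pullback preserves rational equivalence (S1856) and flat base change preserves rational equivalence to zero (S1940) -/

/-- if the dimension function jumps by `c` at the generic points of the fibres, it jumps by at
most `c` everywhere -/
theorem le_of_generic_fibre {X' X : Scheme.{u}} (δ' : X' → ℤ) (δ : X → ℤ)
    (hδ' : Cyc.IsDimFun X' δ') (p : X' ⟶ X) (c : ℤ)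
    (hc : ∀ x' : X', (∀ y, p y = p x' → y ⤳ x' → y = x') → δ' x' = δ (p x') + c) (z : X') :
    δ' z ≤ δ (p z) + c := by
  have hJ : (maximalIdeal (X.presheaf.stalk (p z))).map (p.stalkMap z).hom ≤
      maximalIdeal (X'.presheaf.stalk z) :=
    ((IsLocalRing.local_hom_TFAE (p.stalkMap z).hom).out 0 2 rfl rfl).mp inferInstance
  obtain ⟨q, hq, hqle⟩ := Ideal.exists_minimalPrimes_le hJ
  haveI hqp : q.IsPrime := hq.1.1
  obtain ⟨ζ₀, hζ₀, hker⟩ := exists_point_of_prime z q
  have hJq : (maximalIdeal (X.presheaf.stalk (p z))).map (p.stalkMap z).hom ≤ q := hq.1.2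
  have h' : p ζ₀ ⤳ p z := hζ₀.map p.continuous
  have hpz : p ζ₀ = p z := by
    apply (ker_specMap_eq_max_iff (p z) (p ζ₀) h').1
    rw [← comap_ker_specMap_stalkMap p z ζ₀ hζ₀ h', hker]
    have h1 : maximalIdeal (X.presheaf.stalk (p z)) ≤ q.comap (p.stalkMap z).hom :=
      Ideal.map_le_iff_le_comap.1 hJq
    exact ((maximalIdeal.isMaximal _).eq_of_le (Ideal.comap_ne_top _ hqp.ne_top) h1).symm
  have hgen : ∀ y, p y = p ζ₀ → y ⤳ ζ₀ → y = ζ₀ := by
    intro y hy hsp
    have hyz : y ⤳ z := hsp.trans hζ₀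
    have hle : RingHom.ker (Cyc.specMap z y hyz) ≤ q := by
      rw [← hker]
      exact ker_le_of_specializes z ζ₀ y hζ₀ hsp
    have hJy : (maximalIdeal (X.presheaf.stalk (p z))).map (p.stalkMap z).hom ≤
        RingHom.ker (Cyc.specMap z y hyz) := by
      have h'' : p y ⤳ p z := hyz.map p.continuous
      rw [Ideal.map_le_iff_le_comap, comap_ker_specMap_stalkMap p z y hyz h'']
      exact le_of_eq ((ker_specMap_eq_max_iff (p z) (p y) h'').2 (hy.trans hpz)).symm
    have hqle' : q ≤ RingHom.ker (Cyc.specMap z y hyz) :=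
      hq.2 ⟨RingHom.ker_isPrime _, hJy⟩ hle
    have heq : RingHom.ker (Cyc.specMap z y hyz) = RingHom.ker (Cyc.specMap z ζ₀ hζ₀) := by
      rw [hker]
      exact le_antisymm hle hqle'
    exact ker_specMap_injective z y ζ₀ hyz hζ₀ heq
  have h1 := hc ζ₀ hgen
  rw [hpz] at h1
  by_cases he : ζ₀ = z
  · rw [he] at h1
    omega
  · have h2 := (hδ' ζ₀ z hζ₀ he).1
    omega

/-- S1856: flat pullback preserves rational equivalence -/
theorem S1856_main (X Y : Scheme.{u}) (δX : X → ℤ) (δY : Y → ℤ) (hX : Cyc.IsSetup X δX)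
    (hY : Cyc.IsSetup Y δY) (f : X ⟶ Y) [Flat f] [LocallyOfFiniteType f] (r : ℕ)
    (hr : Cyc.HasRelDim f r) (hδ : Cyc.DeltaCompat f δX δY) (k : ℤ) (α β : AlgebraicCycle Y ℤ)
    (hα : α ∈ Cyc.Zk Y δY k) (hβ : β ∈ Cyc.Zk Y δY k) (h : Cyc.RatEquiv δY k α β)
    (α' β' : AlgebraicCycle X ℤ) (hα' : ⇑α' = Cyc.pullFun f δX δY r ⇑α)
    (hβ' : ⇑β' = Cyc.pullFun f δX δY r ⇑β) : Cyc.RatEquiv δX (k + r) α' β' := by
  haveI : IsLocallyNoetherian X := hX.1
  haveI : IsLocallyNoetherian Y := hY.1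
  unfold Cyc.RatEquiv at h ⊢
  have hle : ∀ z : X, δX z ≤ δY (f z) + (r : ℤ) := le_of_hasRelDim f r hr δX δY hδ
  refine flat_global X Y δX δY hX hY f (r : ℤ) hle k (α - β) h (α' - β') ?_
  funext x
  rw [Function.locallyFinsuppWithin.coe_sub, Pi.sub_apply, hα', hβ']
  unfold Cyc.pullFun
  rw [Function.locallyFinsuppWithin.coe_sub]
  split_ifs with h1
  · rw [Pi.sub_apply, sub_mul]
  · rw [sub_zero]

/-- S1940: flat base change preserves rational equivalence to zero -/
theorem S1940_main (X X' : Scheme.{u}) (δ : X → ℤ) (δ' : X' → ℤ) (hX : Cyc.IsSetup X δ)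
    (hX' : Cyc.IsSetup X' δ') (p : X' ⟶ X) [Flat p] (c : ℤ)
    (hc : ∀ x' : X', (∀ y, p y = p x' → y ⤳ x' → y = x') → δ' x' = δ (p x') + c) (k : ℤ)
    (α : AlgebraicCycle X ℤ) (hα : α ∈ Cyc.Zk X δ k) (h0 : Cyc.RatEquivZero δ k α)
    (α' : AlgebraicCycle X' ℤ) (hα' : ⇑α' = Cyc.pullFun p δ' δ c ⇑α) :
    Cyc.RatEquivZero δ' (k + c) α' :=
  flat_global X' X δ' δ hX' hX p c (le_of_generic_fibre δ' δ hX'.2.2 p c hc) k α h0 α' hα'

end Groth.Agent.Helper7.KL
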