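import Mathlib
import Groth.Prelude.Def_C1
import Groth.Agent.Lib.Helper7.KL.FlatGlobal
import Groth.Agent.Lib.Helper7.DivFin.GysinSelf

set_option linter.style.haveILetI false
set_option linter.unusedVariables false
set_option linter.unusedSectionVars false
set_option autoImplicit false
set_option backward.isDefEq.respectTransparency.types false
set_option synthInstance.maxHeartbeats 400000
set_option maxHeartbeats 1600000

namespace Groth.Agent.Helper7.KL

open CategoryTheory CategoryTheory.Limits AlgebraicGeometry IsLocalRing TopologicalSpace Opposite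
open Groth.Agent.Helper1.QcCech Groth.Agent.Helper1.LGen Groth.Agent.Lead.RkSch
open Groth.Agent.Helper1.PullSec Groth.Agent.Helper1.PullGen
open Groth.Agent.Lead.SecOrd Groth.Agent.Helper7.CycLim Groth.Agent.Helper7.DivFin
open Groth.Agent.Helper7.CycPull

universe u

/-! helper7: flat pullback of a principal divisor over a point, pullback cycles, pullback of rational sections along arbitrary morphisms -/

variable {X Y : Scheme.{u}}

/-- the flat pullback of a principal divisor on the closure of a point, as a sum over the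
points of maximal dimension over that point -/
theorem flat_pull_div (δX : X → ℤ) (δY : Y → ℤ) (hX : Cyc.IsSetup X δX)
    (hY : Cyc.IsSetup Y δY) (f : X ⟶ Y) [Flat f] (c : ℤ)
    (hF : ∀ z : X, δX z ≤ δY (f z) + c) (ξ : Y) (g : Y.residueField ξ) (hg : g ≠ 0) (x : X) :
    Cyc.pullFun f δX δY c (Cyc.divFun δY ξ g) x =
      ∑ᶠ ζ : {ζ : X // f ζ = ξ ∧ δX ζ = δY ξ + c},
        ((Module.length (X.presheaf.stalk ζ.1) (X.presheaf.stalk ζ.1 ⧸
          Ideal.map (f.stalkMap ζ.1).hom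
            (maximalIdeal (Y.presheaf.stalk (f ζ.1))))).toNat : ℤ) *
          Cyc.divFun δX ζ.1 ((f.residueFieldMap ζ.1).hom
            ((Y.residueFieldCongr ζ.2.1.symm).hom g)) x := by
  haveI : IsLocallyNoetherian X := hX.1
  haveI : IsLocallyNoetherian Y := hY.1
  by_cases hmain : δX x = δY (f x) + c ∧ δY (f x) + 1 = δY ξ ∧ ξ ⤳ f x
  · obtain ⟨hc1, hc2, hc3⟩ := hmain
    have hH : ∀ ζ : X, ζ ⤳ x → ζ ≠ x → ξ ⤳ f ζ → f ζ = ξ ∧ δX ζ = δX x + 1 := by
      intro ζ h1 h2 h3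
      have h5 := (hX.2.2 ζ x h1 h2).1
      have h6 := hF ζ
      have hfz : f ζ = ξ := by
        by_contra hne
        have h7 := (hY.2.2 ξ (f ζ) h3 (Ne.symm hne)).1
        omega
      refine ⟨hfz, ?_⟩
      rw [hfz] at h6
      omega
    obtain ⟨hfin, hform⟩ := flat_local δX δY hX hY f x ξ hc3 hc2.symm g hg hH
    have hL : Cyc.pullFun f δX δY c (Cyc.divFun δY ξ g) x =
        Cyc.ordAt (f x) ξ hc3 g *
          ((Module.length (X.presheaf.stalk x) (X.presheaf.stalk x ⧸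
            Ideal.map (f.stalkMap x).hom
              (maximalIdeal (Y.presheaf.stalk (f x))))).toNat : ℤ) := by
      unfold Cyc.pullFun Cyc.divFun
      rw [if_pos hc1, dif_pos ⟨hc3, hc2⟩]
    rw [hL, hform]
    let e : {ζ : X // ζ ⤳ x ∧ ζ ≠ x ∧ f ζ = ξ} →
        {ζ : X // f ζ = ξ ∧ δX ζ = δY ξ + c} := fun t =>
      ⟨t.1, t.2.2.2, by
        have h1 := (hH t.1 t.2.1 t.2.2.1 (specializes_of_eq t.2.2.2.symm)).2
        omega⟩
    have heinj : Function.Injective e := by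
      intro t t' h
      have h1 : (e t).1 = (e t').1 := by rw [h]
      exact Subtype.ext h1
    have hre : ∀ Gf : {ζ : X // f ζ = ξ ∧ δX ζ = δY ξ + c} → ℤ,
        Function.support Gf ⊆ Set.range e → ∑ᶠ ζ, Gf ζ = ∑ᶠ t, Gf (e t) := by
      intro Gf hsupp
      rw [← finsum_mem_range (f := Gf) heinj, finsum_mem_def,
        Set.indicator_eq_self.mpr hsupp]
    refine Eq.trans ?_ (hre _ ?_).symm
    swap
    · intro ζ hζ
      rw [Function.mem_support] at hζ
      by_cases hc : ζ.1 ⤳ x ∧ δX x + 1 = δX ζ.1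
      · have hnex : ζ.1 ≠ x := by
          intro he
          have h2 := hc.2
          rw [he] at h2
          omega
        exact ⟨⟨ζ.1, hc.1, hnex, ζ.2.1⟩, Subtype.ext rfl⟩
      · exfalso
        apply hζ
        unfold Cyc.divFun
        rw [dif_neg hc, mul_zero]
    refine finsum_congr (fun t => ?_)
    have hc : t.1 ⤳ x ∧ δX x + 1 = δX t.1 := ⟨t.2.1, by
      have h1 := (hH t.1 t.2.1 t.2.2.1 (specializes_of_eq t.2.2.2.symm)).2
      omega⟩
    show _ = ((Module.length (X.presheaf.stalk t.1) (X.presheaf.stalk t.1 ⧸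
          Ideal.map (f.stalkMap t.1).hom
            (maximalIdeal (Y.presheaf.stalk (f t.1))))).toNat : ℤ) *
        Cyc.divFun δX t.1 ((f.residueFieldMap t.1).hom
          ((Y.residueFieldCongr t.2.2.2.symm).hom g)) x
    unfold Cyc.divFun
    rw [dif_pos hc]
  · have hL : Cyc.pullFun f δX δY c (Cyc.divFun δY ξ g) x = 0 := by
      unfold Cyc.pullFun Cyc.divFun
      split_ifs with h1 h2
      · exfalso
        exact hmain ⟨h1, h2.2, h2.1⟩
      · rw [zero_mul]
      · rfl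
    rw [hL]
    symm
    refine finsum_eq_zero_of_forall_eq_zero (fun ζ => ?_)
    unfold Cyc.divFun
    by_cases hc : ζ.1 ⤳ x ∧ δX x + 1 = δX ζ.1
    swap
    · rw [dif_neg hc, mul_zero]
    rw [dif_pos hc]
    have hsy : ξ ⤳ f x := by
      rw [← ζ.2.1]
      exact hc.1.map f.continuous
    have hfx : f x = ξ := by
      by_contra hne
      have h7 := (hY.2.2 ξ (f x) hsy (Ne.symm hne)).1
      have h8 := hF x
      have h9 := ζ.2.2
      have h11 := hc.2
      apply hmain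
      exact ⟨by omega, by omega, hsy⟩
    obtain ⟨u, hu, hug⟩ := exists_unit_specMap_of_eq (f x) ξ hsy hfx g hg
    have hgt : (f.residueFieldMap ζ.1).hom ((Y.residueFieldCongr ζ.2.1.symm).hom g) =
        Cyc.specMap x ζ.1 hc.1 ((f.stalkMap x).hom u) := by
      rw [← hug]
      exact pulled_specMap f x ζ.1 hc.1 ξ ζ.2.1 hsy u
    rw [hgt, ordAt_specMap_unit x ζ.1 hc.1 _ (hu.map _), mul_zero]

/-- the flat pullback of a cycle is a cycle -/
theorem exists_pullCycle [IsLocallyNoetherian X] (δX : X → ℤ) (δY : Y → ℤ)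
    (hδX : Cyc.IsDimFun X δX) (hδY : Cyc.IsDimFun Y δY) (f : X ⟶ Y) (c : ℤ)
    (hF : ∀ z : X, δX z ≤ δY (f z) + c) (α : AlgebraicCycle Y ℤ) :
    ∃ β : AlgebraicCycle X ℤ, ⇑β = Cyc.pullFun f δX δY c ⇑α := by
  refine ⟨{ toFun := Cyc.pullFun f δX δY c ⇑α
            supportWithinDomain' := Set.subset_univ _
            supportLocallyFiniteWithinDomain' := fun z _ => ?_ }, rfl⟩
  obtain ⟨t, ht, hfin⟩ := α.supportLocallyFiniteWithinDomain (f z) (Set.mem_univ _)
  obtain ⟨_, ⟨V, hV, rfl⟩, hzV, hVt⟩ := X.isBasis_affineOpens.exists_subset_of_mem_open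
    (show z ∈ f ⁻¹' (interior t) from mem_interior_iff_mem_nhds.mpr ht)
    (isOpen_interior.preimage f.continuous)
  refine ⟨V, V.2.mem_nhds hzV, ?_⟩
  have hS : ∀ η, {ζ : X | ζ ∈ V ∧ f ζ = η ∧ δX ζ = δY η + c}.Finite :=
    fun η => finite_points_of_delta δX hδX δY hδY f c hF η hV
  refine (Set.Finite.biUnion hfin (fun η _ => hS η)).subset ?_
  rintro ζ ⟨hζV, hζ⟩
  rw [Function.mem_support] at hζ
  rw [Set.mem_iUnion₂]
  have hcond : δX ζ = δY (f ζ) + c := by
    by_contra hne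
    apply hζ
    unfold Cyc.pullFun
    rw [if_neg hne]
  have hα : α (f ζ) ≠ 0 := by
    intro h0
    apply hζ
    unfold Cyc.pullFun
    rw [if_pos hcond, h0, zero_mul]
  exact ⟨f ζ, ⟨interior_subset (hVt hζV), hα⟩, hζV, rfl, hcond⟩

/-- transporting the coefficient of a family of rational sections along an equality of points -/
theorem coeff_congr (L : Y.Modules) (v : (ξ : Y) → Cyc.secFibre L ξ) (W : Y.Opens)
    (a : Γ(L, W)) (η η' : Y) (e : η' = η) (hη : η ∈ W) (hη' : η' ∈ W)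
    (φ : Y.presheaf.stalk η) (hφ : v η = mkF L η (φ • L.presheaf.germ W η hη a)) :
    ∃ φ' : Y.presheaf.stalk η', v η' = mkF L η' (φ' • L.presheaf.germ W η' hη' a) ∧
      (Y.residue η').hom φ' = (Y.residueFieldCongr e.symm).hom ((Y.residue η).hom φ) := by
  subst e
  exact ⟨φ, hφ, rfl⟩

/-- pulling back a rational section along a morphism: the order of the pulled back section is
computed by the pulled back coefficient -/
theorem exists_pull_section_gen (f : X ⟶ Y) (L : Y.Modules) (hL : PicF.IsInvertible L) (ζ : X)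
    (w : Cyc.secFibre L (f ζ)) (hw : w ≠ 0) :
    ∃ τ : Cyc.secFibre ((Scheme.Modules.pullback f).obj L) ζ, τ ≠ 0 ∧
      ∀ (x : X) (h : ζ ⤳ x) (h' : f ζ ⤳ f x) (W : Y.Opens) (a : Γ(L, W)) (ha : IsGen L W a)
        (hxW : f x ∈ W) (φ : Y.presheaf.stalk (f ζ))
        (hφ : w = mkF L (f ζ) (φ • L.presheaf.germ W (f ζ) (h'.mem_open W.2 hxW) a)),
        Cyc.secOrdAt ((Scheme.Modules.pullback f).obj L) ζ x h τ =
          Cyc.ordAt x ζ h ((f.residueFieldMap ζ).hom ((Y.residue (f ζ)).hom φ)) := by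
  obtain ⟨W₀, a₀, hW₀, ha₀⟩ := exists_isGen hL (f ζ)
  obtain ⟨φ₀, hφ₀⟩ := exists_eq_mkF_smul ha₀ (f ζ) hW₀ w
  have hφ₀0 : (Y.residue (f ζ)).hom φ₀ ≠ 0 :=
    residue_ne_zero_of_mkF_ne_zero ha₀ _ hW₀ φ₀ (by rw [← hφ₀]; exact hw)
  have hb₀ : IsGen ((Scheme.Modules.pullback f).obj L) (f ⁻¹ᵁ W₀) (σ f L W₀ a₀) := isGen_σ f ha₀
  have hζW₀ : ζ ∈ f ⁻¹ᵁ W₀ := hW₀
  refine ⟨mkF ((Scheme.Modules.pullback f).obj L) ζ ((f.stalkMap ζ).hom φ₀ •
    ((Scheme.Modules.pullback f).obj L).presheaf.germ (f ⁻¹ᵁ W₀) ζ hζW₀ (σ f L W₀ a₀)), ?_, ?_⟩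
  · intro h0
    obtain ⟨hξ0, hξ1⟩ := (freeAt_iff (σ f L W₀ a₀) ζ hζW₀).1 (freeAt_of_isGen hb₀ ζ hζW₀)
    rw [mkF_smul_eq_zero_iff hξ0 hξ1] at h0
    have h1 : (X.residue ζ).hom ((f.stalkMap ζ).hom φ₀) = 0 :=
      (IsLocalRing.residue_eq_zero_iff _).2 h0
    rw [residue_stalkMap] at h1
    exact hφ₀0 ((map_eq_zero_iff _ (f.residueFieldMap ζ).hom.injective).1 h1)
  · intro x h h' W a ha hxW φ hφ
    have hζW : f ζ ∈ W := h'.mem_open W.2 hxW
    have hU : f ζ ∈ W₀ ⊓ W := ⟨hW₀, hζW⟩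
    obtain ⟨r, hr⟩ := (ha (W₀ ⊓ W) inf_le_right).2 (res L inf_le_left a₀)
    simp only [] at hr
    have e1 : L.presheaf.germ W₀ (f ζ) hW₀ a₀ =
        Y.presheaf.germ (W₀ ⊓ W) (f ζ) hU r • L.presheaf.germ W (f ζ) hζW a := by
      have h0 := congrArg (L.presheaf.germ (W₀ ⊓ W) (f ζ) hU) hr
      rw [gsm, germ_res, germ_res] at h0
      exact h0.symm
    have e1' : ((Scheme.Modules.pullback f).obj L).presheaf.germ (f ⁻¹ᵁ W₀) ζ hζW₀
          (σ f L W₀ a₀) =
        (f.stalkMap ζ).hom (Y.presheaf.germ (W₀ ⊓ W) (f ζ) hU r) •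
          ((Scheme.Modules.pullback f).obj L).presheaf.germ (f ⁻¹ᵁ W) ζ hζW (σ f L W a) := by
      have h1 : σ f L (W₀ ⊓ W) (res L inf_le_left a₀) =
          σ f L (W₀ ⊓ W) (r • res L inf_le_right a) := by rw [hr]
      have h2 := congrArg (((Scheme.Modules.pullback f).obj L).presheaf.germ
        (f ⁻¹ᵁ (W₀ ⊓ W)) ζ hU) h1
      rw [germ_σ_smul, ← σ_res f L inf_le_left a₀, ← σ_res f L inf_le_right a, germ_res,
        germ_res] at h2
      exact h2
    have hτ : mkF ((Scheme.Modules.pullback f).obj L) ζ ((f.stalkMap ζ).hom φ₀ •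
        ((Scheme.Modules.pullback f).obj L).presheaf.germ (f ⁻¹ᵁ W₀) ζ hζW₀ (σ f L W₀ a₀)) =
        mkF ((Scheme.Modules.pullback f).obj L) ζ
          ((f.stalkMap ζ).hom (φ₀ * Y.presheaf.germ (W₀ ⊓ W) (f ζ) hU r) •
            ((Scheme.Modules.pullback f).obj L).presheaf.germ (f ⁻¹ᵁ W) ζ hζW
              (σ f L W a)) := by
      rw [e1', smul_smul, ← map_mul]
    have hw' : w = mkF L (f ζ) ((φ₀ * Y.presheaf.germ (W₀ ⊓ W) (f ζ) hU r) •
        L.presheaf.germ W (f ζ) hζW a) := by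
      rw [hφ₀, e1, smul_smul]
    have hres : (Y.residue (f ζ)).hom φ =
        (Y.residue (f ζ)).hom (φ₀ * Y.presheaf.germ (W₀ ⊓ W) (f ζ) hU r) := by
      obtain ⟨hξ0, hξ1⟩ := (freeAt_iff a (f ζ) hζW).1 (freeAt_of_isGen ha (f ζ) hζW)
      have h0 : mkF L (f ζ) ((φ - φ₀ * Y.presheaf.germ (W₀ ⊓ W) (f ζ) hU r) •
          L.presheaf.germ W (f ζ) hζW a) = 0 := by
        have h3 : mkF L (f ζ) (φ • L.presheaf.germ W (f ζ) hζW a) =
            mkF L (f ζ) ((φ₀ * Y.presheaf.germ (W₀ ⊓ W) (f ζ) hU r) •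
              L.presheaf.germ W (f ζ) hζW a) := by rw [← hφ, ← hw']
        rw [sub_smul]
        unfold mkF at h3 ⊢
        rw [Submodule.Quotient.mk_sub, h3, sub_self]
      rw [mkF_smul_eq_zero_iff hξ0 hξ1] at h0
      have h4 := (IsLocalRing.residue_eq_zero_iff _).2 h0
      rw [map_sub, sub_eq_zero] at h4
      exact h4
    have hxW' : x ∈ f ⁻¹ᵁ W := hxW
    rw [hτ, secOrdAt_gen (isGen_σ f ha) x ζ hxW' h]
    change Cyc.ordAt x ζ h ((X.residue ζ).hom ((f.stalkMap ζ).hom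
      (φ₀ * Y.presheaf.germ (W₀ ⊓ W) (f ζ) hU r))) = _
    rw [residue_stalkMap, hres]

end Groth.Agent.Helper7.KL
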