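import Mathlib
import Groth.Prelude.Def_C1
import Groth.Agent.Lib.Helper7.KL.FlatC1
import Groth.Agent.Lib.Helper7.KL.FlatApps

set_option linter.style.haveILetI false
set_option linter.unusedVariables false
set_option linter.unusedSectionVars false
set_option autoImplicit false
set_option backward.isDefEq.respectTransparency.types false
set_option synthInstance.maxHeartbeats 400000
set_option maxHeartbeats 1600000

namespace Groth.Agent.Helper7.KL

open CategoryTheory CategoryTheory.Limits AlgebraicGeometry IsLocalRing TopologicalSpace Opposite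
open Groth.Agent.Helper1.QcCech Groth.Agent.Helper1.LGen Groth.Agent.Lead.RkSch
open Groth.Agent.Helper1.PullSec Groth.Agent.Helper1.PullGen
open Groth.Agent.Lead.SecOrd Groth.Agent.Helper7.CycLim Groth.Agent.Helper7.DivFin
open Groth.Agent.Helper7.CycPull

universe u

/-! helper7: flat pullback commutes with the first Chern class operation up to rational equivalence (S1927, S1946) -/

variable {X Y : Scheme.{u}}

/-- the flat pullback of the divisor of a rational section, as a sum over the points of maximal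
dimension over the given point, for pulled back sections `τ` -/
theorem flat_pull_secDiv (δX : X → ℤ) (δY : Y → ℤ) (hX : Cyc.IsSetup X δX)
    (hY : Cyc.IsSetup Y δY) (f : X ⟶ Y) [Flat f] (c : ℤ)
    (hF : ∀ z : X, δX z ≤ δY (f z) + c) (L : Y.Modules) (hL : PicF.IsInvertible L)
    (v : (ξ : Y) → Cyc.secFibre L ξ) (hv : ∀ ξ, v ξ ≠ 0)
    (τ : (ζ : X) → Cyc.secFibre ((Scheme.Modules.pullback f).obj L) ζ)
    (hτ : ∀ (ζ x : X) (h : ζ ⤳ x) (h' : f ζ ⤳ f x) (W : Y.Opens) (a : Γ(L, W))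
      (ha : IsGen L W a) (hxW : f x ∈ W) (φ : Y.presheaf.stalk (f ζ))
      (hφ : v (f ζ) = mkF L (f ζ) (φ • L.presheaf.germ W (f ζ) (h'.mem_open W.2 hxW) a)),
      Cyc.secOrdAt ((Scheme.Modules.pullback f).obj L) ζ x h (τ ζ) =
        Cyc.ordAt x ζ h ((f.residueFieldMap ζ).hom ((Y.residue (f ζ)).hom φ)))
    (η : Y) (x : X) :
    Cyc.pullFun f δX δY c (Cyc.secDivFun δY L η (v η)) x =
      ∑ᶠ ζ : {ζ : X // f ζ = η ∧ δX ζ = δY η + c},
        ((Module.length (X.presheaf.stalk ζ.1) (X.presheaf.stalk ζ.1 ⧸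
          Ideal.map (f.stalkMap ζ.1).hom
            (maximalIdeal (Y.presheaf.stalk (f ζ.1))))).toNat : ℤ) *
          Cyc.secDivFun δX ((Scheme.Modules.pullback f).obj L) ζ.1 (τ ζ.1) x := by
  by_cases hsp : η ⤳ f x
  swap
  · have hL0 : Cyc.pullFun f δX δY c (Cyc.secDivFun δY L η (v η)) x = 0 := by
      unfold Cyc.pullFun Cyc.secDivFun
      split_ifs with h1 h2
      · exact absurd h2.1 hsp
      · rw [zero_mul]
      · rfl
    rw [hL0]
    symm
    refine finsum_eq_zero_of_forall_eq_zero (fun ζ => ?_)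
    unfold Cyc.secDivFun
    rw [dif_neg, mul_zero]
    rintro ⟨h1, -⟩
    apply hsp
    rw [← ζ.2.1]
    exact h1.map f.continuous
  obtain ⟨W, a, hxW, ha⟩ := exists_isGen hL (f x)
  have hηW : η ∈ W := hsp.mem_open W.2 hxW
  obtain ⟨φ, hφ⟩ := exists_eq_mkF_smul ha η hηW (v η)
  have hψ0 : (Y.residue η).hom φ ≠ 0 :=
    residue_ne_zero_of_mkF_ne_zero ha η hηW φ (by rw [← hφ]; exact hv η)
  have h1 : Cyc.secDivFun δY L η (v η) (f x) = Cyc.divFun δY η ((Y.residue η).hom φ) (f x) := by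
    unfold Cyc.secDivFun Cyc.divFun
    by_cases hc : η ⤳ f x ∧ δY (f x) + 1 = δY η
    · rw [dif_pos hc, dif_pos hc, hφ]
      exact secOrdAt_gen ha (f x) η hxW hc.1 φ
    · rw [dif_neg hc, dif_neg hc]
  have h2 : Cyc.pullFun f δX δY c (Cyc.secDivFun δY L η (v η)) x =
      Cyc.pullFun f δX δY c (Cyc.divFun δY η ((Y.residue η).hom φ)) x := by
    unfold Cyc.pullFun
    rw [h1]
  rw [h2, flat_pull_div δX δY hX hY f c hF η _ hψ0 x]
  refine finsum_congr (fun ζ => ?_)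
  congr 1
  unfold Cyc.divFun Cyc.secDivFun
  by_cases hc : ζ.1 ⤳ x ∧ δX x + 1 = δX ζ.1
  swap
  · rw [dif_neg hc, dif_neg hc]
  rw [dif_pos hc, dif_pos hc]
  have h' : f ζ.1 ⤳ f x := hc.1.map f.continuous
  obtain ⟨φ', hφ', hres⟩ := coeff_congr L v W a η (f ζ.1) ζ.2.1 hηW (h'.mem_open W.2 hxW) φ hφ
  rw [hτ ζ.1 x hc.1 h' W a ha hxW φ' hφ', hres]

/-- flat pullback commutes with the first Chern class operation, up to rational equivalence -/
theorem flat_c1 (X Y : Scheme.{u}) (δX : X → ℤ) (δY : Y → ℤ) (hX : Cyc.IsSetup X δX)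
    (hY : Cyc.IsSetup Y δY) (f : X ⟶ Y) [Flat f] (c : ℤ)
    (hF : ∀ z : X, δX z ≤ δY (f z) + c) (L : Y.Modules) (hL : PicF.IsInvertible L) (k : ℤ)
    (α : AlgebraicCycle Y ℤ) (hα : α ∈ Cyc.Zk Y δY k)
    (v : (ξ : Y) → Cyc.secFibre L ξ) (hv : ∀ ξ, v ξ ≠ 0)
    (u : (ξ : X) → Cyc.secFibre ((Scheme.Modules.pullback f).obj L) ξ) (hu : ∀ ξ, u ξ ≠ 0)
    (γ₁ γ₂ : AlgebraicCycle X ℤ)
    (h₁ : ⇑γ₁ = Cyc.pullFun f δX δY c (Cyc.c1CapFun δY L ⇑α v))
    (h₂ : ⇑γ₂ = Cyc.c1CapFun δX ((Scheme.Modules.pullback f).obj L)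
      (Cyc.pullFun f δX δY c ⇑α) u) : Cyc.RatEquiv δX (k + c - 1) γ₁ γ₂ := by
  haveI : IsLocallyNoetherian X := hX.1
  haveI : IsLocallyNoetherian Y := hY.1
  obtain ⟨β, hβ⟩ := exists_pullCycle δX δY hX.2.2 hY.2.2 f c hF α
  have hβZ : β ∈ Cyc.Zk X δX (k + c - 1 + 1) := by
    intro ζ hζ
    rw [hβ]
    unfold Cyc.pullFun
    split_ifs with h1
    · have h2 : δY (f ζ) ≠ k := by
        intro h2
        apply hζ
        rw [h1, h2]
        ring
      rw [hα (f ζ) h2, zero_mul]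
    · rfl
  choose τ hτ0 hτ using fun ζ => exists_pull_section_gen f L hL ζ (v (f ζ)) (hv (f ζ))
  have h₂' : ⇑γ₂ = Cyc.c1CapFun δX ((Scheme.Modules.pullback f).obj L) ⇑β u := by
    rw [h₂, hβ]
  have h₁' : ⇑γ₁ = Cyc.c1CapFun δX ((Scheme.Modules.pullback f).obj L) ⇑β τ := by
    funext x
    rw [h₁]
    obtain ⟨n, hn⟩ : ∃ n : X → ℤ, n = fun ζ =>
        ((Module.length (X.presheaf.stalk ζ) (X.presheaf.stalk ζ ⧸
          Ideal.map (f.stalkMap ζ).hom
            (maximalIdeal (Y.presheaf.stalk (f ζ))))).toNat : ℤ) := ⟨_, rfl⟩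
    obtain ⟨S, hS⟩ : ∃ S : X → ℤ, S = fun ζ =>
        Cyc.secDivFun δX ((Scheme.Modules.pullback f).obj L) ζ (τ ζ) x := ⟨_, rfl⟩
    have hβn : ∀ ζ, β ζ = if δX ζ = δY (f ζ) + c then α (f ζ) * n ζ else 0 := by
      intro ζ
      rw [hβ, hn]
      rfl
    -- step 1
    have hstep1 : Cyc.pullFun f δX δY c (Cyc.c1CapFun δY L ⇑α v) x =
        ∑ᶠ η : Y, α η * Cyc.pullFun f δX δY c (Cyc.secDivFun δY L η (v η)) x := by
      unfold Cyc.pullFun Cyc.c1CapFun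
      by_cases hcond : δX x = δY (f x) + c
      · rw [if_pos hcond, finsum_mul]
        refine finsum_congr (fun η => ?_)
        rw [if_pos hcond, mul_assoc]
      · rw [if_neg hcond]
        symm
        refine finsum_eq_zero_of_forall_eq_zero (fun η => ?_)
        rw [if_neg hcond, mul_zero]
    -- step 2
    have hstep2 : ∀ η : Y, α η * Cyc.pullFun f δX δY c (Cyc.secDivFun δY L η (v η)) x =
        α η * ∑ᶠ ζ : {ζ : X // f ζ = η ∧ δX ζ = δY η + c}, n ζ.1 * S ζ.1 := by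
      intro η
      rw [flat_pull_secDiv δX δY hX hY f c hF L hL v hv τ hτ η x, hn, hS]
    rw [hstep1, finsum_congr hstep2]
    -- step 3
    let e : (Σ η : Y, {ζ : X // f ζ = η ∧ δX ζ = δY η + c}) → X := fun j => j.2.1
    have heinj : Function.Injective e := by
      rintro ⟨η, ζ, h1, h2⟩ ⟨η', ζ', h1', h2'⟩ h
      have hz : ζ = ζ' := h
      subst hz
      subst h1
      subst h1'
      rfl
    have hF' : ∀ j : Σ η : Y, {ζ : X // f ζ = η ∧ δX ζ = δY η + c},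
        β (e j) * S (e j) = α j.1 * (n j.2.1 * S j.2.1) := by
      intro j
      show β j.2.1 * S j.2.1 = _
      have hcond : δX j.2.1 = δY (f j.2.1) + c := by
        rw [j.2.2.1]
        exact j.2.2.2
      have hαj : α (f j.2.1) = α j.1 := congrArg (⇑α) j.2.2.1
      rw [hβn, if_pos hcond, hαj, mul_assoc]
    have hsuppF : (Function.support (fun j : Σ η : Y, {ζ : X // f ζ = η ∧ δX ζ = δY η + c} =>
        α j.1 * (n j.2.1 * S j.2.1))).Finite := by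
      refine Set.Finite.of_injOn (f := e) (t := {ζ | β ζ ≠ 0 ∧ ζ ⤳ x}) ?_ heinj.injOn
        (finite_support_specializes β x)
      intro j hj
      rw [Function.mem_support, ← hF' j] at hj
      refine ⟨left_ne_zero_of_mul hj, ?_⟩
      by_contra hns
      apply hj
      have h0 : S (e j) = 0 := by
        rw [hS]
        show Cyc.secDivFun δX ((Scheme.Modules.pullback f).obj L) (e j) (τ (e j)) x = 0
        unfold Cyc.secDivFun
        rw [dif_neg]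
        rintro ⟨h, -⟩
        exact hns h
      rw [h0, mul_zero]
    have hsupp : Function.support (fun ζ => β ζ * S ζ) ⊆ Set.range e := by
      intro ζ hζ
      rw [Function.mem_support] at hζ
      have hb : β ζ ≠ 0 := left_ne_zero_of_mul hζ
      have hcond : δX ζ = δY (f ζ) + c := by
        by_contra hne
        apply hb
        rw [hβn, if_neg hne]
      exact ⟨⟨f ζ, ζ, rfl, hcond⟩, rfl⟩
    unfold Cyc.c1CapFun
    calc ∑ᶠ η : Y, α η * ∑ᶠ ζ : {ζ : X // f ζ = η ∧ δX ζ = δY η + c}, n ζ.1 * S ζ.1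
        = ∑ᶠ η : Y, ∑ᶠ ζ : {ζ : X // f ζ = η ∧ δX ζ = δY η + c}, α η * (n ζ.1 * S ζ.1) :=
          finsum_congr (fun η => mul_finsum _ _)
      _ = ∑ᶠ j : Σ η : Y, {ζ : X // f ζ = η ∧ δX ζ = δY η + c}, α j.1 * (n j.2.1 * S j.2.1) :=
          (finsum_sigma_of_finite _ hsuppF).symm
      _ = ∑ᶠ j : Σ η : Y, {ζ : X // f ζ = η ∧ δX ζ = δY η + c}, β (e j) * S (e j) :=
          finsum_congr (fun j => (hF' j).symm)
      _ = ∑ᶠ ζ ∈ Set.range e, β ζ * S ζ := (finsum_mem_range (f := fun ζ => β ζ * S ζ) heinj).symm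
      _ = ∑ᶠ ζ, β ζ * S ζ := by
          rw [finsum_mem_def, Set.indicator_eq_self.mpr hsupp]
      _ = ∑ᶠ ζ, β ζ * Cyc.secDivFun δX ((Scheme.Modules.pullback f).obj L) ζ (τ ζ) x := by
          rw [hS]
  exact c1Cap_indep δX ((Scheme.Modules.pullback f).obj L) (isInvertible_pullback f hL)
    (k + c - 1) β hβZ τ hτ0 u hu γ₁ γ₂ h₁' h₂'

/-- S1927 -/
theorem S1927_main (X Y : Scheme.{u}) (δX : X → ℤ) (δY : Y → ℤ) (hX : Cyc.IsSetup X δX)
    (hY : Cyc.IsSetup Y δY) (f : X ⟶ Y) [Flat f] [LocallyOfFiniteType f] (r : ℕ)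
    (hr : Cyc.HasRelDim f r) (hδ : Cyc.DeltaCompat f δX δY) (L : Y.Modules)
    (hL : PicF.IsInvertible L) (k : ℤ) (α : AlgebraicCycle Y ℤ) (hα : α ∈ Cyc.Zk Y δY k)
    (v : (η : Y) → Cyc.secFibre L η) (hv : ∀ η, v η ≠ 0)
    (u : (ξ : X) → Cyc.secFibre ((Scheme.Modules.pullback f).obj L) ξ) (hu : ∀ ξ, u ξ ≠ 0)
    (γ₁ γ₂ : AlgebraicCycle X ℤ)
    (h₁ : ⇑γ₁ = Cyc.pullFun f δX δY r (Cyc.c1CapFun δY L ⇑α v))
    (h₂ : ⇑γ₂ = Cyc.c1CapFun δX ((Scheme.Modules.pullback f).obj L)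
      (Cyc.pullFun f δX δY r ⇑α) u) : Cyc.RatEquiv δX (k + r - 1) γ₁ γ₂ := by
  haveI : IsLocallyNoetherian X := hX.1
  haveI : IsLocallyNoetherian Y := hY.1
  have hle : ∀ z : X, δX z ≤ δY (f z) + (r : ℤ) := le_of_hasRelDim f r hr δX δY hδ
  exact flat_c1 X Y δX δY hX hY f (r : ℤ) hle L hL k α hα v hv u hu γ₁ γ₂ h₁ h₂

/-- S1946 -/
theorem S1946_main (X X' : Scheme.{u}) (δ : X → ℤ) (δ' : X' → ℤ) (hX : Cyc.IsSetup X δ)
    (hX' : Cyc.IsSetup X' δ') (p : X' ⟶ X) [Flat p] (c : ℤ)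
    (hc : ∀ x' : X', (∀ y, p y = p x' → y ⤳ x' → y = x') → δ' x' = δ (p x') + c)
    (L : X.Modules) (hL : PicF.IsInvertible L) (k : ℤ) (α : AlgebraicCycle X ℤ)
    (hα : α ∈ Cyc.Zk X δ k) (v : (ξ : X) → Cyc.secFibre L ξ) (hv : ∀ ξ, v ξ ≠ 0)
    (u : (ξ : X') → Cyc.secFibre ((Scheme.Modules.pullback p).obj L) ξ) (hu : ∀ ξ, u ξ ≠ 0)
    (γ₁ γ₂ : AlgebraicCycle X' ℤ)
    (h₁ : ⇑γ₁ = Cyc.pullFun p δ' δ c (Cyc.c1CapFun δ L ⇑α v))
    (h₂ : ⇑γ₂ = Cyc.c1CapFun δ' ((Scheme.Modules.pullback p).obj L)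
      (Cyc.pullFun p δ' δ c ⇑α) u) : Cyc.RatEquiv δ' (k + c - 1) γ₁ γ₂ :=
  flat_c1 X' X δ' δ hX' hX p c (le_of_generic_fibre δ' δ hX'.2.2 p c hc) L hL k α hα v hv u hu
    γ₁ γ₂ h₁ h₂

end Groth.Agent.Helper7.KL
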