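import Mathlib
import Groth.Prelude.Def_Tame
import Groth.Agent.Lib.Lead.SecOrd0
import Groth.Agent.Lib.Helper7.CycPull.DivPull
import Groth.Agent.Lib.Helper7.KL.Stalk
import Groth.Agent.Lib.Helper7.KL.AlgRel

set_option linter.style.haveILetI false
set_option linter.unusedVariables false
set_option linter.unusedSectionVars false
set_option autoImplicit false
set_option backward.isDefEq.respectTransparency.types false
set_option synthInstance.maxHeartbeats 400000
set_option maxHeartbeats 1600000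

namespace Groth.Agent.Helper7.KL

open Groth.Agent.Helper9.SubQuotLen IsLocalRing
open Groth.Agent.Lead.SecOrd Groth.Agent.Helper7.CycPull

universe u

/-! helper7: the difference of lengths of quotients by fractional multiples of an ideal quotient as a weighted sum of orders over the minimal primes (S6480) -/

theorem S6480_main {A : Type u} [CommRing A] [IsNoetherianRing A] [IsLocalRing A]
    (hA : ringKrullDim A = 1) {M : Type u} [AddCommGroup M] [Module A M] [Module.Finite A M]
    (a b : A) (ha : a ∈ nonZeroDivisors A) (hb : b ∈ nonZeroDivisors A)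
    (hMemb : ∀ p ∈ associatedPrimes A M, p ∈ minimalPrimes A)
    (hsupp : Module.support A M = Set.univ) (I : Ideal A)
    (hI : I = (Ideal.span {b}).colon (Ideal.span {a})) (P : Submodule A M)
    (hP : P = Submodule.comap (LinearMap.lsmul A M b)
      ((Ideal.span {a} * I) • (⊤ : Submodule A M))) :
    (Ideal.span {a} * I) • (⊤ : Submodule A M) ≤ LinearMap.range (LinearMap.lsmul A M b) ∧
    ((Module.length A (M ⧸ P)).toNat : ℤ) -
        ((Module.length A (M ⧸ I • (⊤ : Submodule A M))).toNat : ℤ) =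
      ∑ᶠ (q : PrimeSpectrum A) (_ : q.asIdeal ∈ minimalPrimes A),
        ((Module.length (Localization.AtPrime q.asIdeal)
          (LocalizedModule q.asIdeal.primeCompl M)).toNat : ℤ) *
          CycAlg.ordFrac (A ⧸ q.asIdeal) q.asIdeal.ResidueField
            (algebraMap A q.asIdeal.ResidueField a / algebraMap A q.asIdeal.ResidueField b) := by
  haveI hK1 : Ring.KrullDimLE 1 A := by
    rw [Ring.krullDimLE_iff, hA, Nat.cast_one]
  have hminQ : ∀ q : QQ A, q.1.asIdeal ∈ minimalPrimes A := by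
    intro q
    rcases Ring.krullDimLE_one_iff.1 hK1 q.1.asIdeal q.1.isPrime with h | h
    · exact h
    · exact absurd (IsLocalRing.eq_maximalIdeal h) q.2
  have hmax_not_min : maximalIdeal A ∉ minimalPrimes A := by
    intro hm
    have h0 : Ring.KrullDimLE 0 A := by
      rw [Ring.krullDimLE_zero_iff]
      intro p hp
      have hle : p ≤ maximalIdeal A := le_maximalIdeal hp.ne_top
      have hge : maximalIdeal A ≤ p := hm.2 ⟨hp, bot_le⟩ hle
      rw [le_antisymm hle hge]
      exact maximalIdeal.isMaximal A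
    have h1 := Ring.krullDimLE_iff.1 h0
    rw [hA, Nat.cast_zero] at h1
    exact zero_lt_one.not_ge h1
  have hdim : ∀ (q : QQI (Module.annihilator A M)) (p : PrimeSpectrum A),
      Module.annihilator A M ≤ p.asIdeal → p.asIdeal ≤ q.1.1.asIdeal → p = q.1.1 := by
    intro q p _ hle
    have hge : q.1.1.asIdeal ≤ p.asIdeal := (hminQ q.1).2 ⟨p.isPrime, bot_le⟩ hle
    exact PrimeSpectrum.ext (le_antisymm hle hge)
  have hinj : ∀ c ∈ nonZeroDivisors A, Function.Injective (fun m : M => c • m) := by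
    intro c hc m m' hmm
    by_contra hne
    have hsub : m - m' ≠ 0 := sub_ne_zero.2 hne
    have h0 : c • (m - m') = 0 := by
      rw [smul_sub]
      exact sub_eq_zero.2 hmm
    have hmem : c ∈ {r : A | ∃ x : M, x ≠ 0 ∧ r • x = 0} := ⟨m - m', hsub, h0⟩
    rw [← biUnion_associatedPrimes_eq_zero_divisors A M] at hmem
    obtain ⟨p, hp, hcp⟩ := Set.mem_iUnion₂.1 hmem
    exact Set.disjoint_left.mp
      (Ideal.disjoint_nonZeroDivisors_of_mem_minimalPrimes (hMemb p hp)) hcp hc
  obtain ⟨hfin, h1a, hnea, hKLa⟩ := kl_module a M (hinj a ha) hdim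
  obtain ⟨-, h1b, hneb, hKLb⟩ := kl_module b M (hinj b hb) hdim
  have hka : LinearMap.ker (LinearMap.lsmul A M a) = ⊥ := LinearMap.ker_eq_bot.2 (hinj a ha)
  have hkb : LinearMap.ker (LinearMap.lsmul A M b) = ⊥ := LinearMap.ker_eq_bot.2 (hinj b hb)
  have hIb : b ∈ I := by
    rw [hI, Submodule.mem_colon]
    intro s hs
    rw [smul_eq_mul]
    exact Ideal.mul_mem_right _ _ (Ideal.subset_span rfl)
  have hmul_le : Ideal.span {a} * I ≤ Ideal.span {b} := by
    rw [Ideal.mul_le]
    intro r hr x hx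
    rw [hI, Submodule.mem_colon] at hx
    obtain ⟨c, rfl⟩ := Ideal.mem_span_singleton'.1 hr
    have h2 := hx a (Ideal.subset_span rfl)
    rw [smul_eq_mul] at h2
    have h3 : c * a * x = c * (x * a) := by ring
    rw [h3]
    exact Ideal.mul_mem_left _ c h2
  obtain ⟨N₀, hN₀⟩ : ∃ N₀ : Submodule A M, N₀ = (Ideal.span {a} * I) • (⊤ : Submodule A M) :=
    ⟨_, rfl⟩
  rw [← hN₀] at hP ⊢
  have hN0b : N₀ ≤ LinearMap.range (LinearMap.lsmul A M b) := by
    rw [hN₀, Submodule.smul_le]
    intro r hr n _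
    obtain ⟨c, rfl⟩ := Ideal.mem_span_singleton'.1 (hmul_le hr)
    exact ⟨c • n, by rw [LinearMap.lsmul_apply, smul_smul, mul_comm]⟩
  have hN0a : N₀ ≤ LinearMap.range (LinearMap.lsmul A M a) := by
    rw [hN₀, Submodule.smul_le]
    intro r hr n _
    have hle' : Ideal.span {a} * I ≤ Ideal.span {a} := Ideal.mul_le_left
    obtain ⟨c, rfl⟩ := Ideal.mem_span_singleton'.1 (hle' hr)
    exact ⟨c • n, by rw [LinearMap.lsmul_apply, smul_smul, mul_comm]⟩
  refine ⟨hN0b, ?_⟩
  have hmapa : (I • (⊤ : Submodule A M)).map (LinearMap.lsmul A M a) = N₀ := by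
    rw [hN₀, Submodule.mul_smul, Submodule.ideal_span_singleton_smul]
    ext m
    rw [Submodule.mem_map, Submodule.mem_smul_pointwise_iff_exists]
    constructor
    · rintro ⟨y, hy, rfl⟩
      exact ⟨y, hy, rfl⟩
    · rintro ⟨y, hy, rfl⟩
      exact ⟨y, hy, rfl⟩
  have hmapb : P.map (LinearMap.lsmul A M b) = N₀ := by
    rw [hP, Submodule.map_comap_eq, inf_eq_right.2 hN0b]
  have E1 : sqLen N₀ ⊤ = sqLen N₀ (LinearMap.range (LinearMap.lsmul A M a)) +
      sqLen (LinearMap.range (LinearMap.lsmul A M a)) ⊤ := sqLen_add hN0a le_top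
  have E2 : sqLen N₀ (LinearMap.range (LinearMap.lsmul A M a)) =
      sqLen (I • (⊤ : Submodule A M)) ⊤ := by
    have h := sqLen_map (LinearMap.lsmul A M a) (A := I • (⊤ : Submodule A M)) (B := ⊤) le_top
      (by rw [hka, bot_inf_eq]; exact bot_le)
    rw [hmapa, Submodule.map_top] at h
    exact h
  have E3 : sqLen N₀ ⊤ = sqLen N₀ (LinearMap.range (LinearMap.lsmul A M b)) +
      sqLen (LinearMap.range (LinearMap.lsmul A M b)) ⊤ := sqLen_add hN0b le_top
  have E4 : sqLen N₀ (LinearMap.range (LinearMap.lsmul A M b)) = sqLen P ⊤ := by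
    have h := sqLen_map (LinearMap.lsmul A M b) (A := P) (B := ⊤) le_top
      (by rw [hkb, bot_inf_eq]; exact bot_le)
    rw [hmapb, Submodule.map_top] at h
    exact h
  have hbI : LinearMap.range (LinearMap.lsmul A M b) ≤ I • (⊤ : Submodule A M) := by
    rintro _ ⟨y, rfl⟩
    show b • y ∈ _
    exact Submodule.smul_mem_smul hIb trivial
  have hIle : sqLen (I • (⊤ : Submodule A M)) ⊤ ≤
      sqLen (LinearMap.range (LinearMap.lsmul A M b)) ⊤ := sqLen_le_of_le hbI le_top le_rfl
  rw [sqLen_top_right (I • (⊤ : Submodule A M)),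
    sqLen_top_right (LinearMap.range (LinearMap.lsmul A M b))] at hIle
  have hsum : Module.length A (M ⧸ I • (⊤ : Submodule A M)) +
      Module.length A (M ⧸ LinearMap.range (LinearMap.lsmul A M a)) =
      Module.length A (M ⧸ P) + Module.length A (M ⧸ LinearMap.range (LinearMap.lsmul A M b)) := by
    rw [← sqLen_top_right (I • (⊤ : Submodule A M)),
      ← sqLen_top_right (LinearMap.range (LinearMap.lsmul A M a)),
      ← sqLen_top_right P, ← sqLen_top_right (LinearMap.range (LinearMap.lsmul A M b)),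
      ← E2, ← E4, ← E1, ← E3]
  have hIne : Module.length A (M ⧸ I • (⊤ : Submodule A M)) ≠ ⊤ :=
    ne_top_of_le_ne_top hneb hIle
  have hPne : Module.length A (M ⧸ P) ≠ ⊤ := by
    intro h
    rw [h, top_add] at hsum
    rcases ENat.add_eq_top.1 hsum with h' | h'
    · exact hIne h'
    · exact hnea h'
  have hLHS : ((Module.length A (M ⧸ P)).toNat : ℤ) -
      ((Module.length A (M ⧸ I • (⊤ : Submodule A M))).toNat : ℤ) =
      ((Module.length A (M ⧸ LinearMap.range (LinearMap.lsmul A M a))).toNat : ℤ) -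
      ((Module.length A (M ⧸ LinearMap.range (LinearMap.lsmul A M b))).toNat : ℤ) := by
    obtain ⟨nI, hnI⟩ := ENat.ne_top_iff_exists.1 hIne
    obtain ⟨nP, hnP⟩ := ENat.ne_top_iff_exists.1 hPne
    obtain ⟨na, hna⟩ := ENat.ne_top_iff_exists.1 hnea
    obtain ⟨nb, hnb⟩ := ENat.ne_top_iff_exists.1 hneb
    rw [← hnI, ← hnP, ← hna, ← hnb] at hsum
    rw [← hnI, ← hnP, ← hna, ← hnb, ENat.toNat_natCast, ENat.toNat_natCast, ENat.toNat_natCast,
      ENat.toNat_natCast]
    have h2 : nI + na = nP + nb := by exact_mod_cast hsum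
    omega
  rw [hLHS]
  haveI := hfin
  rw [toNat_finsum_mul _ _ _ hnea hKLa, toNat_finsum_mul _ _ _ hneb hKLb,
    ← finsum_sub_distrib (Set.toFinite _) (Set.toFinite _)]
  rw [← finsum_subtype_eq_finsum_cond]
  let e : QQI (Module.annihilator A M) →
      {q : PrimeSpectrum A // q.asIdeal ∈ minimalPrimes A} := fun q => ⟨q.1.1, hminQ q.1⟩
  have heinj : Function.Injective e := by
    intro q q' h
    have h' : (e q).1 = (e q').1 := congrArg Subtype.val h
    exact Subtype.ext (Subtype.ext h')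
  have hesurj : Function.Surjective e := by
    rintro ⟨q, hq⟩
    have hqm : q.asIdeal ≠ maximalIdeal A := by
      intro h
      rw [h] at hq
      exact hmax_not_min hq
    have hann : Module.annihilator A M ≤ q.asIdeal := by
      rw [← Module.mem_support_iff_of_finite, hsupp]
      trivial
    exact ⟨⟨⟨q, hqm⟩, hann⟩, rfl⟩
  have hord : ∀ q : QQI (Module.annihilator A M),
      CycAlg.ordFrac (A ⧸ q.1.1.asIdeal) q.1.1.asIdeal.ResidueField
        (algebraMap A q.1.1.asIdeal.ResidueField a /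
          algebraMap A q.1.1.asIdeal.ResidueField b) =
      ((cq a q.1.1).toNat : ℤ) - ((cq b q.1.1).toNat : ℤ) := by
    intro q
    haveI := q.1.1.isPrime
    haveI : Ring.KrullDimLE 1 (A ⧸ q.1.1.asIdeal) :=
      Ring.krullDimLE_iff.2 ((ringKrullDim_quotient_le _).trans (Ring.krullDimLE_iff.1 hK1))
    have hane : Ideal.Quotient.mk q.1.1.asIdeal a ≠ 0 :=
      fun h0 => h1a q (Ideal.Quotient.eq_zero_iff_mem.1 h0)
    have hbne : Ideal.Quotient.mk q.1.1.asIdeal b ≠ 0 :=
      fun h0 => h1b q (Ideal.Quotient.eq_zero_iff_mem.1 h0)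
    have ea : algebraMap A q.1.1.asIdeal.ResidueField a =
        algebraMap (A ⧸ q.1.1.asIdeal) q.1.1.asIdeal.ResidueField
          (Ideal.Quotient.mk _ a) :=
      IsScalarTower.algebraMap_apply A (A ⧸ q.1.1.asIdeal) _ a
    have eb : algebraMap A q.1.1.asIdeal.ResidueField b =
        algebraMap (A ⧸ q.1.1.asIdeal) q.1.1.asIdeal.ResidueField
          (Ideal.Quotient.mk _ b) :=
      IsScalarTower.algebraMap_apply A (A ⧸ q.1.1.asIdeal) _ b
    have hinjK := IsFractionRing.injective (A ⧸ q.1.1.asIdeal) q.1.1.asIdeal.ResidueField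
    have hane' : algebraMap (A ⧸ q.1.1.asIdeal) q.1.1.asIdeal.ResidueField
        (Ideal.Quotient.mk _ a) ≠ 0 := fun h0 => hane (hinjK (by rw [h0, map_zero]))
    have hbne' : algebraMap (A ⧸ q.1.1.asIdeal) q.1.1.asIdeal.ResidueField
        (Ideal.Quotient.mk _ b) ≠ 0 := fun h0 => hbne (hinjK (by rw [h0, map_zero]))
    rw [ea, eb, ordFrac_eq, map_div₀,
      toZ_div ((map_ne_zero _).2 hane') ((map_ne_zero _).2 hbne'),
      toZ_ordFrac_algebraMap _ hane, toZ_ordFrac_algebraMap _ hbne]
    rfl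
  refine finsum_eq_of_bijective e ⟨heinj, hesurj⟩ (fun q => ?_)
  show ((lenAt q.1.1 M).toNat : ℤ) * ((cq a q.1.1).toNat : ℤ) -
      ((lenAt q.1.1 M).toNat : ℤ) * ((cq b q.1.1).toNat : ℤ) =
    ((lenAt q.1.1 M).toNat : ℤ) *
      CycAlg.ordFrac (A ⧸ q.1.1.asIdeal) q.1.1.asIdeal.ResidueField
        (algebraMap A q.1.1.asIdeal.ResidueField a /
          algebraMap A q.1.1.asIdeal.ResidueField b)
  rw [hord q, mul_sub]

end Groth.Agent.Helper7.KL
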